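import Groth.Agent.IntMult63.FlatPull
import Groth.Agent.DevK.Closure

/-! Bilinearity of the intersection product, and flat pull-back of products of cycles. -/

set_option autoImplicit false
set_option linter.style.haveILetI false
set_option linter.unusedSectionVars false
set_option backward.isDefEq.respectTransparency false
set_option backward.isDefEq.respectTransparency.types false

universe u

open CategoryTheory AlgebraicGeometry IsLocalRing
open scoped Classical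

namespace Groth.Agent.IntMult63

open Groth.Agent CDiv6 H23.StalkPrimes

variable {X : Scheme.{u}}

theorem finite_gens_cycle (α : AlgebraicCycle X ℤ) (y : X) : {ξ : X | ξ ⤳ y ∧ α ξ ≠ 0}.Finite := by
  obtain ⟨t, ht, hfin⟩ := α.supportLocallyFiniteWithinDomain' y trivial
  obtain ⟨U, hUt, hU, hy⟩ := mem_nhds_iff.1 ht
  exact hfin.subset fun ξ hξ => ⟨hUt (hξ.1.mem_open hU hy), hξ.2⟩

/-- The intersection product is bilinear. -/
theorem interProd_sum {ι κ : Type*} (I : Finset ι) (J : Finset κ) (a : ι → ℤ) (b : κ → ℤ) (u : ι → X → ℤ)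
    (v : κ → X → ℤ) (δ : X → ℤ) (n : ℤ) {α β : X → ℤ} {ζ : X}
    (hα : ∀ p : X, p ⤳ ζ → α p = ∑ i ∈ I, a i * u i p) (hβ : ∀ p : X, p ⤳ ζ → β p = ∑ j ∈ J, b j * v j p)
    (hu : ∀ i ∈ I, {p : X | p ⤳ ζ ∧ u i p ≠ 0}.Finite) (hv : ∀ j ∈ J, {p : X | p ⤳ ζ ∧ v j p ≠ 0}.Finite) :
    IntMult.interProd δ n α β ζ = ∑ i ∈ I, ∑ j ∈ J, a i * b j * IntMult.interProd δ n (u i) (v j) ζ := by
  have hS : (⋃ i ∈ I, {p : X | p ⤳ ζ ∧ u i p ≠ 0}).Finite := I.finite_toSet.biUnion hu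
  have hT : (⋃ j ∈ J, {p : X | p ⤳ ζ ∧ v j p ≠ 0}).Finite := J.finite_toSet.biUnion hv
  have hW : {p : {p : X × X // p.1 ⤳ ζ ∧ p.2 ⤳ ζ ∧ δ p.1 + δ p.2 - n = δ ζ} |
      p.1.1 ∈ (⋃ i ∈ I, {p : X | p ⤳ ζ ∧ u i p ≠ 0}) ∧ p.1.2 ∈ (⋃ j ∈ J, {p : X | p ⤳ ζ ∧ v j p ≠ 0})}.Finite :=
    ((hS.prod hT).preimage Subtype.val_injective.injOn).subset fun p hp => hp
  unfold IntMult.interProd
  rw [finsum_eq_sum_of_support_subset _ (s := hW.toFinset)]
  · have key : ∀ i ∈ I, ∀ j ∈ J, (∑ᶠ p : {p : X × X // p.1 ⤳ ζ ∧ p.2 ⤳ ζ ∧ δ p.1 + δ p.2 - n = δ ζ},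
        u i p.1.1 * v j p.1.2 * IntMult.mult (IntMult.ptIdeal p.1.1) (IntMult.ptIdeal p.1.2) ζ) =
        ∑ p ∈ hW.toFinset, u i p.1.1 * v j p.1.2 * IntMult.mult (IntMult.ptIdeal p.1.1) (IntMult.ptIdeal p.1.2) ζ := by
      intro i hi j hj
      refine finsum_eq_sum_of_support_subset _ fun p hp => ?_
      simp only [Function.mem_support] at hp
      rw [Set.Finite.coe_toFinset]
      exact ⟨Set.mem_biUnion hi ⟨p.2.1, left_ne_zero_of_mul (left_ne_zero_of_mul hp)⟩,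
        Set.mem_biUnion hj ⟨p.2.2.1, right_ne_zero_of_mul (left_ne_zero_of_mul hp)⟩⟩
    rw [Finset.sum_congr rfl fun i hi => Finset.sum_congr rfl fun j hj =>
      congrArg (a i * b j * ·) (key i hi j hj)]
    simp only [Finset.mul_sum]
    rw [Finset.sum_congr rfl fun i _ => Finset.sum_comm, Finset.sum_comm]
    refine Finset.sum_congr rfl fun p _ => ?_
    rw [hα _ p.2.1, hβ _ p.2.2.1, Finset.sum_mul_sum, Finset.sum_mul]
    refine Finset.sum_congr rfl fun i _ => ?_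
    rw [Finset.sum_mul]
    exact Finset.sum_congr rfl fun j _ => by ring
  · intro p hp
    simp only [Function.mem_support] at hp
    rw [Set.Finite.coe_toFinset]
    refine ⟨?_, ?_⟩
    · by_contra hn
      refine left_ne_zero_of_mul (left_ne_zero_of_mul hp) ?_
      rw [hα _ p.2.1, Finset.sum_eq_zero fun i hi => ?_]
      refine mul_eq_zero_of_right _ (not_not.1 fun h => hn (Set.mem_biUnion hi ⟨p.2.1, h⟩))
    · by_contra hn
      refine right_ne_zero_of_mul (left_ne_zero_of_mul hp) ?_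
      rw [hβ _ p.2.2.1, Finset.sum_eq_zero fun j hj => ?_]
      refine mul_eq_zero_of_right _ (not_not.1 fun h => hn (Set.mem_biUnion hj ⟨p.2.2.1, h⟩))

/-- The cycle of the structure sheaf of the closure of a point. -/
theorem sheafFun_closure [IsLocallyNoetherian X] {δ : X → ℤ} (hd : Cyc.IsDimFun X δ) (ξ : X) :
    (∀ x : X, Nontrivial ((Cyc.closureStructureSheaf ξ).presheaf.stalk x) → ξ ⤳ x ∧ δ x ≤ δ ξ) ∧
      Cyc.sheafFun δ (δ ξ) (Cyc.closureStructureSheaf ξ) = fun p => if p = ξ then 1 else 0 := by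
  have hsp : ∀ x : X, Nontrivial ((Cyc.closureStructureSheaf ξ).presheaf.stalk x) → ξ ⤳ x :=
    fun x hx => not_not.1 fun h => DevK.not_nz_closure ξ h hx
  refine ⟨fun x hx => ⟨hsp x hx, CycLib.delta_le hd (hsp x hx)⟩, funext fun x => ?_⟩
  unfold Cyc.sheafFun
  by_cases hx : x = ξ
  · subst hx
    simp [DevK.length_closure]
  · rw [if_neg hx]
    by_cases hδ : δ x = δ ξ
    · haveI : Subsingleton ((Cyc.closureStructureSheaf ξ).presheaf.stalk x) :=
        not_nontrivial_iff_subsingleton.1 fun h => hx (CycLib.eq_of_delta_le hd (hsp x h) hδ.ge).symm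
      simp [hδ, Module.length_eq_zero]
    · rw [if_neg hδ]

theorem finite_gens_sheafFun {K : Type u} [Field K] (f : X ⟶ Spec (CommRingCat.of K)) [Smooth f] {δ : X → ℤ}
    (hd : Cyc.IsDimFun X δ) {F : X.Modules} (hF : Coh.IsCoh F) {r : ℤ} {ζ : X}
    (hr : ∀ x : X, Nontrivial (F.presheaf.stalk x) → δ x ≤ r) :
    {p : X | p ⤳ ζ ∧ Cyc.sheafFun δ r F p ≠ 0}.Finite := by
  haveI := LocallyOfFiniteType.isLocallyNoetherian f
  haveI := GrpSchLib.isRegularLocalRing_stalk_of_smooth f ζ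
  haveI := finite_stalk hF ζ
  let P : X → PrimeSpectrum (X.presheaf.stalk ζ) := fun p =>
    if h : p ⤳ ζ then primeOf h else closedPoint _
  have hP : ∀ p (h : p ⤳ ζ), P p = primeOf h := fun p h => dif_pos h
  refine Set.Finite.of_finite_image ((((finite_cAt (F.presheaf.stalk ζ)
    (supportDim_stalk_le hd hF (x := ζ) fun x _ => hr x)).image Subtype.val).subset ?_)) (f := P)
    fun p hp q hq e => ?_
  · rintro _ ⟨p, ⟨hp, h0⟩, rfl⟩
    obtain ⟨e, -⟩ := sheafFun_ne_zero hF h0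
    refine ⟨⟨P p, ?_⟩, ?_, rfl⟩
    · rw [hP p hp, dim_quot_primeOf hd hp, e]
    · simp only [Function.mem_support, hP p hp, cAt_primeOf hF hp]
      simp only [Cyc.sheafFun, e] at h0
      simpa using h0
  · rw [hP p hp.1, hP q hq.1] at e
    exact primeOf_inj hp.1 hq.1 (congrArg PrimeSpectrum.asIdeal e)

theorem pullFun_interProd_cycles {Y : Scheme.{u}} (f : X ⟶ Y) [Flat f] {K : Type u} [Field K]
    (gX : X ⟶ Spec (CommRingCat.of K)) (gY : Y ⟶ Spec (CommRingCat.of K)) [Smooth gX] [Smooth gY] [IsIntegral X]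
    [IsIntegral Y] {δX : X → ℤ} {δY : Y → ℤ} (hdX : Cyc.IsDimFun X δX) (hdY : Cyc.IsDimFun Y δY) {n m e : ℤ}
    (hn : δX (genericPoint X) = n) (hm : δY (genericPoint Y) = m) (he : e = n - m)
    (hle : ∀ x, δX x ≤ δY (f x) + e) (α β : AlgebraicCycle Y ℤ)
    (hprop : IntMult.IntersectProperly δY m ⇑α ⇑β) :
    IntMult.IntersectProperly δX n (Cyc.pullFun f δX δY e ⇑α) (Cyc.pullFun f δX δY e ⇑β) ∧
      Cyc.pullFun f δX δY e (IntMult.interProd δY m ⇑α ⇑β) =
        IntMult.interProd δX n (Cyc.pullFun f δX δY e ⇑α) (Cyc.pullFun f δX δY e ⇑β) := by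
  haveI := LocallyOfFiniteType.isLocallyNoetherian gX
  haveI := LocallyOfFiniteType.isLocallyNoetherian gY
  refine ⟨fun ξ η ζ hξ hη h1 h2 => ?_, funext fun x => ?_⟩
  · simp only [Cyc.pullFun] at hξ hη
    split_ifs at hξ hη with c1 c2
    · have := hprop _ _ _ (left_ne_zero_of_mul hξ) (left_ne_zero_of_mul hη) (h1.map f.continuous) (h2.map f.continuous)
      have := hle ζ
      omega
    all_goals simp_all
  let Sα := (finite_gens_cycle α (f x)).toFinset
  let Sβ := (finite_gens_cycle β (f x)).toFinset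
  let one : Y → Y → ℤ := fun ξ p => if p = ξ then 1 else 0
  let F : Y → Y.Modules := fun ξ => Cyc.closureStructureSheaf ξ
  have hone : ∀ ξ, Cyc.sheafFun δY (δY ξ) (F ξ) = one ξ := fun ξ => (sheafFun_closure hdY ξ).2
  have hsupp : ∀ ξ y, Nontrivial ((F ξ).presheaf.stalk y) → ξ ⤳ y ∧ δY y ≤ δY ξ := fun ξ => (sheafFun_closure hdY ξ).1
  have hpb : ∀ ξ, Cyc.pullFun f δX δY e (one ξ) =
      Cyc.sheafFun δX (δY ξ + e) ((Scheme.Modules.pullback f).obj (F ξ)) := fun ξ =>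
    hone ξ ▸ (H23.FlatShift.sheafFun_pullback f δX δY hle _ (F ξ) fun y hy => (hsupp ξ y hy).2).2
  have hexp : ∀ (γ : AlgebraicCycle Y ℤ) (p : Y), p ⤳ f x →
      γ p = ∑ ξ ∈ (finite_gens_cycle γ (f x)).toFinset, γ ξ * one ξ p := fun γ p hp => by
    simp only [one, mul_ite, mul_one, mul_zero, Finset.sum_ite_eq, Set.Finite.mem_toFinset, Set.mem_setOf_eq, hp,
      true_and]
    split_ifs with h
    · rfl
    · exact not_not.1 h
  have hexp' : ∀ (γ : AlgebraicCycle Y ℤ) (p : X), p ⤳ x →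
      Cyc.pullFun f δX δY e ⇑γ p =
        ∑ ξ ∈ (finite_gens_cycle γ (f x)).toFinset, γ ξ * Cyc.pullFun f δX δY e (one ξ) p := fun γ p hp => by
    simp only [Cyc.pullFun]
    split_ifs
    · rw [hexp γ (f p) (hp.map f.continuous), Finset.sum_mul]
      simp only [mul_assoc]
    · simp
  have hrs : ∀ ξ ∈ Sα, ∀ η ∈ Sβ, ∀ y : Y, Nontrivial ((F ξ).presheaf.stalk y) → Nontrivial ((F η).presheaf.stalk y) →
      δY y ≤ δY ξ + δY η - m := fun ξ hξ η hη y h1 h2 =>
    hprop ξ η y ((Set.Finite.mem_toFinset _).1 hξ).2 ((Set.Finite.mem_toFinset _).1 hη).2 (hsupp ξ y h1).1 (hsupp η y h2).1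
  have hcoh : ∀ ξ, Coh.IsCoh (F ξ) := fun ξ => DevK.isCoh_closure ξ
  have hfin : ∀ ξ, {p : Y | p ⤳ f x ∧ one ξ p ≠ 0}.Finite := fun ξ =>
    (Set.finite_singleton ξ).subset fun p hp => not_not.1 fun h => hp.2 (if_neg h)
  have hfin' : ∀ ξ, {p : X | p ⤳ x ∧ Cyc.pullFun f δX δY e (one ξ) p ≠ 0}.Finite := fun ξ => by
    rw [hpb]
    exact finite_gens_sheafFun gX hdX (ZClosLib.isCoh_pullback f (hcoh ξ))
      (H23.FlatShift.sheafFun_pullback f δX δY hle _ (F ξ) fun y hy => (hsupp ξ y hy).2).1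
  rw [interProd_sum Sα Sβ α β (fun ξ => Cyc.pullFun f δX δY e (one ξ)) (fun η => Cyc.pullFun f δX δY e (one η))
    δX n (hexp' α) (hexp' β) (fun ξ _ => hfin' ξ) fun η _ => hfin' η]
  have hR : ∀ ξ ∈ Sα, ∀ η ∈ Sβ, Cyc.pullFun f δX δY e (IntMult.interProd δY m (one ξ) (one η)) x =
      IntMult.interProd δX n (Cyc.pullFun f δX δY e (one ξ)) (Cyc.pullFun f δX δY e (one η)) x := fun ξ hξ η hη => by
    rw [hpb, hpb, ← hone, ← hone]
    exact congrFun (pullFun_interProd f gX gY hdX hdY hn hm he hle (hcoh ξ) (hcoh η)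
      (fun y hy => (hsupp ξ y hy).2) (fun y hy => (hsupp η y hy).2) (hrs ξ hξ η hη)).2 x
  rw [← Finset.sum_congr rfl fun ξ hξ => Finset.sum_congr rfl fun η hη => congrArg (α ξ * β η * ·) (hR ξ hξ η hη)]
  simp only [Cyc.pullFun]
  split_ifs
  · rw [interProd_sum Sα Sβ α β one one δY m (hexp α) (hexp β) (fun ξ _ => hfin ξ) fun η _ => hfin η,
      Finset.sum_mul]
    refine Finset.sum_congr rfl fun ξ _ => ?_
    rw [Finset.sum_mul]
    exact Finset.sum_congr rfl fun η _ => by ring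
  · simp

end Groth.Agent.IntMult63
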