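import Groth.Agent.IntMult63.Diag
import Groth.Agent.CAlgOdd.FiniteResolution
import Groth.Agent.CycLib.SamuelAssoc
import Groth.Agent.S6315
import Groth.Agent.S0563
import Groth.Agent.S14414
import Mathlib.Algebra.Homology.HomologySequence

/-! Additivity and dévissage of the Tor Euler characteristic. -/

set_option autoImplicit false
set_option linter.style.haveILetI false
set_option backward.isDefEq.respectTransparency false
set_option backward.isDefEq.respectTransparency.types false

universe u

open CategoryTheory CategoryTheory.Limits IsLocalRing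
open scoped Classical

namespace Groth.Agent.IntMult63

open Groth.Agent

variable {A : Type u} [CommRing A] [IsRegularLocalRing A]

/-- The supports of two modules meet at most in the closed point. -/
def MeetPt (M N : Type u) [AddCommGroup M] [Module A M] [AddCommGroup N] [Module A N] : Prop :=
  Module.support A M ∩ Module.support A N ⊆ {closedPoint A}

theorem tor_killed (M N : Type u) [AddCommGroup M] [Module A M] [AddCommGroup N] [Module A N] {a : A}
    (ha : ∀ x : M, a • x = 0) (i : ℕ) (t : DRing.Tor A i M N) : a • t = 0 := by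
  let F := ProjectiveResolution.of (ModuleCat.of A N)
  let e := (F.isoLeftDerivedObj ((MonoidalCategory.tensoringLeft (ModuleCat.{u} A)).obj (ModuleCat.of A M)) i).toLinearEquiv
  apply e.injective
  rw [map_smul, map_zero]
  let C := (((MonoidalCategory.tensoringLeft (ModuleCat.{u} A)).obj (ModuleCat.of A M)).mapHomologicalComplex
    (ComplexShape.down ℕ)).obj F.complex
  have hC : ∀ (j : ℕ) (z : C.X j), a • z = 0 := fun j (z : TensorProduct A M (F.complex.X j)) => by
    show a • z = 0
    induction z using TensorProduct.induction_on with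
    | zero => exact smul_zero _
    | tmul x y => rw [TensorProduct.smul_tmul', ha, TensorProduct.zero_tmul]
    | add z w hz hw => rw [smul_add, hz, hw, add_zero]
  obtain ⟨z, hz⟩ := (ModuleCat.epi_iff_surjective (C.homologyπ i)).1 inferInstance (e t)
  have : a • z = 0 := (ModuleCat.mono_iff_injective (C.iCycles i)).1 inferInstance (by
    rw [map_smul, map_zero]; exact hC i _)
  exact (congrArg (a • ·) hz).symm.trans (((C.homologyπ i).hom.map_smul a z).symm.trans
    ((congrArg (C.homologyπ i).hom this).trans (map_zero _)))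

theorem tor_killed' (M N : Type u) [AddCommGroup M] [Module A M] [AddCommGroup N] [Module A N] {a : A}
    (ha : ∀ x : N, a • x = 0) (i : ℕ) (t : DRing.Tor A i M N) : a • t = 0 := by
  let e := (H9Misc.TorBalance.torSymm (ModuleCat.of A M) (ModuleCat.of A N) i).toLinearEquiv
  apply e.injective
  rw [map_smul, map_zero]
  exact tor_killed N M ha i _

theorem length_tor_ne_top {M N : Type u} [AddCommGroup M] [Module A M] [AddCommGroup N] [Module A N]
    [Module.Finite A M] [Module.Finite A N] (h : MeetPt (A := A) M N) (i : ℕ) :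
    Module.length A (DRing.Tor A i M N) ≠ ⊤ := by
  haveI : Module.Finite A (DRing.Tor A i M N) := S6315.result A M N i
  refine CycLib.length_ne_top_of_support fun P hP => h ⟨?_, ?_⟩
  · rw [Module.support_eq_zeroLocus] at hP ⊢
    exact fun a ha => hP (Module.mem_annihilator.2 fun t => tor_killed M N (Module.mem_annihilator.1 ha) i t)
  · rw [Module.support_eq_zeroLocus] at hP ⊢
    exact fun a ha => hP (Module.mem_annihilator.2 fun t => tor_killed' M N (Module.mem_annihilator.1 ha) i t)

/-- `chi` as a finite sum. -/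
theorem chi_eq_range {a : ℕ} (ha : ringKrullDim A = a) (M N : Type u) [AddCommGroup M] [Module A M]
    [AddCommGroup N] [Module A N] :
    IntMult.chi A M N = ∑ i ∈ Finset.range (a + 1), (-1 : ℤ) ^ i * ((Module.length A (DRing.Tor A i M N)).toNat : ℤ) := by
  refine finsum_eq_sum_of_support_subset _ fun i hi => ?_
  simp only [Function.mem_support] at hi
  rw [Finset.coe_range, Set.mem_Iio]
  by_contra hlt
  refine hi ?_
  haveI := S0563.result A a ha N
  haveI := ModuleCat.subsingleton_of_isZero
    (S14414.result A (ModuleCat.of A M) (ModuleCat.of A N) a i (by omega))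
  haveI : Subsingleton (DRing.Tor A i M N) := this
  rw [Module.length_eq_zero]
  simp

omit [IsRegularLocalRing A] in
theorem length_mid {X Y Z : ModuleCat.{u} A} (f : X ⟶ Y) (g : Y ⟶ Z) (h : Function.Exact f.hom g.hom) :
    Module.length A Y = Module.length A (LinearMap.range f.hom) + Module.length A (LinearMap.range g.hom) := by
  refine Module.length_eq_add_of_exact (LinearMap.range f.hom).subtype g.hom.rangeRestrict
    Subtype.val_injective g.hom.surjective_rangeRestrict fun y => ?_
  refine ⟨fun hy => ⟨⟨y, (h y).1 (congrArg Subtype.val hy)⟩, rfl⟩, ?_⟩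
  rintro ⟨⟨_, x, rfl⟩, rfl⟩
  exact Subtype.ext ((h _).2 ⟨x, rfl⟩)

/-- Additivity in the first variable. -/
theorem chi_add {M₁ M₂ M₃ N : Type u} [AddCommGroup M₁] [Module A M₁] [AddCommGroup M₂] [Module A M₂]
    [AddCommGroup M₃] [Module A M₃] [AddCommGroup N] [Module A N] [Module.Finite A M₁] [Module.Finite A M₂]
    [Module.Finite A M₃] [Module.Finite A N] (f : M₁ →ₗ[A] M₂) (g : M₂ →ₗ[A] M₃) (hf : Function.Injective f)
    (hg : Function.Surjective g) (hfg : Function.Exact f g) (h : MeetPt (A := A) M₂ N) :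
    IntMult.chi A M₂ N = IntMult.chi A M₁ N + IntMult.chi A M₃ N := by
  obtain ⟨a, ha⟩ := exists_dim_nat A
  obtain ⟨F, hF⟩ := CAlgOdd.FiniteResolution.exists_projectiveResolution A N
  let G := fun M : ModuleCat.{u} A => (((MonoidalCategory.tensoringLeft (ModuleCat.{u} A)).obj M).mapHomologicalComplex
    (ComplexShape.down ℕ)).obj F.complex
  let φ : G (ModuleCat.of A M₁) ⟶ G (ModuleCat.of A M₂) :=
    (NatTrans.mapHomologicalComplex ((MonoidalCategory.tensoringLeft (ModuleCat.{u} A)).map (ModuleCat.ofHom f)) _).app _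
  let ψ : G (ModuleCat.of A M₂) ⟶ G (ModuleCat.of A M₃) :=
    (NatTrans.mapHomologicalComplex ((MonoidalCategory.tensoringLeft (ModuleCat.{u} A)).map (ModuleCat.ofHom g)) _).app _
  have hz : φ ≫ ψ = 0 := by
    refine HomologicalComplex.hom_ext _ _ fun j => ?_
    ext : 1
    show (g.rTensor (F.complex.X j)).comp (f.rTensor (F.complex.X j)) = 0
    rw [← LinearMap.rTensor_comp, show g.comp f = 0 from LinearMap.ext hfg.apply_apply_eq_zero, LinearMap.rTensor_zero]
  let S := ShortComplex.mk φ ψ hz
  have hS : S.ShortExact := by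
    refine HomologicalComplex.shortExact_of_degreewise_shortExact S fun j => ?_
    haveI : Module.Free A (F.complex.X j) := (hF j).2
    refine { exact := ?_, mono_f := ?_, epi_g := ?_ }
    · rw [ShortComplex.ShortExact.moduleCat_exact_iff_function_exact]
      exact rTensor_exact (F.complex.X j) hfg hg
    · exact (ModuleCat.mono_iff_injective _).2 (Module.Flat.rTensor_preserves_injective_linearMap _ hf)
    · exact (ModuleCat.epi_iff_surjective _).2 (LinearMap.rTensor_surjective _ hg)
  have hlen : ∀ (M : Type u) [AddCommGroup M] [Module A M] (i : ℕ),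
      Module.length A ((G (ModuleCat.of A M)).homology i) = Module.length A (DRing.Tor A i M N) := fun M _ _ i =>
    ((F.isoLeftDerivedObj ((MonoidalCategory.tensoringLeft (ModuleCat.{u} A)).obj (ModuleCat.of A M)) i).toLinearEquiv.length_eq).symm
  have h1 : MeetPt (A := A) M₁ N := fun P hP => h ⟨Module.support_subset_of_injective f hf hP.1, hP.2⟩
  have h3 : MeetPt (A := A) M₃ N := fun P hP => h ⟨Module.support_subset_of_surjective g hg hP.1, hP.2⟩
  let ex := fun {X Y Z : ModuleCat.{u} A} {p : X ⟶ Y} {q : Y ⟶ Z} {w : p ≫ q = 0}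
    (e : (ShortComplex.mk p q w).Exact) => (ShortComplex.ShortExact.moduleCat_exact_iff_function_exact _).1 e
  let rf : ℕ → ℕ∞ := fun i => Module.length A (LinearMap.range (HomologicalComplex.homologyMap φ i).hom)
  let rg : ℕ → ℕ∞ := fun i => Module.length A (LinearMap.range (HomologicalComplex.homologyMap ψ i).hom)
  let rd : ℕ → ℕ∞ := fun i => match i with
    | 0 => 0
    | i + 1 => Module.length A (LinearMap.range (hS.δ (i + 1) i (by simp)).hom)
  have e2 : ∀ i, Module.length A (DRing.Tor A i M₂ N) = rf i + rg i := fun i => by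
    rw [← hlen M₂ i]; exact length_mid _ _ (ex (hS.homology_exact₂ i))
  have e1 : ∀ i, Module.length A (DRing.Tor A i M₁ N) = rd (i + 1) + rf i := fun i => by
    rw [← hlen M₁ i]; exact length_mid _ _ (ex (hS.homology_exact₁ (i + 1) i (by simp)))
  have e3 : ∀ i, Module.length A (DRing.Tor A i M₃ N) = rg i + rd i := fun i => by
    rw [← hlen M₃ i]
    cases i with
    | zero =>
      haveI := hS.epi_g
      haveI : Epi (HomologicalComplex.homologyMap ψ 0) :=
        HomologicalComplex.epi_homologyMap_of_epi_of_not_rel ψ 0 (by simp)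
      show Module.length A ((G (ModuleCat.of A M₃)).homology 0) = rg 0 + 0
      rw [add_zero]
      show _ = Module.length A (LinearMap.range (HomologicalComplex.homologyMap ψ 0).hom)
      rw [LinearMap.range_eq_top.2 ((ModuleCat.epi_iff_surjective _).1 inferInstance), Module.length_top]
    | succ i => exact length_mid _ _ (ex (hS.homology_exact₃ (i + 1) i (by simp)))
  have nz : ∀ i, rd (i + 1) ≠ ⊤ ∧ rf i ≠ ⊤ ∧ rg i ≠ ⊤ ∧ rd i ≠ ⊤ := fun i => by
    have a1 := e1 i ▸ length_tor_ne_top h1 i
    have a3 := e3 i ▸ length_tor_ne_top h3 i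
    rw [WithTop.add_ne_top] at a1 a3
    exact ⟨a1.1, a1.2, a3.1, a3.2⟩
  have htop : rd (a + 1) = 0 := by
    have e := e1 a
    haveI := S0563.result A a ha N
    haveI := ModuleCat.subsingleton_of_isZero
      (S14414.result A (ModuleCat.of A M₃) (ModuleCat.of A N) a (a + 1) (by omega))
    haveI : Subsingleton (DRing.Tor A (a + 1) M₃ N) := this
    have e' := e3 (a + 1)
    rw [Module.length_eq_zero] at e'
    exact (add_eq_zero.1 e'.symm).2
  rw [chi_eq_range ha, chi_eq_range ha, chi_eq_range ha, ← Finset.sum_add_distrib]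
  have key : ∀ n, ∑ i ∈ Finset.range n, ((-1 : ℤ) ^ i * ((Module.length A (DRing.Tor A i M₁ N)).toNat : ℤ) +
      (-1 : ℤ) ^ i * ((Module.length A (DRing.Tor A i M₃ N)).toNat : ℤ)) =
      ∑ i ∈ Finset.range n, (-1 : ℤ) ^ i * ((Module.length A (DRing.Tor A i M₂ N)).toNat : ℤ) -
        (-1 : ℤ) ^ n * ((rd n).toNat : ℤ) := by
    intro n
    induction n with
    | zero => simp [rd]
    | succ n ih =>
      obtain ⟨a1, a2, a3, a4⟩ := nz n
      rw [Finset.sum_range_succ, Finset.sum_range_succ, ih, e1, e2, e3, ENat.toNat_add a1 a2,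
        ENat.toNat_add a2 a3, ENat.toNat_add a3 a4]
      push_cast
      ring
  rw [key, htop]
  simp

/-- The multiplicity of `M` at a prime. -/
noncomputable def cAt (P : PrimeSpectrum A) (M : Type u) [AddCommGroup M] [Module A M] : ℤ :=
  ((Module.length (Localization.AtPrime P.asIdeal) (LocalizedModule P.asIdeal.primeCompl M)).toNat : ℤ)

theorem chi_congr {M M' N : Type u} [AddCommGroup M] [Module A M] [AddCommGroup M'] [Module A M']
    [AddCommGroup N] [Module A N] (e : M ≃ₗ[A] M') : IntMult.chi A M N = IntMult.chi A M' N := by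
  unfold IntMult.chi
  refine finsum_congr fun i => ?_
  rw [(((Tor (ModuleCat.{u} A) i).mapIso e.toModuleIso).app (ModuleCat.of A N)).toLinearEquiv.length_eq]

/-- Dévissage in the first variable. -/
theorem chi_lin' {N : Type u} [AddCommGroup N] [Module A N] [Module.Finite A N] {p : ℕ}
    (hvan : ∀ P : PrimeSpectrum A, ringKrullDim (A ⧸ P.asIdeal) < p → MeetPt (A := A) (A ⧸ P.asIdeal) N →
      IntMult.chi A (A ⧸ P.asIdeal) N = 0)
    (M : Type u) [AddCommGroup M] [Module A M] [Module.Finite A M] (hM : Module.supportDim A M ≤ p)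
    (h : MeetPt (A := A) M N) :
    (Function.support fun P : {P : PrimeSpectrum A // ringKrullDim (A ⧸ P.asIdeal) = p} => cAt P.1 M).Finite ∧
    IntMult.chi A M N =
      ∑ᶠ P : {P : PrimeSpectrum A // ringKrullDim (A ⧸ P.asIdeal) = p}, cAt P.1 M * IntMult.chi A (A ⧸ P.1.asIdeal) N := by
  suffices H : ((∀ P : {P : PrimeSpectrum A // ringKrullDim (A ⧸ P.asIdeal) = p},
      Module.length (Localization.AtPrime P.1.asIdeal) (LocalizedModule P.1.asIdeal.primeCompl M) ≠ ⊤) ∧
      (Function.support fun P : {P : PrimeSpectrum A // ringKrullDim (A ⧸ P.asIdeal) = p} => cAt P.1 M).Finite) ∧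
      IntMult.chi A M N =
      ∑ᶠ P : {P : PrimeSpectrum A // ringKrullDim (A ⧸ P.asIdeal) = p}, cAt P.1 M * IntMult.chi A (A ⧸ P.1.asIdeal) N
    from ⟨H.1.2, H.2⟩
  revert hM h
  refine IsNoetherianRing.induction_on_isQuotientEquivQuotientPrime (A := A) (M := M) ‹_›
    (motive := fun M _ _ _ => Module.supportDim A M ≤ p → MeetPt (A := A) M N →
      ((∀ P : {P : PrimeSpectrum A // ringKrullDim (A ⧸ P.asIdeal) = p},
      Module.length (Localization.AtPrime P.1.asIdeal) (LocalizedModule P.1.asIdeal.primeCompl M) ≠ ⊤) ∧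
      (Function.support fun P : {P : PrimeSpectrum A // ringKrullDim (A ⧸ P.asIdeal) = p} => cAt P.1 M).Finite) ∧
      IntMult.chi A M N =
      ∑ᶠ P : {P : PrimeSpectrum A // ringKrullDim (A ⧸ P.asIdeal) = p}, cAt P.1 M * IntMult.chi A (A ⧸ P.1.asIdeal) N)
    ?_ ?_ ?_
  · intro M _ _ _ _ _ _
    have hc : ∀ P : PrimeSpectrum A,
        Module.length (Localization.AtPrime P.asIdeal) (LocalizedModule P.asIdeal.primeCompl M) = 0 := fun P => by
      haveI : Subsingleton (LocalizedModule P.asIdeal.primeCompl M) :=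
        LocalizedModule.subsingleton_iff.2 fun m => ⟨1, one_mem _, Subsingleton.elim _ _⟩
      rw [Module.length_eq_zero]
    refine ⟨⟨fun P => by rw [hc]; exact ENat.zero_ne_top, ?_⟩, ?_⟩
    · simp [cAt, hc, Function.support]
    · simp only [cAt, hc, ENat.toNat_zero, Nat.cast_zero, zero_mul, finsum_zero]
      refine finsum_eq_zero_of_forall_eq_zero fun i => ?_
      haveI : Subsingleton (DRing.Tor A i M N) :=
        ⟨fun s t => by rw [← one_smul A s, ← one_smul A t, tor_killed M N (fun x => Subsingleton.elim _ _) i s,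
          tor_killed M N (fun x => Subsingleton.elim _ _) i t]⟩
      simp [Module.length_eq_zero]
  · intro M _ _ _ q e hM h
    have hq : ringKrullDim (A ⧸ q.asIdeal) ≤ p := by
      rwa [Module.supportDim_eq_of_equiv e, Module.supportDim_quotient_eq_ringKrullDim] at hM
    have hlen : ∀ P : {P : PrimeSpectrum A // ringKrullDim (A ⧸ P.asIdeal) = p},
        Module.length (Localization.AtPrime P.1.asIdeal) (LocalizedModule P.1.asIdeal.primeCompl M) =
          if q = P.1 then 1 else 0 := fun P => by
      rw [← CycLib.length_localized_quot_prime q P.1 p hq P.2]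
      exact (IsLocalizedModule.mapEquiv P.1.asIdeal.primeCompl (LocalizedModule.mkLinearMap _ _)
        (LocalizedModule.mkLinearMap _ _) (Localization.AtPrime P.1.asIdeal) e).length_eq
    have h' : MeetPt (A := A) (A ⧸ q.asIdeal) N := fun P hP => h ⟨e.support_eq ▸ hP.1, hP.2⟩
    refine ⟨⟨fun P => by rw [hlen]; split_ifs <;> simp, ?_⟩, ?_⟩
    · refine Set.Subsingleton.finite fun P hP P' hP' => Subtype.ext ?_
      simp only [Function.mem_support, cAt, hlen] at hP hP'
      split_ifs at hP hP' with h1 h2
      · exact h1.symm.trans h2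
      all_goals simp_all
    · rw [chi_congr e]
      by_cases hd : ringKrullDim (A ⧸ q.asIdeal) = p
      · rw [finsum_eq_single _ ⟨q, hd⟩ fun P hP => ?_]
        · simp [cAt, show Module.length (Localization.AtPrime q.asIdeal) (LocalizedModule q.asIdeal.primeCompl M) = 1 from (hlen ⟨q, hd⟩).trans (if_pos rfl)]
        · have : q ≠ P.1 := fun hh => hP (Subtype.ext hh.symm)
          simp [cAt, hlen, this]
      · rw [hvan q (lt_of_le_of_ne hq hd) h', finsum_eq_zero_of_forall_eq_zero]
        intro P
        have : q ≠ P.1 := fun hh => hd (hh ▸ P.2)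
        simp [cAt, hlen, this]
  · intro M₁ _ _ _ M₂ _ _ _ M₃ _ _ _ f g hf hg hfg ih1 ih3 hM h
    obtain ⟨⟨n1, f1⟩, E1⟩ := ih1 ((Module.supportDim_le_of_injective f hf).trans hM)
      fun P hP => h ⟨Module.support_subset_of_injective f hf hP.1, hP.2⟩
    obtain ⟨⟨n3, f3⟩, E3⟩ := ih3 ((Module.supportDim_le_of_surjective g hg).trans hM)
      fun P hP => h ⟨Module.support_subset_of_surjective g hg hP.1, hP.2⟩
    have hc : ∀ P : {P : PrimeSpectrum A // ringKrullDim (A ⧸ P.asIdeal) = p},
        cAt P.1 M₂ = cAt P.1 M₁ + cAt P.1 M₃ := fun P => by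
      simp only [cAt, CycLib.length_localized_add P.1 f g hf hg hfg, ENat.toNat_add (n1 P) (n3 P), Nat.cast_add]
    refine ⟨⟨fun P => by rw [CycLib.length_localized_add P.1 f g hf hg hfg]; exact WithTop.add_ne_top.2 ⟨n1 P, n3 P⟩,
      ?_⟩, ?_⟩
    · refine (f1.union f3).subset fun P hP => ?_
      by_contra hn
      simp only [Set.mem_union, Function.mem_support, not_or, not_not] at hn
      exact hP (show cAt P.1 M₂ = 0 by rw [hc, hn.1, hn.2, add_zero])
    · rw [chi_add f g hf hg hfg h, E1, E3, ← finsum_add_distrib]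
      · exact finsum_congr fun P => by rw [hc, add_mul]
      · exact f1.subset fun P hP h0 => hP (by simp only [h0, zero_mul])
      · exact f3.subset fun P hP h0 => hP (by simp only [h0, zero_mul])

theorem chi_lin {N : Type u} [AddCommGroup N] [Module A N] [Module.Finite A N] {p : ℕ}
    (hvan : ∀ P : PrimeSpectrum A, ringKrullDim (A ⧸ P.asIdeal) < p → MeetPt (A := A) (A ⧸ P.asIdeal) N →
      IntMult.chi A (A ⧸ P.asIdeal) N = 0)
    (M : Type u) [AddCommGroup M] [Module A M] [Module.Finite A M] (hM : Module.supportDim A M ≤ p)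
    (h : MeetPt (A := A) M N) :
    IntMult.chi A M N =
      ∑ᶠ P : {P : PrimeSpectrum A // ringKrullDim (A ⧸ P.asIdeal) = p}, cAt P.1 M * IntMult.chi A (A ⧸ P.1.asIdeal) N :=
  (chi_lin' hvan M hM h).2

theorem meetPt_symm {M N : Type u} [AddCommGroup M] [Module A M] [AddCommGroup N] [Module A N]
    (h : MeetPt (A := A) M N) : MeetPt (A := A) N M := fun P hP => h ⟨hP.2, hP.1⟩

/-- The Euler characteristic through the primes of top dimension. -/
theorem chi_eq_sum_primes
    (hser : ∀ P Q : PrimeSpectrum A, MeetPt (A := A) (A ⧸ P.asIdeal) (A ⧸ Q.asIdeal) →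
      ringKrullDim (A ⧸ P.asIdeal) + ringKrullDim (A ⧸ Q.asIdeal) < ringKrullDim A →
      IntMult.chi A (A ⧸ P.asIdeal) (A ⧸ Q.asIdeal) = 0)
    {p q : ℕ} (hpq : ((p + q : ℕ) : WithBot ℕ∞) = ringKrullDim A) (M N : Type u) [AddCommGroup M] [Module A M]
    [AddCommGroup N] [Module A N] [Module.Finite A M] [Module.Finite A N] (hM : Module.supportDim A M ≤ p)
    (hN : Module.supportDim A N ≤ q) (h : MeetPt (A := A) M N) :
    IntMult.chi A M N =
      ∑ᶠ P : {P : PrimeSpectrum A // ringKrullDim (A ⧸ P.asIdeal) = p},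
        cAt P.1 M * ∑ᶠ Q : {Q : PrimeSpectrum A // ringKrullDim (A ⧸ Q.asIdeal) = q},
          cAt Q.1 N * IntMult.chi A (A ⧸ P.1.asIdeal) (A ⧸ Q.1.asIdeal) := by
  have key : ∀ P : PrimeSpectrum A, ringKrullDim (A ⧸ P.asIdeal) ≤ p → MeetPt (A := A) (A ⧸ P.asIdeal) N →
      IntMult.chi A (A ⧸ P.asIdeal) N = ∑ᶠ Q : {Q : PrimeSpectrum A // ringKrullDim (A ⧸ Q.asIdeal) = q},
        cAt Q.1 N * IntMult.chi A (A ⧸ Q.1.asIdeal) (A ⧸ P.asIdeal) := by
    intro P hP hm
    rw [chi_comm]
    refine chi_lin (fun Q hQ hm' => ?_) N hN (meetPt_symm hm)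
    refine hser Q P hm' ?_
    rw [← hpq, Nat.cast_add, add_comm (p : WithBot ℕ∞)]
    haveI := isLocalRing_quot (le_maximalIdeal Q.2.ne_top)
    haveI := isLocalRing_quot (le_maximalIdeal P.2.ne_top)
    obtain ⟨i, hi⟩ := exists_dim_nat (A ⧸ Q.asIdeal)
    obtain ⟨j, hj⟩ := exists_dim_nat (A ⧸ P.asIdeal)
    rw [hi] at hQ ⊢
    rw [hj] at hP ⊢
    norm_cast at hQ hP ⊢
    omega
  rw [chi_lin (fun P hP hm => ?_) M hM h]
  · refine finsum_congr fun P => ?_
    by_cases hc : cAt P.1 M = 0
    · rw [hc, zero_mul, zero_mul]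
    · have hm : MeetPt (A := A) (A ⧸ P.1.asIdeal) N := fun R hR => h ⟨by
        rw [Module.support_eq_zeroLocus, PrimeSpectrum.mem_zeroLocus]
        have hP : P.1 ∈ Module.support A M := by
          by_contra hn
          refine hc ?_
          haveI : Subsingleton (LocalizedModule P.1.asIdeal.primeCompl M) :=
            not_nontrivial_iff_subsingleton.1 fun hnt => hn (Module.mem_support_iff.2 hnt)
          simp [cAt, Module.length_eq_zero]
        rw [Module.support_eq_zeroLocus, PrimeSpectrum.mem_zeroLocus] at hP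
        have hR1 := hR.1
        rw [Module.support_eq_zeroLocus, Ideal.annihilator_quotient, PrimeSpectrum.mem_zeroLocus] at hR1
        exact hP.trans hR1, hR.2⟩
      rw [key P.1 P.2.le hm]
      congr 1
      exact finsum_congr fun Q => by rw [chi_comm]
  · rw [key P hP.le hm, finsum_eq_zero_of_forall_eq_zero]
    intro Q
    by_cases hc : cAt Q.1 N = 0
    · rw [hc, zero_mul]
    · rw [hser, mul_zero]
      · intro R hR
        refine hm ⟨hR.2, ?_⟩
        rw [Module.support_eq_zeroLocus, PrimeSpectrum.mem_zeroLocus]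
        have hQ : Q.1 ∈ Module.support A N := by
          by_contra hn
          refine hc ?_
          haveI : Subsingleton (LocalizedModule Q.1.asIdeal.primeCompl N) :=
            not_nontrivial_iff_subsingleton.1 fun hnt => hn (Module.mem_support_iff.2 hnt)
          simp [cAt, Module.length_eq_zero]
        rw [Module.support_eq_zeroLocus, PrimeSpectrum.mem_zeroLocus] at hQ
        have hR1 := hR.1
        rw [Module.support_eq_zeroLocus, Ideal.annihilator_quotient, PrimeSpectrum.mem_zeroLocus] at hR1
        exact hQ.trans hR1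
      · rw [Q.2, ← hpq, Nat.cast_add, add_comm (p : WithBot ℕ∞)]
        haveI := isLocalRing_quot (le_maximalIdeal P.2.ne_top)
        obtain ⟨j, hj⟩ := exists_dim_nat (A ⧸ P.asIdeal)
        rw [hj] at hP ⊢
        norm_cast at hP ⊢
        omega

end Groth.Agent.IntMult63
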