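import Groth.Agent.KEuler95.Apps
import Groth.Agent.H9Misc.TorBalance
import Groth.Agent.S15821
import Groth.Prelude.Def_IntMult

/-! `Tor` against a quotient by a regular sequence is Koszul homology. -/

set_option autoImplicit false
set_option linter.style.haveILetI false
set_option backward.isDefEq.respectTransparency false
set_option backward.isDefEq.respectTransparency.types false

universe u

open CategoryTheory CategoryTheory.Limits MonoidalCategory ComplexShape

namespace Groth.Agent.IntMult63

open Groth.Agent

variable {A : Type u} [CommRing A]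

/-- The Koszul complex indexed homologically. -/
noncomputable abbrev kc (fs : List A) : ChainComplex (ModuleCat.{u} A) ℕ :=
  (Koszul.koszul A fs).restriction embeddingDownNat

/-- Homology in positive degree after restriction. -/
noncomputable def restrictSuccIso (K : CochainComplex (ModuleCat.{u} A) ℤ) (n : ℕ) :
    (K.restriction embeddingDownNat).homology (n + 1) ≅ K.homology (-((n + 1 : ℕ) : ℤ)) :=
  K.restrictionHomologyIso embeddingDownNat (n + 2) (n + 1) n (by simp) (by simp) (i' := -((n + 2 : ℕ) : ℤ))
    (j' := -((n + 1 : ℕ) : ℤ)) (k' := -(n : ℤ)) (by simp) (by simp) (by simp)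
    (by simp; omega) (by simp)

/-- Homology in degree zero after restriction. -/
theorem nonempty_restrictZeroIso (K : CochainComplex (ModuleCat.{u} A) ℤ) (hK : K.d 0 1 = 0) :
    Nonempty ((K.restriction embeddingDownNat).homology 0 ≅ K.homology 0) := by
  haveI := K.isIso_homologyι 0 1 (by simp) hK
  exact ⟨ChainComplex.isoHomologyι₀ (K.restriction embeddingDownNat) ≪≫
    K.restrictionOpcyclesIso embeddingDownNat 1 0 (i' := -1) (j' := 0) (by simp) (by simp) (by simp) (by simp) ≪≫
    (asIso (K.homologyι 0)).symm⟩

theorem koszul_isZero_X (fs : List A) {n : ℤ} (hn : 0 < n) : IsZero ((Koszul.koszul A fs).X n) := by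
  induction fs generalizing n with
  | nil => exact HomologicalComplex.isZero_single_obj_X _ _ _ _ (by omega)
  | cons f fs ih =>
    show IsZero ((CochainComplex.mappingCone _).X n)
    rw [CochainComplex.mappingCone.isZero_X_iff]
    exact ⟨ih (by omega), ih hn⟩

theorem koszul_projective (fs : List A) : ∀ n : ℤ, Projective ((Koszul.koszul A fs).X n) := by
  induction fs with
  | nil =>
    intro n
    by_cases hn : n = 0
    · subst hn
      haveI : Projective (ModuleCat.of A A) := (IsProjective.iff_projective _).1 inferInstance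
      exact Projective.of_iso (HomologicalComplex.singleObjXSelf (ComplexShape.up ℤ) 0 (ModuleCat.of A A)).symm
        inferInstance
    · exact (HomologicalComplex.isZero_single_obj_X _ _ _ _ hn).projective
  | cons f fs ih =>
    intro n
    haveI := ih n
    haveI := ih (n + 1)
    show Projective ((CochainComplex.mappingCone _).X n)
    exact Projective.of_iso (HomologicalComplex.homotopyCofiber.XIsoBiprod (f • 𝟙 (Koszul.koszul A fs)) n (n + 1) rfl).symm inferInstance

/-- The Koszul complex of a regular sequence as a projective resolution. -/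
theorem exists_resolution (fs : List A) (hl : RingTheory.Sequence.IsWeaklyRegular A fs) :
    ∃ P : ProjectiveResolution (ModuleCat.of A (A ⧸ Ideal.ofList fs)), P.complex = kc fs := by
  obtain ⟨hreg, ⟨e₀⟩⟩ := S15821.result A fs hl
  let C := kc fs
  have hd : (Koszul.koszul A fs).d 0 1 = 0 := (koszul_isZero_X fs one_pos).eq_of_tgt _ _
  obtain ⟨r⟩ := nonempty_restrictZeroIso _ hd
  haveI : ∀ n, Projective (C.X n) := fun n => koszul_projective fs _
  have hexact : ∀ n : ℕ, C.ExactAt (n + 1) := fun n => by
    rw [HomologicalComplex.exactAt_iff_isZero_homology]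
    exact IsZero.of_iso (hreg _ (by omega)) (restrictSuccIso _ n)
  let w : cokernel (C.d 1 0) ≅ ModuleCat.of A (A ⧸ Ideal.ofList fs) :=
    (cokernelIsCokernel _).coconePointUniqueUpToIso (C.opcyclesIsCokernel 1 0 (by simp)) ≪≫
      C.isoHomologyι₀.symm ≪≫ r ≪≫ e₀
  let π0 : C.X 0 ⟶ ModuleCat.of A (A ⧸ Ideal.ofList fs) := cokernel.π (C.d 1 0) ≫ w.hom
  have hπ : C.d 1 0 ≫ π0 = 0 := by simp [π0]
  refine ⟨{ complex := C
            π := (ChainComplex.toSingle₀Equiv _ _).symm ⟨π0, hπ⟩
            quasiIso := ⟨fun n => ?_⟩ }, rfl⟩
  cases n with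
  | zero =>
    rw [ChainComplex.quasiIsoAt₀_iff, ShortComplex.quasiIso_iff_of_zeros']
    · refine (ShortComplex.exact_and_epi_g_iff_of_iso ?_).2
        ⟨ShortComplex.exact_of_g_is_cokernel (ShortComplex.mk (C.d 1 0) (cokernel.π _) (cokernel.condition _))
          (cokernelIsCokernel _), by dsimp; infer_instance⟩
      exact ShortComplex.isoMk (Iso.refl _) (Iso.refl _) w.symm (by simp [C]) (by simp [π0])
    all_goals first | rfl | exact C.shape 0 0 (by simp)
  | succ n =>
    rw [quasiIsoAt_iff_exactAt']
    · exact hexact n
    · exact ChainComplex.exactAt_succ_single_obj ..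

theorem tensor_d_zero_one (fs : List A) (M : ModuleCat.{u} A) :
    (DRing.tensorCx (Koszul.koszul A fs) M).d 0 1 = 0 :=
  ((tensorRight M).map_isZero (koszul_isZero_X fs one_pos)).eq_of_tgt _ _

/-- `Tor` against the quotient by a regular sequence has the length of Koszul homology. -/
theorem length_tor (fs : List A) (hl : RingTheory.Sequence.IsWeaklyRegular A fs) (M : Type u) [AddCommGroup M]
    [Module A M] (n : ℕ) :
    Module.length A (DRing.Tor A n (A ⧸ Ideal.ofList fs) M) =
      Module.length A ((DRing.tensorCx (Koszul.koszul A fs) (ModuleCat.of A M)).homology (-(n : ℤ))) := by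
  obtain ⟨P, hP⟩ := exists_resolution fs hl
  have e1 := (H9Misc.TorBalance.torIso' P (ModuleCat.of A M) n).toLinearEquiv.length_eq
  rw [hP] at e1
  refine e1.trans ?_
  cases n with
  | zero =>
    obtain ⟨r⟩ := nonempty_restrictZeroIso (DRing.tensorCx (Koszul.koszul A fs) (ModuleCat.of A M))
      (tensor_d_zero_one fs _)
    exact r.toLinearEquiv.length_eq
  | succ n =>
    exact (restrictSuccIso (DRing.tensorCx (Koszul.koszul A fs) (ModuleCat.of A M)) n).toLinearEquiv.length_eq

/-- The intersection multiplicity against a regular sequence is a Koszul Euler characteristic. -/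
theorem chi_eq_kos (fs : List A) (hl : RingTheory.Sequence.IsWeaklyRegular A fs) (M : Type u) [AddCommGroup M]
    [Module A M] :
    IntMult.chi A (A ⧸ Ideal.ofList fs) M = KEuler95.chi fs (ModuleCat.of A M) := by
  have he : ∀ n : ℕ, Module.length A (DRing.Tor A n (A ⧸ Ideal.ofList fs) M) =
      Module.length A ((CohIII.koszulCx (ModuleCat.of A M) fs).homology (-(n : ℤ))) := fun n =>
    (length_tor fs hl M n).trans
      (HomologicalComplex.homologyMapIso (KEuler95.tensorKoszulIso (ModuleCat.of A M) fs) _).toLinearEquiv.length_eq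
  unfold IntMult.chi KEuler95.chi
  simp only [he]
  refine finsum_eq_sum_of_support_subset _ fun n hn => ?_
  simp only [Function.mem_support] at hn
  rw [Finset.coe_range, Set.mem_Iio]
  by_contra hlt
  refine hn ?_
  have hz : IsZero ((CohIII.koszulCx (ModuleCat.of A M) fs).homology (-(n : ℤ))) :=
    ShortComplex.isZero_homology_of_isZero_X₂ _ (Koszul15.isZero_X _ fs _ (Or.inr (by omega)))
  haveI := ModuleCat.subsingleton_of_isZero hz
  simp [Module.length_eq_zero]

end Groth.Agent.IntMult63
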