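import Groth.Agent.IntMult63.Stalk
import Groth.Agent.IntMult63.KosTor
import Groth.Agent.CycLib.FinLen
import Groth.Agent.LC.Sop
import Groth.Agent.KoszulFlatLib.OfExact
import Mathlib.RingTheory.Ideal.KrullsHeightTheorem

/-! Proper intersections against complete intersections. -/

set_option autoImplicit false
set_option linter.style.haveILetI false

universe u

open CategoryTheory AlgebraicGeometry Order

namespace Groth.Agent.IntMult63

open Groth.Agent

/-- `chi` is symmetric. -/
theorem chi_comm (A : Type u) [CommRing A] (M N : Type u) [AddCommGroup M] [Module A M] [AddCommGroup N]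
    [Module A N] : IntMult.chi A M N = IntMult.chi A N M := by
  unfold IntMult.chi
  refine finsum_congr fun i => ?_
  rw [(H9Misc.TorBalance.torSymm (ModuleCat.of A M) (ModuleCat.of A N) i).toLinearEquiv.length_eq]

/-- Dividing a quotient by an ideal. -/
noncomputable def quotQuot {A : Type u} [CommRing A] (I J : Ideal A) :
    ((A ⧸ I) ⧸ (J • (⊤ : Submodule A (A ⧸ I)))) ≃ₗ[A] (A ⧸ (I ⊔ J)) :=
  (Submodule.quotEquivOfEq _ _ (by
    rw [← Submodule.range_mkQ I, LinearMap.range_eq_map, ← Submodule.map_smul'', ← Ideal.one_eq_top,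
      smul_eq_mul, mul_one])).trans
    ((Submodule.quotientQuotientEquivQuotientSup I J))

section Local

variable {A : Type u} [CommRing A] [IsNoetherianRing A] [IsLocalRing A] {c : ℕ} {g : Fin c → A} (I : Ideal A)

theorem supportDim_le_of_quot (hg : Ideal.span (Set.range g) ≤ IsLocalRing.maximalIdeal A)
    (hI : I ≤ IsLocalRing.maximalIdeal A)
    (h0 : Module.supportDim A (A ⧸ (I ⊔ Ideal.span (Set.range g))) ≤ 0) :
    Module.supportDim A (A ⧸ I) ≤ c := by
  haveI : Nontrivial (A ⧸ I) := Ideal.Quotient.nontrivial_iff.2 (ne_top_of_le_ne_top (Ideal.IsPrime.ne_top') hI)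
  haveI : IsLocalRing (A ⧸ I) := IsLocalRing.of_surjective' _ Ideal.Quotient.mk_surjective
  haveI : IsLocalHom (Ideal.Quotient.mk I) := IsLocalHom.of_surjective _ Ideal.Quotient.mk_surjective
  rw [Module.supportDim_quotient_eq_ringKrullDim] at h0 ⊢
  have hs : Ideal.Quotient.mk I '' Set.range g ⊆ Ring.jacobson (A ⧸ I) := by
    rintro _ ⟨a, ha, rfl⟩
    rw [SetLike.mem_coe, Ideal.jacobson_bot.symm, IsLocalRing.jacobson_eq_maximalIdeal _ bot_ne_top]
    exact map_nonunit (Ideal.Quotient.mk I) a (hg (Ideal.subset_span ha))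
  refine le_trans (ringKrullDim_le_ringKrullDim_quotient_add_encard _ hs) ?_
  rw [← Ideal.map_span, ringKrullDim_eq_of_ringEquiv (DoubleQuot.quotQuotEquivQuotSup I _)]
  refine le_trans (add_le_add h0 le_rfl) ?_
  rw [zero_add, ← Set.range_comp]
  have hc : (Set.range (Ideal.Quotient.mk I ∘ g)).encard ≤ (c : ℕ∞) := by
    rw [← Set.image_univ]
    exact (Set.encard_image_le _ _).trans (by simp)
  exact_mod_cast hc

omit [IsNoetherianRing A] [IsLocalRing A] in
/-- For a regular sequence on `M`, the Euler characteristic is the length of `M/(fs)M`. -/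
theorem chi_eq_length (fs : List A) (M : ModuleCat.{u} A) (h : RingTheory.Sequence.IsWeaklyRegular M fs) :
    KEuler95.chi fs M = ((Module.length A (M ⧸ (Ideal.ofList fs • (⊤ : Submodule A M)))).toNat : ℤ) := by
  unfold KEuler95.chi
  rw [Finset.sum_eq_single 0]
  · obtain ⟨e⟩ := Koszul15.nonempty_top_equiv fs M
    simp [← e.length_eq]
  · intro j _ hj
    haveI := ModuleCat.subsingleton_of_isZero
      (Koszul15.isZero_homology_of_isWeaklyRegular fs M h (-(j : ℤ)) (by omega))
    simp [Module.length_eq_zero]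
  · simp

/-- A system of parameters on a Cohen–Macaulay quotient is regular on it. -/
theorem isWeaklyRegular_of_CM (hCM : LocCoh.IsCohenMacaulayLocalRing (A ⧸ I))
    (hg : Ideal.span (Set.range g) ≤ IsLocalRing.maximalIdeal A) (hI : I ≤ IsLocalRing.maximalIdeal A)
    (hd : Module.supportDim A (A ⧸ I) = c)
    (h0 : Module.supportDim A (A ⧸ (I ⊔ Ideal.span (Set.range g))) ≤ 0) :
    RingTheory.Sequence.IsWeaklyRegular (A ⧸ I) (List.ofFn g) := by
  haveI := hCM
  haveI : IsLocalHom (Ideal.Quotient.mk I) := IsLocalHom.of_surjective _ Ideal.Quotient.mk_surjective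
  rw [← RingTheory.Sequence.isWeaklyRegular_map_algebraMap_iff (A ⧸ I) (A ⧸ I)]
  have hdim : ringKrullDim (A ⧸ I) = c := by rw [← hd, Module.supportDim_quotient_eq_ringKrullDim]
  have hCM' : LocCoh.IsCohenMacaulayModule (A ⧸ I) (A ⧸ I) := LocCoh.IsCohenMacaulayLocalRing.supportDim_eq_depth
  refine LC.isWeaklyRegular_of_sop hCM' c hdim _ (by simp) ?_
  refine le_antisymm ?_ fun x hx => ?_
  · rw [← (IsLocalRing.maximalIdeal.isMaximal (A ⧸ I)).isPrime.isRadical.radical]
    refine Ideal.radical_mono (Ideal.span_le.2 fun a ha => ?_)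
    obtain ⟨b, hb, rfl⟩ := List.mem_map.1 ha
    exact map_nonunit (Ideal.Quotient.mk I) b (hg (Ideal.subset_span (List.mem_ofFn.1 hb)))
  · obtain ⟨y, rfl⟩ := Ideal.Quotient.mk_surjective x
    rw [show (List.map (algebraMap A (A ⧸ I)) (List.ofFn g)) = (List.ofFn g).map (Ideal.Quotient.mk I) from rfl,
      ← Ideal.map_ofList, KEuler95.range_ofFn, Ideal.radical_eq_sInf, Ideal.mem_sInf]
    rintro J ⟨hJ, hJp⟩
    haveI := hJp
    have hp : I ⊔ Ideal.span (Set.range g) ≤ J.comap (Ideal.Quotient.mk I) :=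
      sup_le (fun z hz => by simp [Ideal.mem_comap, Ideal.Quotient.eq_zero_iff_mem.2 hz]) (Ideal.map_le_iff_le_comap.1 hJ)
    have hmem : (⟨J.comap (Ideal.Quotient.mk I), inferInstance⟩ : PrimeSpectrum A) ∈
        Module.support A (A ⧸ (I ⊔ Ideal.span (Set.range g))) := by
      rw [Module.support_eq_zeroLocus, Ideal.annihilator_quotient]
      exact hp
    have := CycLib.support_subset_of_supportDim_le_zero h0 hmem
    rw [Set.mem_singleton_iff] at this
    have hy : y ∈ IsLocalRing.maximalIdeal A := fun hu => hx (hu.map _)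
    rw [← show J.comap (Ideal.Quotient.mk I) = IsLocalRing.maximalIdeal A from congrArg PrimeSpectrum.asIdeal this] at hy
    exact hy

end Local

section Variety

variable {K : Type u} [Field K] {X : Scheme.{u}} (f : X ⟶ Spec (CommRingCat.of K)) [LocallyOfFiniteType f]
  [IrreducibleSpace X] [IsLocallyNoetherian X] {IV IW : X.IdealSheafData} [IsIntegral IV.subscheme]
  [IsIntegral IW.subscheme] {n r s : ℕ} {ξ : X} {c : ℕ} {g : Fin c → ↑(X.presheaf.stalk ξ)}

include f in
theorem proper_facts (hn : topologicalKrullDim X = n) (hr : topologicalKrullDim IV.support = r)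
    (hs : topologicalKrullDim IW.support = s)
    (hprop : IntMult.ProperInt (IV.support : Set X) (IW.support : Set X) n r s) (hξV : ξ ∈ IV.support)
    (hξW : ξ ∈ IW.support) (hmax : ∀ ξ' : X, ξ' ∈ IV.support → ξ' ∈ IW.support → ξ' ⤳ ξ → ξ' = ξ)
    (hg : IntMult.stalkIdeal IV ξ = Ideal.span (Set.range g))
    (hreg : RingTheory.Sequence.IsRegular (↑(X.presheaf.stalk ξ)) (List.ofFn g)) :
    Module.supportDim (X.presheaf.stalk ξ) (↑(X.presheaf.stalk ξ) ⧸ IntMult.stalkIdeal IW ξ) = c ∧
      (∀ a ∈ List.ofFn g, a ∈ IsLocalRing.maximalIdeal (X.presheaf.stalk ξ)) ∧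
      Module.supportDim (X.presheaf.stalk ξ) ((↑(X.presheaf.stalk ξ) ⧸ IntMult.stalkIdeal IW ξ) ⧸
        (Ideal.span (Set.range g) • (⊤ : Submodule (X.presheaf.stalk ξ)
          (↑(X.presheaf.stalk ξ) ⧸ IntMult.stalkIdeal IW ξ)))) ≤ 0 := by
  have hmV : Ideal.span (Set.range g) ≤ IsLocalRing.maximalIdeal (X.presheaf.stalk ξ) :=
    hg ▸ stalkIdeal_le_maximalIdeal hξV
  have h0 := supportDim_quot_sup_le_zero IW IV (x := ξ) fun x' h1 h2 => hmax x' h2 h1
  rw [hg] at h0
  refine ⟨le_antisymm (supportDim_le_of_quot _ hmV (stalkIdeal_le_maximalIdeal hξW) h0) ?_,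
    fun a ha => hmV (Ideal.subset_span (List.mem_ofFn.1 ha)), ?_⟩
  · obtain ⟨ηV, hV1, hV2, hV3⟩ := exists_generic f IV hr
    obtain ⟨ηW, hW1, hW2, hW3⟩ := exists_generic f IW hs
    obtain ⟨b, hb, hnb⟩ := ringKrullDim_stalk f ξ hn
    obtain ⟨hrs, hdim⟩ := hprop ⟨ξ, hξV, hξW⟩
    have hd : VarDim.deg f ξ ≤ r + s - n := by
      rw [VarDim.topologicalKrullDim_set_eq_iSup_deg f (IV.support.isClosed.inter IW.support.isClosed)] at hdim
      have : ((VarDim.deg f ξ : ℕ∞) : WithBot ℕ∞) ≤ ((r + s - n : ℕ) : WithBot ℕ∞) := le_trans (le_iSup (fun z : ↥((IV.support : Set X) ∩ (IW.support : Set X)) =>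
        ((VarDim.deg f z.1 : ℕ∞) : WithBot ℕ∞)) ⟨ξ, hξV, hξW⟩) hdim
      exact (Nat.cast_le (α := ℕ∞)).1 (WithBot.coe_le_coe.1 this)
    have e1 := deg_le_deg_add_supportDim f (hV2 ξ hξV) hV1
    have e2 := deg_le_deg_add_supportDim f (hW2 ξ hξW) hW1
    have e3 := ringKrullDim_add_length_eq_ringKrullDim_of_isRegular _ hreg
    rw [List.length_ofFn, KEuler95.range_ofFn, hb, ← Module.supportDim_quotient_eq_ringKrullDim, ← hg] at e3
    rw [hV3] at e1
    rw [hW3] at e2
    haveI : Nontrivial (↑(X.presheaf.stalk ξ) ⧸ IntMult.stalkIdeal IW ξ) :=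
      Ideal.Quotient.nontrivial_iff.2 (ne_top_of_le_ne_top Ideal.IsPrime.ne_top' (stalkIdeal_le_maximalIdeal hξW))
    generalize Module.supportDim (X.presheaf.stalk ξ) (↑(X.presheaf.stalk ξ) ⧸ IntMult.stalkIdeal IV ξ) = dV
      at e1 e3
    generalize Module.supportDim (X.presheaf.stalk ξ) (↑(X.presheaf.stalk ξ) ⧸ IntMult.stalkIdeal IW ξ) = dW
      at e2 ⊢
    cases dV with
    | bot => exact absurd e3 (by simp)
    | coe dV =>
      cases dV with
      | top => exact absurd e3 (by exact_mod_cast WithTop.top_ne_natCast b)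
      | coe dV =>
        cases dW with
        | bot => exact absurd e2 (by simp)
        | coe dW =>
          cases dW with
          | top => exact WithBot.coe_le_coe.2 le_top
          | coe dW =>
            replace e1 : r ≤ VarDim.deg f ξ + dV := by exact_mod_cast e1
            replace e2 : s ≤ VarDim.deg f ξ + dW := by exact_mod_cast e2
            replace e3 : dV + c = b := by exact_mod_cast e3
            exact_mod_cast (show c ≤ dW by omega)
  · rwa [Module.supportDim_eq_of_equiv (quotQuot _ _)]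

end Variety

end Groth.Agent.IntMult63
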