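import Groth.Agent.IntMult63.FlatTor
import Groth.Agent.IntMult63.Proper
import Groth.Agent.RegLoc6.Seq
import Groth.Agent.Synt29.CIBaseChangeLocal
import Groth.Agent.CotTLib.SmoothField
import Mathlib.RingTheory.TensorProduct.Quotient

/-! Reduction to the diagonal. -/

set_option autoImplicit false
set_option linter.style.haveILetI false
set_option backward.isDefEq.respectTransparency false
set_option backward.isDefEq.respectTransparency.types false

universe u

open CategoryTheory CategoryTheory.Limits IsLocalRing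
open scoped TensorProduct

namespace Groth.Agent.IntMult63

open Groth.Agent

/-- The Koszul complexes of isomorphic modules. -/
noncomputable def kosIso {B : Type u} [CommRing B] (fs : List B) {M M' : ModuleCat.{u} B} (e : M ≅ M') :
    CohIII.koszulCx M fs ≅ CohIII.koszulCx M' fs :=
  (KEuler95.tensorKoszulIso M fs).symm ≪≫
    (NatIso.mapHomologicalComplex ((MonoidalCategory.curriedTensor (ModuleCat.{u} B)).flip.mapIso e) (ComplexShape.up ℤ)).app
      (Koszul.koszul B fs) ≪≫ KEuler95.tensorKoszulIso M' fs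

theorem exists_dim_nat (A : Type u) [CommRing A] [IsNoetherianRing A] [IsLocalRing A] :
    ∃ d : ℕ, ringKrullDim A = d := by
  obtain ⟨d, hd⟩ := ENat.ne_top_iff_exists.1 (Ideal.height_ne_top_of_isPrime (I := maximalIdeal A))
  exact ⟨d, by rw [← maximalIdeal_height_eq_ringKrullDim, ← hd]; rfl⟩

theorem isLocalRing_quot {A : Type u} [CommRing A] [IsLocalRing A] {I : Ideal A} (hI : I ≤ maximalIdeal A) :
    IsLocalRing (A ⧸ I) :=
  haveI : Nontrivial (A ⧸ I) := Ideal.Quotient.nontrivial_iff.2 (ne_top_of_le_ne_top Ideal.IsPrime.ne_top' hI)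
  IsLocalRing.of_surjective' _ Ideal.Quotient.mk_surjective

/-- Dimension of a flat local extension modulo an ideal of the base. -/
theorem ringKrullDim_quot_map {A S : Type u} [CommRing A] [CommRing S] [IsNoetherianRing A] [IsNoetherianRing S]
    [IsLocalRing A] [IsLocalRing S] (φ : A →+* S) (hflat : φ.Flat) [IsLocalHom φ] {J : Ideal A}
    (hJ : J ≤ maximalIdeal A) :
    ringKrullDim (S ⧸ J.map φ) = ringKrullDim (A ⧸ J) + ringKrullDim (S ⧸ (maximalIdeal A).map φ) := by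
  letI := φ.toAlgebra
  haveI : Module.Flat A S := hflat
  show ringKrullDim (S ⧸ J.map (algebraMap A S)) = _
  haveI := isLocalRing_quot hJ
  have hJS : J.map (algebraMap A S) ≤ maximalIdeal S :=
    (Ideal.map_mono hJ).trans (Ideal.map_le_iff_le_comap.2 (maximalIdeal_comap φ).ge)
  haveI := isLocalRing_quot hJS
  haveI : Module.Flat (A ⧸ J) (S ⧸ J.map (algebraMap A S)) :=
    Module.Flat.of_linearEquiv (Algebra.TensorProduct.quotIdealMapEquivQuotTensor S J).toLinearEquiv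
  haveI : IsLocalHom (algebraMap (A ⧸ J) (S ⧸ J.map (algebraMap A S))) := by
    refine ⟨fun a ha => ?_⟩
    obtain ⟨a, rfl⟩ := Ideal.Quotient.mk_surjective a
    refine IsUnit.map _ (IsUnit.of_map φ a ?_)
    haveI : IsLocalHom (Ideal.Quotient.mk (J.map (algebraMap A S))) :=
      IsLocalHom.of_surjective _ Ideal.Quotient.mk_surjective
    exact IsUnit.of_map (Ideal.Quotient.mk (J.map (algebraMap A S))) _ ha
  rw [Synt29.ringKrullDim_eq_add_of_hasGoingDown (A := A ⧸ J) (A' := S ⧸ J.map (algebraMap A S))]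
  refine congrArg (_ + ·) ?_
  have e : (maximalIdeal (A ⧸ J)).map (algebraMap (A ⧸ J) (S ⧸ J.map (algebraMap A S))) =
      ((maximalIdeal A).map φ).map (Ideal.Quotient.mk (J.map (algebraMap A S))) := by
    haveI : IsLocalHom (Ideal.Quotient.mk J) := IsLocalHom.of_surjective _ Ideal.Quotient.mk_surjective
    rw [← IsLocalRing.map_maximalIdeal_of_surjective _ (Ideal.Quotient.mk_surjective (I := J)), Ideal.map_map,
      Ideal.map_map]
    rfl
  rw [e, ringKrullDim_eq_of_ringEquiv (DoubleQuot.quotQuotEquivQuotSup _ _)]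
  exact ringKrullDim_eq_of_ringEquiv (Ideal.quotEquivOfEq (sup_eq_right.2 (Ideal.map_mono hJ)))

section Local

variable {A B : Type u} [CommRing A] [CommRing B] [IsRegularLocalRing A] [IsRegularLocalRing B]
  {φ₁ φ₂ : A →+* B} {μ : B →+* A} (h₁ : ∀ a, μ (φ₁ a) = a) (h₂ : ∀ a, μ (φ₂ a) = a)
  (hf₁ : ∀ I : Ideal A, ((Ideal.Quotient.mk (I.map φ₂)).comp φ₁).Flat)
  (hf₂ : ∀ I : Ideal A, ((Ideal.Quotient.mk (I.map φ₁)).comp φ₂).Flat)

omit [IsRegularLocalRing A] [IsRegularLocalRing B] in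
theorem flat_of_flat_quot (hf : ∀ I : Ideal A, ((Ideal.Quotient.mk (I.map φ₂)).comp φ₁).Flat) : φ₁.Flat := by
  have h := hf ⊥
  have hc := h.comp (RingHom.Flat.of_bijective
    (f := ((Ideal.quotEquivOfEq (Ideal.map_bot (f := φ₂))).trans (RingEquiv.quotientBot B)).toRingHom)
    (RingEquiv.bijective _))
  exact hc

include h₁ in
omit [IsRegularLocalRing A] [IsRegularLocalRing B] in
theorem mu_surjective : Function.Surjective μ := fun a => ⟨φ₁ a, h₁ a⟩

include h₁ in
theorem exists_delta : ∃ δ : List B, (∀ d ∈ δ, d ∈ maximalIdeal B) ∧ RingTheory.Sequence.IsWeaklyRegular B δ ∧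
    Ideal.ofList δ = RingHom.ker μ := by
  haveI : IsRegularLocalRing (B ⧸ RingHom.ker μ) :=
    IsRegularLocalRing.of_ringEquiv (RingHom.quotientKerEquivOfSurjective (mu_surjective h₁)).symm
  exact RegLoc6.exists_list_of_quotient _ B (RingHom.ker μ) le_rfl inferInstance

variable {δ : List B} (hδm : ∀ d ∈ δ, d ∈ maximalIdeal B) (hreg : RingTheory.Sequence.IsWeaklyRegular B δ)
  (hker : Ideal.ofList δ = RingHom.ker μ)

include hker in
omit [IsRegularLocalRing A] [IsRegularLocalRing B] in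
theorem quot_congr {φ : A →+* B} (hφ : ∀ a, μ (φ a) = a) (b : B) : b - φ (μ b) ∈ Ideal.ofList δ := by
  rw [hker, RingHom.mem_ker, map_sub, hφ, sub_self]

include h₁ hreg hker in
omit [IsRegularLocalRing A] [IsRegularLocalRing B] in
/-- The diagonal stays regular modulo an ideal from one factor. -/
theorem isZero_homology_quot (hflat : φ₁.Flat) (I : Ideal A) (q : ℤ) (hq : q ≠ 0) :
    IsZero ((CohIII.koszulCx (ModuleCat.of B (B ⧸ I.map φ₁)) δ).homology q) := by
  rcases lt_trichotomy q 0 with hlt | rfl | hgt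
  · obtain ⟨n, rfl⟩ : ∃ n : ℕ, q = -((n + 1 : ℕ) : ℤ) := ⟨(-q - 1).toNat, by omega⟩
    letI := φ₁.toAlgebra
    haveI : Module.Flat A B := hflat
    let eM : A ≃ₗ[A] B ⧸ ((Ideal.ofList δ • ⊤ : Submodule B B).restrictScalars A) :=
      LinearEquiv.ofBijective ((Submodule.mkQ _).comp (Algebra.linearMap A B))
        ⟨(injective_iff_map_eq_zero _).2 fun a ha => by
            have h := (Submodule.Quotient.mk_eq_zero _).1 ha
            rw [Submodule.restrictScalars_mem, smul_eq_mul, Ideal.mul_top, hker] at h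
            exact (h₁ a).symm.trans h,
          fun z => by
            obtain ⟨b, rfl⟩ := Submodule.mkQ_surjective _ z
            refine ⟨μ b, ((Submodule.Quotient.eq _).2 ?_).symm⟩
            rw [Submodule.restrictScalars_mem, smul_eq_mul, Ideal.mul_top]
            exact quot_congr hker h₁ b⟩
    have e := length_tor_kosOver (A := A) B δ
      (fun q hq => Koszul15.isZero_homology_of_isWeaklyRegular δ (ModuleCat.of B B) hreg q hq)
      (fun b => ⟨μ b, quot_congr hker h₁ b⟩) eM (A ⧸ I) (n + 1)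
    haveI := ModuleCat.subsingleton_of_isZero
      (TorBridge.isZero_tor_succ_of_flat (ModuleCat.of A A) (ModuleCat.of A (A ⧸ I)) n)
    rw [Module.length_eq_zero, eq_comm, Module.length_eq_zero_iff] at e
    refine IsZero.of_iso ?_ (HomologicalComplex.homologyMapIso (kosIso δ
      (LinearEquiv.toModuleIso (X₁ := B ⧸ I.map φ₁) (X₂ := B ⊗[A] (A ⧸ I))
        (Algebra.TensorProduct.quotIdealMapEquivTensorQuot B I).toLinearEquiv)) _)
    exact ModuleCat.isZero_of_subsingleton _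
  · exact absurd rfl hq
  · exact ShortComplex.isZero_homology_of_isZero_X₂ _ (Koszul15.isZero_X _ δ q (Or.inl hgt))

include h₁ h₂ hreg hker in
/-- **Reduction to the diagonal**, with flatness only where it is used. -/
theorem chi_eq_diag' (I J : Ideal A) (hI : ((Ideal.Quotient.mk (I.map φ₂)).comp φ₁).Flat) (hflat₂ : φ₂.Flat) :
    IntMult.chi A (A ⧸ I) (A ⧸ J) = KEuler95.chi δ (ModuleCat.of B (B ⧸ (I.map φ₂ ⊔ J.map φ₁))) := by
  letI := φ₁.toAlgebra
  let C := B ⧸ I.map φ₂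
  haveI : Module.Flat A C := hI
  have hac := isZero_homology_quot (φ₁ := φ₂) h₂ hreg hker hflat₂ I
  let ψ : A →ₗ[A] C ⧸ ((Ideal.ofList δ • ⊤ : Submodule B C).restrictScalars A) :=
    (Submodule.mkQ _).comp (Algebra.linearMap A C)
  have hmem : ∀ b : B, (Ideal.Quotient.mk (I.map φ₂) b : C) ∈ (Ideal.ofList δ • ⊤ : Submodule B C) ↔ μ b ∈ I := by
    intro b
    have he : (Ideal.ofList δ • ⊤ : Submodule B C) = Submodule.map (Submodule.mkQ (I.map φ₂)) (Ideal.ofList δ) := by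
      rw [← Submodule.range_mkQ (I.map φ₂), LinearMap.range_eq_map, ← Submodule.map_smul'', smul_eq_mul,
        Ideal.mul_top]
    have hs : Ideal.ofList δ ⊔ I.map φ₂ = I.comap μ := by
      rw [hker, show I.comap μ = ((I.map φ₂).map μ).comap μ by
        rw [Ideal.map_map, show μ.comp φ₂ = RingHom.id A from RingHom.ext h₂, Ideal.map_id],
        Ideal.comap_map_of_surjective _ (mu_surjective h₁), ← RingHom.ker_eq_comap_bot, sup_comm]
    rw [he, ← Ideal.mem_comap, ← hs]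
    refine ⟨fun ⟨d, hd, hdb⟩ => ?_, fun hb => ?_⟩
    · have h : b - d ∈ I.map φ₂ := (Submodule.Quotient.eq _).1 hdb.symm
      rw [← add_sub_cancel d b]
      exact Submodule.add_mem_sup hd h
    · obtain ⟨d, hd, i, hi, rfl⟩ := Submodule.mem_sup.1 hb
      exact ⟨d, hd, ((Submodule.Quotient.eq _).2 (by simpa using neg_mem hi) :
        Submodule.mkQ (I.map φ₂) d = Submodule.mkQ (I.map φ₂) (d + i))⟩
  have hψ : Function.Surjective ψ := fun z => by
    obtain ⟨c, rfl⟩ := Submodule.mkQ_surjective _ z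
    obtain ⟨b, rfl⟩ := Ideal.Quotient.mk_surjective c
    refine ⟨μ b, (Submodule.Quotient.eq _).2 ?_⟩
    show (Ideal.Quotient.mk (I.map φ₂) (φ₁ (μ b)) - Ideal.Quotient.mk (I.map φ₂) b : C) ∈
      (Ideal.ofList δ • ⊤ : Submodule B C)
    rw [← map_sub, hmem, map_sub, h₁, sub_self]
    exact I.zero_mem
  have hkψ : LinearMap.ker ψ = I := by
    ext a
    refine LinearMap.mem_ker.trans ((Submodule.Quotient.mk_eq_zero _).trans ?_)
    refine ((hmem (φ₁ a)).trans ?_)
    rw [h₁]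
  let eM : (A ⧸ I) ≃ₗ[A] C ⧸ ((Ideal.ofList δ • ⊤ : Submodule B C).restrictScalars A) :=
    (Submodule.quotEquivOfEq _ _ hkψ.symm).trans (ψ.quotKerEquivOfSurjective hψ)
  let eQ : (C ⊗[A] (A ⧸ J)) ≃ₗ[B] B ⧸ (I.map φ₂ ⊔ J.map φ₁) :=
    ((Algebra.TensorProduct.quotIdealMapEquivTensorQuot C J).symm.toLinearEquiv.restrictScalars B).trans
      (((Ideal.quotientEquivAlgOfEq B (show J.map (algebraMap A C) = (J.map φ₁).map (Ideal.Quotient.mkₐ B (I.map φ₂))
          by exact (Ideal.map_map φ₁ (Ideal.Quotient.mk (I.map φ₂))).symm)).trans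
        (DoubleQuot.quotQuotEquivQuotSupₐ B (I.map φ₂) (J.map φ₁))).toLinearEquiv)
  have he : ∀ n : ℕ, Module.length A (DRing.Tor A n (A ⧸ I) (A ⧸ J)) =
      Module.length B ((CohIII.koszulCx (ModuleCat.of B (B ⧸ (I.map φ₂ ⊔ J.map φ₁))) δ).homology (-(n : ℤ))) :=
    fun n => (length_tor_kosOver (A := A) C δ hac (fun b => ⟨μ b, quot_congr hker h₁ b⟩) eM (A ⧸ J) n).trans
      (HomologicalComplex.homologyMapIso (kosIso δ eQ.toModuleIso) _).toLinearEquiv.length_eq
  unfold IntMult.chi KEuler95.chi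
  simp only [he]
  refine finsum_eq_sum_of_support_subset _ fun n hn => ?_
  simp only [Function.mem_support] at hn
  rw [Finset.coe_range, Set.mem_Iio]
  by_contra hlt
  refine hn ?_
  have hz : IsZero ((CohIII.koszulCx (ModuleCat.of B (B ⧸ (I.map φ₂ ⊔ J.map φ₁))) δ).homology (-(n : ℤ))) :=
    ShortComplex.isZero_homology_of_isZero_X₂ _ (Koszul15.isZero_X _ δ _ (Or.inr (by omega)))
  haveI := ModuleCat.subsingleton_of_isZero hz
  simp [Module.length_eq_zero]

include h₁ h₂ hf₁ hf₂ hreg hker in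
/-- **Reduction to the diagonal.** -/
theorem chi_eq_diag (I J : Ideal A) :
    IntMult.chi A (A ⧸ I) (A ⧸ J) = KEuler95.chi δ (ModuleCat.of B (B ⧸ (I.map φ₂ ⊔ J.map φ₁))) :=
  chi_eq_diag' h₁ h₂ hreg hker I J (hf₁ I) (flat_of_flat_quot hf₂)

include h₁ h₂ in
omit [IsRegularLocalRing A] [IsRegularLocalRing B] in
theorem map_le_max [IsLocalRing A] [IsLocalRing B] {φ : A →+* B} (hφ : ∀ a, μ (φ a) = a) {I : Ideal A}
    (hI : I ≤ maximalIdeal A) : I.map φ ≤ maximalIdeal B :=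
  Ideal.map_le_iff_le_comap.2 fun a ha hu => hI ha (hφ a ▸ hu.map μ)

include h₁ h₂ hf₁ hf₂ hδm hreg hker in
/-- Dimensions at the diagonal. -/
theorem dim_diag {I J : Ideal A} (hI : I ≤ maximalIdeal A) (hJ : J ≤ maximalIdeal A) :
    ∃ a i j e : ℕ, ringKrullDim A = a ∧ ringKrullDim (A ⧸ I) = i ∧ ringKrullDim (A ⧸ J) = j ∧
      ringKrullDim (B ⧸ (I.map φ₂ ⊔ J.map φ₁)) = ((j + (i + e) : ℕ) : WithBot ℕ∞) ∧ δ.length = a + e := by
  have hl : ∀ {φ : A →+* B}, (∀ a, μ (φ a) = a) → IsLocalHom φ := fun hφ =>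
    ⟨fun a ha => hφ a ▸ ha.map μ⟩
  haveI := hl h₁
  haveI := hl h₂
  have key : ∀ (φ φ' : A →+* B), (∀ a, μ (φ a) = a) → (∀ a, μ (φ' a) = a) →
      (∀ I : Ideal A, ((Ideal.Quotient.mk (I.map φ')).comp φ).Flat) → ∀ I J : Ideal A,
      I ≤ maximalIdeal A → J ≤ maximalIdeal A →
      ringKrullDim (B ⧸ (I.map φ' ⊔ J.map φ)) =
        ringKrullDim (A ⧸ J) + ringKrullDim (B ⧸ (I.map φ' ⊔ (maximalIdeal A).map φ)) := by
    intro φ φ' hφ hφ' hf I J hI hJ
    haveI := hl hφ
    haveI := isLocalRing_quot (map_le_max h₁ h₂ hφ' hI)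
    haveI : IsLocalHom ((Ideal.Quotient.mk (I.map φ')).comp φ) := by
      haveI : IsLocalHom (Ideal.Quotient.mk (I.map φ')) := IsLocalHom.of_surjective _ Ideal.Quotient.mk_surjective
      exact RingHom.isLocalHom_comp _ _
    have e := ringKrullDim_quot_map _ (hf I) (S := B ⧸ I.map φ') hJ
    rwa [← Ideal.map_map, ringKrullDim_eq_of_ringEquiv (DoubleQuot.quotQuotEquivQuotSup _ _), ← Ideal.map_map,
      ringKrullDim_eq_of_ringEquiv (DoubleQuot.quotQuotEquivQuotSup _ _)] at e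
  have hm := le_refl (maximalIdeal A)
  have eQ := key φ₁ φ₂ h₁ h₂ hf₁ I J hI hJ
  have eI := key φ₂ φ₁ h₂ h₁ hf₂ (maximalIdeal A) I hm hI
  have eB := key φ₁ φ₂ h₁ h₂ hf₁ ⊥ ⊥ bot_le bot_le
  have eA := key φ₂ φ₁ h₂ h₁ hf₂ (maximalIdeal A) ⊥ hm bot_le
  have hb : ∀ (S : Type u) [CommRing S], ringKrullDim (S ⧸ (⊥ : Ideal S)) = ringKrullDim S :=
    fun S _ => (RingEquiv.quotientBot S).ringKrullDim
  rw [Ideal.map_bot (f := φ₁), Ideal.map_bot (f := φ₂)] at eB
  rw [Ideal.map_bot (f := φ₂)] at eA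
  have hbl : ∀ P : Ideal B, ringKrullDim (B ⧸ (⊥ ⊔ P)) = ringKrullDim (B ⧸ P) := fun P =>
    ringKrullDim_eq_of_ringEquiv (Ideal.quotEquivOfEq (bot_sup_eq _))
  have hbr : ∀ P : Ideal B, ringKrullDim (B ⧸ (P ⊔ ⊥)) = ringKrullDim (B ⧸ P) := fun P =>
    ringKrullDim_eq_of_ringEquiv (Ideal.quotEquivOfEq (sup_bot_eq _))
  rw [hbl, hbl, hb, hb] at eB
  rw [hbr, hb] at eA
  rw [sup_comm] at eI
  have eD := ringKrullDim_add_length_eq_ringKrullDim_of_isRegular δ (RegLoc6.isRegular_iff_weakly δ hδm hreg)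
  rw [hker, ringKrullDim_eq_of_ringEquiv (RingHom.quotientKerEquivOfSurjective (mu_surjective h₁))] at eD
  haveI := isLocalRing_quot hI
  haveI := isLocalRing_quot hJ
  haveI := isLocalRing_quot (sup_le (map_le_max h₁ h₂ h₂ hm) (map_le_max h₁ h₂ h₁ hm))
  haveI := isLocalRing_quot (sup_le (map_le_max h₁ h₂ h₁ hm) (map_le_max h₁ h₂ h₂ hm))
  obtain ⟨a, ha⟩ := exists_dim_nat A
  obtain ⟨i, hi⟩ := exists_dim_nat (A ⧸ I)
  obtain ⟨j, hj⟩ := exists_dim_nat (A ⧸ J)
  obtain ⟨e, he⟩ := exists_dim_nat (B ⧸ ((maximalIdeal A).map φ₁ ⊔ (maximalIdeal A).map φ₂))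
  rw [he] at eI eA
  rw [eI, hi, hj] at eQ
  rw [eA, ha] at eB
  rw [eB, ha] at eD
  replace eD : a + δ.length = a + (a + e) := by exact_mod_cast eD
  exact ⟨a, i, j, e, ha, hi, hj, by rw [eQ]; push_cast; rfl, by omega⟩

include h₁ h₂ hδm hker in
/-- The finite length hypothesis at the diagonal. -/
theorem supportDim_quot_diag {I J : Ideal A}
    (h0 : Module.supportDim A (A ⧸ (I ⊔ J)) ≤ 0) :
    Module.supportDim B (B ⧸ ((I.map φ₂ ⊔ J.map φ₁) ⊔ Ideal.span (Set.range δ.get))) ≤ 0 ∧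
    Module.supportDim B ((B ⧸ (I.map φ₂ ⊔ J.map φ₁)) ⧸
        (Ideal.ofList δ • ⊤ : Submodule B (B ⧸ (I.map φ₂ ⊔ J.map φ₁)))) ≤ 0 := by
  have hδ' : Ideal.ofList δ = Ideal.span (Set.range δ.get) := by
    rw [← KEuler95.range_ofFn, List.ofFn_get]
  have h0' : Module.supportDim B (B ⧸ ((I.map φ₂ ⊔ J.map φ₁) ⊔ Ideal.span (Set.range δ.get))) ≤ 0 := by
    rw [Module.supportDim_quotient_eq_ringKrullDim] at h0 ⊢
    rw [← hδ', hker]
    refine le_trans (le_of_eq ?_) h0
    have hs : I.map φ₂ ⊔ J.map φ₁ ⊔ RingHom.ker μ = (I ⊔ J).comap μ := by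
      rw [show (I ⊔ J).comap μ = ((I.map φ₂ ⊔ J.map φ₁).map μ).comap μ by
        rw [Ideal.map_sup, Ideal.map_map, Ideal.map_map, show μ.comp φ₂ = RingHom.id A from RingHom.ext h₂,
          show μ.comp φ₁ = RingHom.id A from RingHom.ext h₁, Ideal.map_id, Ideal.map_id],
        Ideal.comap_map_of_surjective _ (mu_surjective h₁), ← RingHom.ker_eq_comap_bot]
    let π := (Ideal.Quotient.mk (I ⊔ J)).comp μ
    have hk : RingHom.ker π = I.map φ₂ ⊔ J.map φ₁ ⊔ RingHom.ker μ := by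
      rw [hs, ← RingHom.comap_ker, Ideal.mk_ker]
    rw [← hk]
    exact ringKrullDim_eq_of_ringEquiv (RingHom.quotientKerEquivOfSurjective
      (Ideal.Quotient.mk_surjective.comp (mu_surjective h₁)))
  refine ⟨h0', ?_⟩
  rw [Module.supportDim_eq_of_equiv (quotQuot _ _), hδ']
  exact h0'

include h₁ h₂ hf₁ hf₂ hδm hreg hker in
/-- The dimension of the product at the diagonal. -/
theorem supportDim_diag {I J : Ideal A} (hI : I ≤ maximalIdeal A) (hJ : J ≤ maximalIdeal A)
    (hdim : ringKrullDim A ≤ ringKrullDim (A ⧸ I) + ringKrullDim (A ⧸ J))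
    (h0 : Module.supportDim A (A ⧸ (I ⊔ J)) ≤ 0) :
    Module.supportDim B (B ⧸ (I.map φ₂ ⊔ J.map φ₁)) = δ.length ∧
      Module.supportDim B ((B ⧸ (I.map φ₂ ⊔ J.map φ₁)) ⧸
        (Ideal.ofList δ • ⊤ : Submodule B (B ⧸ (I.map φ₂ ⊔ J.map φ₁)))) ≤ 0 := by
  obtain ⟨a, i, j, e, ha, hi, hj, hQ, hc⟩ := dim_diag h₁ h₂ hf₁ hf₂ hδm hreg hker hI hJ
  obtain ⟨h0', h0''⟩ := supportDim_quot_diag h₁ h₂ hδm hker h0
  rw [ha, hi, hj] at hdim
  replace hdim : a ≤ i + j := by exact_mod_cast hdim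
  have hδ' : Ideal.ofList δ = Ideal.span (Set.range δ.get) := by
    rw [← KEuler95.range_ofFn, List.ofFn_get]
  have hup := supportDim_le_of_quot (I.map φ₂ ⊔ J.map φ₁) (hδ' ▸ KEuler95.ofList_le δ hδm)
    (sup_le (map_le_max h₁ h₂ h₂ hI) (map_le_max h₁ h₂ h₁ hJ)) h0'
  refine ⟨le_antisymm hup ?_, h0''⟩
  rw [Module.supportDim_quotient_eq_ringKrullDim, hQ]
  exact_mod_cast (by omega : δ.length ≤ j + (i + e))

include h₁ h₂ hf₁ hf₂ in
/-- **Serre's vanishing in the diagonal setting.** -/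
theorem chi_zero_diag {I J : Ideal A} (hI : I ≤ maximalIdeal A) (hJ : J ≤ maximalIdeal A)
    (hdim : ringKrullDim (A ⧸ I) + ringKrullDim (A ⧸ J) < ringKrullDim A)
    (h0 : Module.supportDim A (A ⧸ (I ⊔ J)) ≤ 0) : IntMult.chi A (A ⧸ I) (A ⧸ J) = 0 := by
  obtain ⟨δ, hδm, hreg, hker⟩ := exists_delta h₁
  obtain ⟨a, i, j, e, ha, hi, hj, hQ, hc⟩ := dim_diag h₁ h₂ hf₁ hf₂ hδm hreg hker hI hJ
  obtain ⟨-, hq⟩ := supportDim_quot_diag h₁ h₂ hδm hker h0
  rw [ha, hi, hj] at hdim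
  replace hdim : i + j < a := by exact_mod_cast hdim
  rw [chi_eq_diag h₁ h₂ hf₁ hf₂ hreg hker I J]
  refine KEuler95.chi_eq_zero δ _ hδm (KEuler95.maxSupp_of_isFiniteLength _ _
    (Module.length_ne_top_iff.1 (CycLib.length_lt_top_of_supportDim hq).ne)) ?_
  show Module.supportDim B (B ⧸ (I.map φ₂ ⊔ J.map φ₁)) + 1 ≤ _
  rw [Module.supportDim_quotient_eq_ringKrullDim, hQ]
  exact_mod_cast (by omega : j + (i + e) + 1 ≤ δ.length)

include h₁ h₂ hf₁ hf₂ in
/-- **Serre's positivity in the diagonal setting.** -/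
theorem chi_pos_diag {I J : Ideal A} (hI : I ≤ maximalIdeal A) (hJ : J ≤ maximalIdeal A)
    (hdim : ringKrullDim A ≤ ringKrullDim (A ⧸ I) + ringKrullDim (A ⧸ J))
    (h0 : Module.supportDim A (A ⧸ (I ⊔ J)) ≤ 0) : 0 < IntMult.chi A (A ⧸ I) (A ⧸ J) := by
  obtain ⟨δ, hδm, hreg, hker⟩ := exists_delta h₁
  obtain ⟨hd, hq⟩ := supportDim_diag h₁ h₂ hf₁ hf₂ hδm hreg hker hI hJ hdim h0
  rw [chi_eq_diag h₁ h₂ hf₁ hf₂ hreg hker I J]
  exact KEuler95.chi_pos δ _ hδm (KEuler95.maxSupp_of_isFiniteLength _ _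
    (Module.length_ne_top_iff.1 (CycLib.length_lt_top_of_supportDim hq).ne)) hd

end Local

section Smooth

variable (K : Type u) [Field K] (R : Type u) [CommRing R] [Algebra K R] [Algebra.Smooth K R]
  (A : Type u) [CommRing A] [Algebra R A] (p : Ideal R) [p.IsPrime] [IsLocalization.AtPrime A p]

theorem flat_quot_tensor (I₀ : Ideal R) :
    ((Ideal.Quotient.mk (I₀.map (Algebra.TensorProduct.includeRight : R →ₐ[K] R ⊗[K] R))).comp
      (Algebra.TensorProduct.includeLeftRingHom : R →+* R ⊗[K] R)).Flat := by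
  haveI : Module.Flat R ((R ⊗[K] R) ⧸ I₀.map (Algebra.TensorProduct.includeRight : R →ₐ[K] R ⊗[K] R)) :=
    Module.Flat.of_linearEquiv (Algebra.TensorProduct.tensorQuotientEquiv (R := K) R R R I₀).symm.toLinearEquiv
  exact RingHom.flat_algebraMap_iff.2 this

theorem flat_quot_tensor' (I₀ : Ideal R) :
    ((Ideal.Quotient.mk (I₀.map (Algebra.TensorProduct.includeLeftRingHom : R →+* R ⊗[K] R))).comp
      (Algebra.TensorProduct.includeRight : R →ₐ[K] R ⊗[K] R).toRingHom).Flat := by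
  let σ := (Algebra.TensorProduct.comm K R R).toRingEquiv
  have hmap : I₀.map (Algebra.TensorProduct.includeLeftRingHom : R →+* R ⊗[K] R) =
      (I₀.map (Algebra.TensorProduct.includeRight : R →ₐ[K] R ⊗[K] R)).map σ.toRingHom := by
    show _ = ((I₀.map (Algebra.TensorProduct.includeRight : R →ₐ[K] R ⊗[K] R).toRingHom)).map _
    rw [Ideal.map_map]
    exact congrArg (I₀.map ·) (RingHom.ext fun r => rfl)
  let e := Ideal.quotientEquiv _ _ σ hmap
  have h := (flat_quot_tensor K R I₀).comp (RingHom.Flat.of_bijective (f := e.toRingHom) e.bijective)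
  refine (congrArg RingHom.Flat ?_).mp h
  exact RingHom.ext fun r => rfl

/-- The diagonal prime. -/
def diagPrime : Ideal (R ⊗[K] R) := p.comap (Algebra.TensorProduct.lmul' K (S := R)).toRingHom

instance : (diagPrime K R p).IsPrime := by unfold diagPrime; infer_instance

theorem flat_lift {B : Type u} [CommRing B] [Algebra (R ⊗[K] R) B] [IsLocalization.AtPrime B (diagPrime K R p)]
    {u v : R →+* R ⊗[K] R}
    (hflat : ∀ I₀ : Ideal R, ((Ideal.Quotient.mk (I₀.map v)).comp u).Flat)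
    (φ φ' : A →+* B)
    (hφ : φ.comp (algebraMap R A) = (algebraMap _ _).comp u)
    (hφ' : φ'.comp (algebraMap R A) = (algebraMap _ _).comp v) (I : Ideal A) :
    ((Ideal.Quotient.mk (I.map φ')).comp φ).Flat := by
  let I₀ := I.comap (algebraMap R A)
  have hI : I₀.map (algebraMap R A) = I := IsLocalization.map_under p.primeCompl A I
  have hIB : I.map φ' = (I₀.map v).map (algebraMap (R ⊗[K] R) B) := by
    rw [← hI, Ideal.map_map, Ideal.map_map, hφ']
  haveI : Module.Flat (R ⊗[K] R) B := IsLocalization.flat B (diagPrime K R p).primeCompl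
  haveI : Module.Flat ((R ⊗[K] R) ⧸ I₀.map v) (B ⧸ (I₀.map v).map (algebraMap (R ⊗[K] R) B)) :=
    Module.Flat.of_linearEquiv (Algebra.TensorProduct.quotIdealMapEquivQuotTensor B (I₀.map v)).toLinearEquiv
  have h1 := (hflat I₀).comp (RingHom.flat_algebraMap_iff.2 this)
  have h2 := h1.comp (RingHom.Flat.of_bijective (f := (Ideal.quotEquivOfEq hIB.symm).toRingHom)
    (RingEquiv.bijective _))
  have h3 : (((Ideal.Quotient.mk (I.map φ')).comp φ).comp (algebraMap R A)).Flat := by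
    refine (congrArg RingHom.Flat ?_).mp h2
    refine RingHom.ext fun r => ?_
    have := RingHom.congr_fun hφ r
    simp only [RingHom.comp_apply] at this ⊢
    rw [this]
    rfl
  letI := ((Ideal.Quotient.mk (I.map φ')).comp φ).toAlgebra
  letI := (((Ideal.Quotient.mk (I.map φ')).comp φ).comp (algebraMap R A)).toAlgebra
  haveI : IsScalarTower R A (B ⧸ I.map φ') := IsScalarTower.of_algebraMap_eq fun _ => rfl
  exact (Module.flat_iff_of_isLocalization A p.primeCompl (M := B ⧸ I.map φ')).2 h3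

end Smooth

/-- **Serre's positivity** for local rings of smooth algebras over a field. -/
theorem chi_pos_smooth (K : Type u) [Field K] (R : Type u) [CommRing R] [Algebra K R] [Algebra.Smooth K R]
    (A : Type u) [CommRing A] [Algebra R A] (p : Ideal R) [p.IsPrime] [IsLocalization.AtPrime A p]
    [IsRegularLocalRing A] {I J : Ideal A} (hI : I ≤ maximalIdeal A) (hJ : J ≤ maximalIdeal A)
    (hdim : ringKrullDim A ≤ ringKrullDim (A ⧸ I) + ringKrullDim (A ⧸ J))
    (h0 : Module.supportDim A (A ⧸ (I ⊔ J)) ≤ 0) : 0 < IntMult.chi A (A ⧸ I) (A ⧸ J) := by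
  haveI : IsRegularLocalRing (Localization.AtPrime (diagPrime K R p)) := by
    haveI : Algebra.Smooth R (R ⊗[K] R) := inferInstance
    haveI : Algebra.Smooth K (R ⊗[K] R) := Algebra.Smooth.comp K R (R ⊗[K] R)
    exact CotTLib.isRegularLocalRing_of_isSmoothAt (k := K) _
  let m : R ⊗[K] R →+* R := (Algebra.TensorProduct.lmul' K (S := R)).toRingHom
  let u₁ : R →+* R ⊗[K] R := Algebra.TensorProduct.includeLeftRingHom
  let u₂ : R →+* R ⊗[K] R := (Algebra.TensorProduct.includeRight : R →ₐ[K] R ⊗[K] R).toRingHom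
  have hu₁ : ∀ r, m (u₁ r) = r := fun r => by simp [m, u₁]
  have hu₂ : ∀ r, m (u₂ r) = r := fun r => by simp [m, u₂]
  have hφ : ∀ u : R →+* R ⊗[K] R, (∀ r, m (u r) = r) → ∀ y : p.primeCompl,
      IsUnit ((algebraMap (R ⊗[K] R) (Localization.AtPrime (diagPrime K R p))).comp u y) :=
    fun u hu y => IsLocalization.map_units _
      (⟨u y, fun h => y.2 ((hu (y : R)) ▸ (h : m (u y) ∈ p))⟩ : (diagPrime K R p).primeCompl)
  let φ₁ : A →+* _ := IsLocalization.lift (hφ u₁ hu₁)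
  let φ₂ : A →+* _ := IsLocalization.lift (hφ u₂ hu₂)
  have hμ : ∀ y : (diagPrime K R p).primeCompl, IsUnit ((algebraMap R A).comp m y) := fun y =>
    IsLocalization.map_units A (⟨m y, y.2⟩ : p.primeCompl)
  let μ : Localization.AtPrime (diagPrime K R p) →+* A := IsLocalization.lift hμ
  have hsec : ∀ (u : R →+* R ⊗[K] R) (hu : ∀ r, m (u r) = r) (a : A), μ (IsLocalization.lift (hφ u hu) a) = a := by
    intro u hu a
    refine RingHom.congr_fun (IsLocalization.ringHom_ext p.primeCompl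
      (j := μ.comp (IsLocalization.lift (hφ u hu))) (k := RingHom.id A) (RingHom.ext fun r => ?_)) a
    simp [μ, hu]
  have c₁ : φ₁.comp (algebraMap R A) = (algebraMap _ _).comp u₁ := IsLocalization.lift_comp _
  have c₂ : φ₂.comp (algebraMap R A) = (algebraMap _ _).comp u₂ := IsLocalization.lift_comp _
  exact chi_pos_diag (μ := μ) (hsec u₁ hu₁) (hsec u₂ hu₂)
    (flat_lift K R A p (flat_quot_tensor K R) φ₁ φ₂ c₁ c₂)
    (flat_lift K R A p (flat_quot_tensor' K R) φ₂ φ₁ c₂ c₁) hI hJ hdim h0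

/-- **Serre's vanishing** for local rings of smooth algebras over a field. -/
theorem chi_zero_smooth (K : Type u) [Field K] (R : Type u) [CommRing R] [Algebra K R] [Algebra.Smooth K R]
    (A : Type u) [CommRing A] [Algebra R A] (p : Ideal R) [p.IsPrime] [IsLocalization.AtPrime A p]
    [IsRegularLocalRing A] {I J : Ideal A} (hI : I ≤ maximalIdeal A) (hJ : J ≤ maximalIdeal A)
    (hdim : ringKrullDim (A ⧸ I) + ringKrullDim (A ⧸ J) < ringKrullDim A)
    (h0 : Module.supportDim A (A ⧸ (I ⊔ J)) ≤ 0) : IntMult.chi A (A ⧸ I) (A ⧸ J) = 0 := by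
  haveI : IsRegularLocalRing (Localization.AtPrime (diagPrime K R p)) := by
    haveI : Algebra.Smooth R (R ⊗[K] R) := inferInstance
    haveI : Algebra.Smooth K (R ⊗[K] R) := Algebra.Smooth.comp K R (R ⊗[K] R)
    exact CotTLib.isRegularLocalRing_of_isSmoothAt (k := K) _
  let m : R ⊗[K] R →+* R := (Algebra.TensorProduct.lmul' K (S := R)).toRingHom
  let u₁ : R →+* R ⊗[K] R := Algebra.TensorProduct.includeLeftRingHom
  let u₂ : R →+* R ⊗[K] R := (Algebra.TensorProduct.includeRight : R →ₐ[K] R ⊗[K] R).toRingHom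
  have hu₁ : ∀ r, m (u₁ r) = r := fun r => by simp [m, u₁]
  have hu₂ : ∀ r, m (u₂ r) = r := fun r => by simp [m, u₂]
  have hφ : ∀ u : R →+* R ⊗[K] R, (∀ r, m (u r) = r) → ∀ y : p.primeCompl,
      IsUnit ((algebraMap (R ⊗[K] R) (Localization.AtPrime (diagPrime K R p))).comp u y) :=
    fun u hu y => IsLocalization.map_units _
      (⟨u y, fun h => y.2 ((hu (y : R)) ▸ (h : m (u y) ∈ p))⟩ : (diagPrime K R p).primeCompl)
  let φ₁ : A →+* _ := IsLocalization.lift (hφ u₁ hu₁)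
  let φ₂ : A →+* _ := IsLocalization.lift (hφ u₂ hu₂)
  have hμ : ∀ y : (diagPrime K R p).primeCompl, IsUnit ((algebraMap R A).comp m y) := fun y =>
    IsLocalization.map_units A (⟨m y, y.2⟩ : p.primeCompl)
  let μ : Localization.AtPrime (diagPrime K R p) →+* A := IsLocalization.lift hμ
  have hsec : ∀ (u : R →+* R ⊗[K] R) (hu : ∀ r, m (u r) = r) (a : A), μ (IsLocalization.lift (hφ u hu) a) = a := by
    intro u hu a
    refine RingHom.congr_fun (IsLocalization.ringHom_ext p.primeCompl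
      (j := μ.comp (IsLocalization.lift (hφ u hu))) (k := RingHom.id A) (RingHom.ext fun r => ?_)) a
    simp [μ, hu]
  have c₁ : φ₁.comp (algebraMap R A) = (algebraMap _ _).comp u₁ := IsLocalization.lift_comp _
  have c₂ : φ₂.comp (algebraMap R A) = (algebraMap _ _).comp u₂ := IsLocalization.lift_comp _
  exact chi_zero_diag (μ := μ) (hsec u₁ hu₁) (hsec u₂ hu₂)
    (flat_lift K R A p (flat_quot_tensor K R) φ₁ φ₂ c₁ c₂)
    (flat_lift K R A p (flat_quot_tensor' K R) φ₂ φ₁ c₂ c₁) hI hJ hdim h0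

end Groth.Agent.IntMult63
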