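import Groth.Agent.IntMult63.DiagScheme
import Groth.Agent.CycLib.Push
import Groth.Agent.FibDim.AffineSpaceFibre

/-! The intersection product through the diagonal. -/

set_option autoImplicit false
set_option linter.style.haveILetI false
set_option linter.unusedSectionVars false
set_option backward.isDefEq.respectTransparency false
set_option backward.isDefEq.respectTransparency.types false

universe u

open CategoryTheory CategoryTheory.Limits AlgebraicGeometry IsLocalRing
open scoped Classical

namespace Groth.Agent.IntMult63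

open Groth.Agent CDiv6 H23.StalkPrimes

variable {X : Scheme.{u}}

theorem mem_support_ptIdeal {ξ x : X} : x ∈ (IntMult.ptIdeal ξ).support ↔ ξ ⤳ x := by
  rw [specializes_iff_mem_closure]
  show x ∈ ((IntMult.ptIdeal ξ).support : Set X) ↔ _
  rw [IntMult.ptIdeal, Scheme.IdealSheafData.coe_support_vanishingIdeal]
  rfl

theorem interProd_one (δ : X → ℤ) (n : ℤ) (ξ η x : X) :
    IntMult.interProd δ n (fun p => if p = ξ then 1 else 0) (fun p => if p = η then 1 else 0) x =
      if ξ ⤳ x ∧ η ⤳ x ∧ δ ξ + δ η - n = δ x then IntMult.mult (IntMult.ptIdeal ξ) (IntMult.ptIdeal η) x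
      else 0 := by
  unfold IntMult.interProd
  split_ifs with h
  · rw [finsum_eq_single _ ⟨(ξ, η), h⟩ fun p hp => ?_]
    · simp
    · by_cases h1 : p.1.1 = ξ
      · have h2 : p.1.2 ≠ η := fun h2 => hp (Subtype.ext (Prod.ext h1 h2))
        simp [h2]
      · simp [h1]
  · refine finsum_eq_zero_of_forall_eq_zero fun p => ?_
    by_cases h1 : p.1.1 = ξ
    · have h2 : p.1.2 ≠ η := fun h2 => h (h1 ▸ h2 ▸ p.2)
      simp [h2]
    · simp [h1]

theorem nonempty_stalk_pushO {I : X.IdealSheafData} {x : X} (hx : x ∈ I.support) :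
    Nonempty ((pushO I.subschemeι).presheaf.stalk x ≃ₗ[X.presheaf.stalk x]
      X.presheaf.stalk x ⧸ IntMult.stalkIdeal I x) := by
  obtain ⟨v, rfl⟩ : x ∈ Set.range I.subschemeι := by rw [Scheme.IdealSheafData.range_subschemeι]; exact hx
  obtain ⟨e⟩ := H23.SpClosed.nonempty_quotEquiv I.subschemeι v
  exact ⟨e.trans (Submodule.quotEquivOfEq _ _ (by
    rw [← stalkIdeal_ker, Scheme.IdealSheafData.ker_subschemeι]))⟩

variable {K : Type u} [Field K] (f : X ⟶ Spec (CommRingCat.of K)) [Smooth f] [IsSeparated f]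
  [QuasiCompact f] [IsAlgClosed K] [IsIntegral X]

/-- The closed subscheme product of the closures of two points. -/
noncomputable def prodIdeal (ξ η : X) : (pullback f f).IdealSheafData :=
  (IntMult.ptIdeal ξ).comap (pullback.fst f f) ⊔ (IntMult.ptIdeal η).comap (pullback.snd f f)

theorem mem_support_prodIdeal {ξ η : X} {w : ↥(pullback f f)} :
    w ∈ (prodIdeal f ξ η).support ↔ ξ ⤳ pullback.fst f f w ∧ η ⤳ pullback.snd f f w := by
  rw [prodIdeal, Scheme.IdealSheafData.support_sup, Scheme.IdealSheafData.support_comap,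
    Scheme.IdealSheafData.support_comap, ← mem_support_ptIdeal, ← mem_support_ptIdeal]
  rfl

theorem diag_generic_fun {δ : X → ℤ} {δ₂ : ↥(pullback f f) → ℤ} (hd : Cyc.IsDimFun X δ) {n : ℤ}
    (hn : δ (genericPoint X) = n) (h : ∀ y, δ₂ (pullback.diagonal f y) = δ y) :
    Cyc.subschemeFun δ₂ n (pullback.diagonal f) =
      Set.indicator {pullback.diagonal f (genericPoint X)} 1 := by
  funext z
  by_cases hz : z ∈ Set.range (pullback.diagonal f)
  · obtain ⟨y, rfl⟩ := hz
    rw [subschemeFun_apply, h, Set.indicator_apply]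
    haveI := LocallyOfFiniteType.isLocallyNoetherian f
    by_cases hy : y = genericPoint X
    · subst hy
      rw [if_pos hn, if_pos (Set.mem_singleton _), Pi.one_apply]
      haveI : IsSimpleModule X.functionField X.functionField := inferInstance
      rw [show Module.length (X.presheaf.stalk (genericPoint X)) (X.presheaf.stalk (genericPoint X)) = 1 from
        Module.length_eq_one X.functionField X.functionField]
      rfl
    · rw [if_neg fun e => hy (CycLib.eq_of_delta_le hd ((genericPoint_spec X).specializes (Set.mem_univ y))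
        (hn ▸ e.ge)).symm, if_neg fun e => hy ((pullback.diagonal f).isEmbedding.injective (Set.mem_singleton_iff.1 e))]
  · rw [Set.indicator_apply, if_neg fun e => hz ⟨_, (Set.mem_singleton_iff.1 e).symm⟩]
    by_contra h0
    exact hz (mem_range_of_subschemeFun_ne_zero _ h0).2

theorem map_fst_interProd_diag {δ : X → ℤ} (hδ : Cyc.DeltaCompat f δ (fun _ => 0)) {n : ℤ}
    (hn : δ (genericPoint X) = n) {δ₂ : ↥(pullback f f) → ℤ}
    (h₂ : Cyc.DeltaCompat (pullback.fst f f ≫ f) δ₂ (fun _ => 0)) (α β : AlgebraicCycle X ℤ)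
    (hprop : IntMult.IntersectProperly δ n ⇑α ⇑β) (γ : AlgebraicCycle (pullback f f) ℤ)
    (hγ : ⇑γ = IntMult.interProd δ₂ (n + n) (Set.indicator {pullback.diagonal f (genericPoint X)} 1)
      (IntMult.extProd f f δ δ δ₂ ⇑α ⇑β)) :
    IntMult.IntersectProperly δ₂ (n + n) (Set.indicator {pullback.diagonal f (genericPoint X)} 1)
        (IntMult.extProd f f δ δ δ₂ ⇑α ⇑β) ∧
      ⇑(AlgebraicCycle.map (pullback.fst f f) δ₂ δ γ) = IntMult.interProd δ n ⇑α ⇑β := by
  haveI : IsIntegral (pullback f f) := S1582.result K X X f f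
  haveI := LocallyOfFiniteType.isLocallyNoetherian f
  haveI := LocallyOfFiniteType.isLocallyNoetherian (pullback.fst f f ≫ f)
  have hd := (H23.SetupLFT.isSetup f (CycLib.isSetup_spec_field K) hδ).2.2
  have hd₂ := (H23.SetupLFT.isSetup _ (CycLib.isSetup_spec_field K) h₂).2.2
  have hn₂ : δ₂ (genericPoint ↥(pullback f f)) = n + n := by rw [delta_prod_generic f f hδ hδ h₂, hn]
  have hle := (delta_prod f f hδ hδ h₂).1
  have hdiag : ∀ y, δ₂ (pullback.diagonal f y) = δ y := fun y => by
    have h := CycLib.rd_comp (pullback.diagonal f) (pullback.fst f f ≫ f) y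
    rw [pullback.diagonal_fst_assoc, FibDim.rd_eq_zero_of_quasiFinite (pullback.diagonal f) y, add_zero] at h
    rw [CycLib.deltaCompat_eq _ h₂, CycLib.deltaCompat_eq _ hδ, h]
  have hrange : ∀ {z : ↥(pullback f f)}, pullback.diagonal f (genericPoint X) ⤳ z →
      ∃ y, pullback.diagonal f y = z := fun {z} hz => by
    have h := hz.mem_closed (pullback.diagonal f).isClosedEmbedding.isClosed_range ⟨_, rfl⟩
    exact h
  have hsup : ∀ {ξ η : X} {w : ↥(pullback f f)}, Nontrivial ((pushO (prodIdeal f ξ η).subschemeι).presheaf.stalk w) →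
      ξ ⤳ pullback.fst f f w ∧ η ⤳ pullback.snd f f w := fun {ξ η w} h => by
    have h' := mem_range_of_nontrivial _ h
    rw [Scheme.IdealSheafData.range_subschemeι] at h'
    exact (mem_support_prodIdeal f).1 h'
  have hG : ∀ ξ η, Coh.IsCoh (pushO (prodIdeal f ξ η).subschemeι) := fun ξ η => isCoh_pushO _
  have hF := isCoh_pushO (pullback.diagonal f)
  have hFle : ∀ z, Nontrivial ((pushO (pullback.diagonal f)).presheaf.stalk z) → δ₂ z ≤ n := fun z hz => by
    obtain ⟨y, rfl⟩ := mem_range_of_nontrivial _ hz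
    rw [hdiag, ← hn]
    exact CycLib.delta_le hd ((genericPoint_spec X).specializes (Set.mem_univ y))
  have hGle : ∀ ξ η w, Nontrivial ((pushO (prodIdeal f ξ η).subschemeι).presheaf.stalk w) → δ₂ w ≤ δ ξ + δ η :=
    fun ξ η w h => by
      have := hle w
      have := CycLib.delta_le hd (hsup h).1
      have := CycLib.delta_le hd (hsup h).2
      omega
  have hGfun : ∀ ξ η, Cyc.sheafFun δ₂ (δ ξ + δ η) (pushO (prodIdeal f ξ η).subschemeι) =
      IntMult.extProd f f δ δ δ₂ (fun p => if p = ξ then 1 else 0) (fun p => if p = η then 1 else 0) := by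
    intro ξ η
    funext w
    simp only [Cyc.sheafFun, IntMult.extProd]
    by_cases hw : pullback.fst f f w = ξ ∧ pullback.snd f f w = η
    · obtain ⟨rfl, rfl⟩ := hw
      refine if_congr Iff.rfl ?_ rfl
      rw [if_pos rfl, if_pos rfl, one_mul, one_mul]
      obtain ⟨e⟩ := nonempty_stalk_pushO (I := prodIdeal f (pullback.fst f f w) (pullback.snd f f w))
        (x := w) ((mem_support_prodIdeal f).2 ⟨specializes_refl _, specializes_refl _⟩)
      rw [e.length_eq, prodIdeal, stalkIdeal_sup, stalkIdeal_comap _ _ (mem_support_ptIdeal.2 (specializes_refl _)),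
        stalkIdeal_comap _ _ (mem_support_ptIdeal.2 (specializes_refl _)),
        stalkIdeal_ptIdeal (specializes_refl _), stalkIdeal_ptIdeal (specializes_refl _), primeOf_refl, primeOf_refl]
      rfl
    · have h0 : ((if pullback.fst f f w = ξ then (1 : ℤ) else 0) * (if pullback.snd f f w = η then (1 : ℤ) else 0)) = 0 := by
        rcases not_and_or.1 hw with h | h <;> simp [h]
      rw [h0, zero_mul, ite_self]
      split_ifs with hδw
      · haveI : Subsingleton ((pushO (prodIdeal f ξ η).subschemeι).presheaf.stalk w) := by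
          refine not_nontrivial_iff_subsingleton.1 fun h => hw ?_
          have := hle w
          have d1 := CycLib.delta_le hd (hsup h).1
          have d2 := CycLib.delta_le hd (hsup h).2
          exact ⟨(CycLib.eq_of_delta_le hd (hsup h).1 (by omega)).symm,
            (CycLib.eq_of_delta_le hd (hsup h).2 (by omega)).symm⟩
        simp [Module.length_eq_zero]
      · rfl
  refine ⟨fun a w z ha hw haz hwz => ?_, funext fun x => ?_⟩
  · obtain rfl : a = pullback.diagonal f (genericPoint X) := by
      by_contra h; exact ha (Set.indicator_of_notMem (s := {pullback.diagonal f (genericPoint X)}) (fun e => h (Set.mem_singleton_iff.1 e)) _)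
    obtain ⟨y, rfl⟩ := hrange haz
    simp only [IntMult.extProd] at hw
    split_ifs at hw with hc
    · have h1 := hwz.map (pullback.fst f f).continuous
      have h2 := hwz.map (pullback.snd f f).continuous
      rw [fst_diag] at h1
      rw [snd_diag] at h2
      have := hprop _ _ y (left_ne_zero_of_mul (left_ne_zero_of_mul hw)) (right_ne_zero_of_mul (left_ne_zero_of_mul hw)) h1 h2
      rw [hdiag, hdiag, hn, hc]
      omega
    · exact absurd rfl hw
  have hsupp : ∀ z, γ z ≠ 0 → ∃ y, pullback.diagonal f y = z := fun z hz => by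
    rw [hγ] at hz
    unfold IntMult.interProd at hz
    obtain ⟨⟨⟨a, b⟩, ha, hb, _⟩, hp⟩ := not_forall.1 (mt finsum_eq_zero_of_forall_eq_zero hz)
    obtain rfl : a = pullback.diagonal f (genericPoint X) := by
      by_contra h
      exact hp (by simp [Set.indicator_of_notMem (show a ∉ ({pullback.diagonal f (genericPoint X)} : Set _) from h)])
    exact hrange ha
  rw [CycLib.map_apply', finsum_mem_def, finsum_eq_single _ (pullback.diagonal f x) fun z hz => ?_]
  swap
  · refine Set.indicator_apply_eq_zero.2 fun hzx => ?_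
    by_contra h0
    obtain ⟨y, rfl⟩ := hsupp z (left_ne_zero_of_mul h0)
    exact hz (congrArg _ ((fst_diag f y).symm.trans hzx))
  rw [Set.indicator_of_mem (show pullback.diagonal f x ∈ pullback.fst f f ⁻¹' {x} from fst_diag f x)]
  have hdeg : AlgebraicCycle.mapCoeff (pullback.fst f f) δ₂ δ (pullback.diagonal f x) = 1 := by
    rw [AlgebraicCycle.mapCoeff, if_pos (by rw [hdiag]; exact congrArg δ (fst_diag f x).symm)]
    have h := CycLib.residueDegree_comp (pullback.diagonal f) (pullback.fst f f) x
    rw [pullback.diagonal_fst] at h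
    exact (Nat.eq_one_of_mul_eq_one_right ((by simpa using h.symm)))
  rw [hdeg, Nat.cast_one, mul_one, hγ]
  let Sα := (finite_gens_cycle α x).toFinset
  let Sβ := (finite_gens_cycle β x).toFinset
  let e : X → X → ℤ := fun ξ p => if p = ξ then 1 else 0
  have hfin : ∀ ξ, {p : X | p ⤳ x ∧ e ξ p ≠ 0}.Finite := fun ξ =>
    (Set.finite_singleton ξ).subset fun p hp => not_not.1 fun h => hp.2 (if_neg h)
  have hexp : ∀ (c : AlgebraicCycle X ℤ) (p : X), p ⤳ x →
      c p = ∑ ξ ∈ (finite_gens_cycle c x).toFinset, c ξ * e ξ p := fun c p hp => by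
    simp only [e, mul_ite, mul_one, mul_zero, Finset.sum_ite_eq, Set.Finite.mem_toFinset]
    split_ifs with h
    · rfl
    · exact not_not.1 fun h' => h ⟨hp, h'⟩
  have hexp₂ : ∀ w : ↥(pullback f f), w ⤳ pullback.diagonal f x → IntMult.extProd f f δ δ δ₂ ⇑α ⇑β w =
      ∑ P ∈ Sα ×ˢ Sβ, α P.1 * β P.2 * IntMult.extProd f f δ δ δ₂ (e P.1) (e P.2) w := fun w hw => by
    have h1 := hw.map (pullback.fst f f).continuous
    have h2 := hw.map (pullback.snd f f).continuous
    rw [fst_diag] at h1
    rw [snd_diag] at h2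
    simp only [IntMult.extProd]
    split_ifs
    · rw [hexp α _ h1, hexp β _ h2, Finset.sum_mul_sum, ← Finset.sum_product', Finset.sum_mul]
      exact Finset.sum_congr rfl fun P _ => by ring
    · simp
  rw [interProd_sum ({()} : Finset Unit) (Sα ×ˢ Sβ) (fun _ => 1) (fun P => α P.1 * β P.2)
    (fun _ => Cyc.sheafFun δ₂ n (pushO (pullback.diagonal f)))
    (fun P => IntMult.extProd f f δ δ δ₂ (e P.1) (e P.2)) δ₂ (n + n)
    (fun p _ => by rw [sheafFun_pushO, diag_generic_fun f hd hn hdiag]; simp) hexp₂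
    (fun _ _ => finite_gens_sheafFun (pullback.fst f f ≫ f) hd₂ hF hFle)
    (fun P _ => by
      simp only [e]
      rw [← hGfun]
      exact finite_gens_sheafFun (pullback.fst f f ≫ f) hd₂ (hG _ _) (hGle _ _)),
    interProd_sum Sα Sβ α β e e δ n (hexp α) (hexp β) (fun ξ _ => hfin ξ) fun η _ => hfin η,
    Finset.sum_singleton, Finset.sum_product]
  refine Finset.sum_congr rfl fun ξ hξ => Finset.sum_congr rfl fun η hη => ?_
  rw [one_mul]
  refine congrArg (α ξ * β η * ·) ?_
  simp only [e]
  rw [← hGfun, interProd_eq (pullback.fst f f ≫ f) hd₂ hn₂ hF (hG ξ η) hFle (hGle ξ η) (fun w h1 h2 => ?_),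
    interProd_one]
  swap
  · obtain ⟨y, rfl⟩ := mem_range_of_nontrivial _ h1
    obtain ⟨s1, s2⟩ := hsup h2
    rw [fst_diag] at s1
    rw [snd_diag] at s2
    have := hprop ξ η y ((Set.Finite.mem_toFinset _).1 hξ).2 ((Set.Finite.mem_toFinset _).1 hη).2 s1 s2
    rw [hdiag]
    omega
  rw [hdiag]
  by_cases hs : ξ ⤳ x ∧ η ⤳ x
  · refine if_congr ⟨fun h => ⟨hs.1, hs.2, by omega⟩, fun h => by omega⟩ ?_ rfl
    haveI := GrpSchLib.isRegularLocalRing_stalk_of_smooth (pullback.fst f f ≫ f) (pullback.diagonal f x)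
    obtain ⟨eF⟩ := H23.SpClosed.nonempty_quotEquiv (pullback.diagonal f) x
    obtain ⟨eG⟩ := nonempty_stalk_pushO (I := prodIdeal f ξ η) (x := pullback.diagonal f x)
      ((mem_support_prodIdeal f).2 (by rw [fst_diag, snd_diag]; exact hs))
    rw [chi_congr' eF, chi_comm, chi_congr' eG, chi_comm]
    exact (mult_eq_diag f _ _ (mem_support_ptIdeal.2 hs.1) (mem_support_ptIdeal.2 hs.2)).symm
  · rw [if_neg (fun h : ξ ⤳ x ∧ η ⤳ x ∧ δ ξ + δ η - n = δ x => hs ⟨h.1, h.2.1⟩)]
    split_ifs with hz
    · haveI := GrpSchLib.isRegularLocalRing_stalk_of_smooth (pullback.fst f f ≫ f) (pullback.diagonal f x)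
      refine chi_eq_zero_of_subsingleton _ _ (Or.inr (not_nontrivial_iff_subsingleton.1 fun h => hs ?_))
      obtain ⟨s1, s2⟩ := hsup h
      rw [fst_diag] at s1
      rw [snd_diag] at s2
      exact ⟨s1, s2⟩
    · rfl

end Groth.Agent.IntMult63
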