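import Groth.Agent.IntMult63.Positive
import Groth.Agent.CAlgGlobalDim.RegSeq
import Groth.Agent.RegLoc6.Basic
import Mathlib.RingTheory.KrullDimension.NonZeroDivisors

/-! Transversal intersections. -/

set_option autoImplicit false
set_option linter.style.haveILetI false

universe u

open IsLocalRing

namespace Groth.Agent.IntMult63

open Groth.Agent

variable {A : Type u} [CommRing A] [IsRegularLocalRing A]

/-- Minimal generators of the maximal ideal split between two ideals spanning it. -/
theorem exists_split_generators {I J : Ideal A} (h : I ⊔ J = maximalIdeal A) :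
    ∃ xs ys : List A, Ideal.ofList xs ≤ I ∧ Ideal.ofList ys ≤ J ∧ Ideal.ofList (xs ++ ys) = maximalIdeal A ∧
      xs.length + ys.length ≤ (maximalIdeal A).spanFinrank := by
  classical
  let s : Set (maximalIdeal A) := {z | (z : A) ∈ I ∨ (z : A) ∈ J}
  have hs : Submodule.span A s = ⊤ := by
    rw [eq_top_iff]
    rintro ⟨z, hz⟩ -
    obtain ⟨i, hi, j, hj, hij⟩ := Submodule.mem_sup.1 (h.symm ▸ hz : z ∈ I ⊔ J)
    have him : i ∈ maximalIdeal A := h ▸ Ideal.mem_sup_left hi
    have hjm : j ∈ maximalIdeal A := h ▸ Ideal.mem_sup_right hj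
    have e : (⟨z, hz⟩ : maximalIdeal A) = ⟨i, him⟩ + ⟨j, hjm⟩ := Subtype.ext hij.symm
    rw [e]
    exact add_mem (Submodule.subset_span (Or.inl hi)) (Submodule.subset_span (Or.inr hj))
  obtain ⟨b, hbs, hbspan, hli⟩ := exists_linearIndependent (ResidueField A)
    ((maximalIdeal A).toCotangent '' s)
  rw [CotangentSpace.span_image_eq_top_iff.2 hs] at hbspan
  have hfin : b.Finite := LinearIndependent.setFinite hli
  have hcard : hfin.toFinset.card ≤ (maximalIdeal A).spanFinrank := by
    rw [IsLocalRing.spanFinrank_maximalIdeal_eq_finrank_cotangentSpace]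
    haveI := hfin.fintype
    rw [hfin.card_toFinset]
    exact hli.fintype_card_le_finrank
  choose g hg hgv using fun v : hfin.toFinset => hbs (hfin.mem_toFinset.1 v.2)
  have hgen : Submodule.span A (Set.range g) = ⊤ := by
    rw [← CotangentSpace.span_image_eq_top_iff, eq_top_iff, ← hbspan]
    exact Submodule.span_mono fun v hv => ⟨g ⟨v, hfin.mem_toFinset.2 hv⟩, Set.mem_range_self _, hgv _⟩
  let l : List A := hfin.toFinset.attach.toList.map fun v => (g v : A)
  have hl : Ideal.ofList l = maximalIdeal A := by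
    have := congrArg (Submodule.map (maximalIdeal A).subtype) hgen
    rw [Submodule.map_span, Submodule.map_top, Submodule.range_subtype, ← Set.range_comp] at this
    refine Eq.trans (congrArg Ideal.span (Set.ext fun a => ?_)) this
    simp only [l, Set.mem_setOf_eq, List.mem_map, Finset.mem_toList, Finset.mem_attach, true_and, Set.mem_range,
      Function.comp_apply, Submodule.coe_subtype]
  refine ⟨l.filter (fun a => decide (a ∈ I)), l.filter (fun a => !decide (a ∈ I)), ?_, ?_, ?_, ?_⟩
  · exact Ideal.span_le.2 fun a ha => by simpa using (List.mem_filter.1 ha).2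
  · refine Ideal.span_le.2 fun a ha => ?_
    obtain ⟨h1, h2⟩ := List.mem_filter.1 ha
    obtain ⟨v, -, rfl⟩ := List.mem_map.1 h1
    exact (hg v).resolve_left (by simpa using h2)
  · rw [← hl]
    refine congrArg Ideal.span (Set.ext fun a => ?_)
    simp only [Set.mem_setOf_eq, List.mem_append, List.mem_filter]
    exact ⟨fun h => h.elim And.left And.left, fun ha => (em (a ∈ I)).elim
      (fun hI => Or.inl ⟨ha, by simpa using hI⟩) (fun hI => Or.inr ⟨ha, by simpa using hI⟩)⟩
  · refine le_trans (le_of_eq ?_) hcard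
    rw [← List.length_eq_length_filter_add, List.length_map, Finset.length_toList, Finset.card_attach]

/-- A proper quotient of a domain has smaller dimension. -/
theorem eq_bot_of_dim_le {S : Type u} [CommRing S] [IsDomain S] {T : Ideal S} {d : ℕ}
    (hS : ringKrullDim S ≤ d) (hT : (d : WithBot ℕ∞) ≤ ringKrullDim (S ⧸ T)) : T = ⊥ := by
  by_contra hne
  obtain ⟨r, hr, hr0⟩ := Submodule.exists_mem_ne_zero_of_ne_bot hne
  have hle : ringKrullDim (S ⧸ T) ≤ ringKrullDim (S ⧸ Ideal.span {r}) :=
    ringKrullDim_le_of_surjective (Ideal.Quotient.factor ((Ideal.span_singleton_le_iff_mem _).2 hr))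
      (Ideal.Quotient.factor_surjective _)
  have h2 : (d : WithBot ℕ∞) + 1 ≤ (d : WithBot ℕ∞) :=
    (add_le_add (hT.trans hle) le_rfl).trans ((ringKrullDim_quotient_succ_le_of_nonZeroDivisor
      (mem_nonZeroDivisors_iff_ne_zero.2 hr0)).trans hS)
  have : d + 1 ≤ d := by exact_mod_cast h2
  omega

theorem quot_regular {xs ys : List A} (hgen : Ideal.ofList (xs ++ ys) = maximalIdeal A)
    (hlen : xs.length + ys.length ≤ (maximalIdeal A).spanFinrank) :
    RingTheory.Sequence.IsWeaklyRegular A (xs ++ ys) ∧ IsRegularLocalRing (A ⧸ Ideal.ofList xs) ∧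
      ringKrullDim (A ⧸ Ideal.ofList xs) = ys.length := by
  have hreg := CAlgGlobalDim.isWeaklyRegular_of_generators _ A (xs ++ ys) rfl hgen (by simpa using hlen)
  have hx := ((RingTheory.Sequence.isWeaklyRegular_append_iff A xs ys).1 hreg).1
  have hmem : ∀ a ∈ xs ++ ys, a ∈ maximalIdeal A := fun a ha => hgen ▸ Ideal.subset_span ha
  have hxm : ∀ a ∈ xs, a ∈ maximalIdeal A := fun a ha => hmem a (List.mem_append_left _ ha)
  haveI := isLocalRing_quot (Ideal.span_le.2 hxm : Ideal.ofList xs ≤ maximalIdeal A)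
  obtain ⟨a, ha⟩ := exists_dim_nat A
  obtain ⟨d, hd⟩ := exists_dim_nat (A ⧸ Ideal.ofList xs)
  have e := ringKrullDim_add_length_eq_ringKrullDim_of_isRegular xs (RegLoc6.isRegular_iff_weakly xs hxm hx)
  rw [hd, ha] at e
  replace e : d + xs.length = a := by exact_mod_cast e
  have hr := CAlgGlobalDim.spanFinrank_eq_of_dim A a ha
  have hsp : (maximalIdeal (A ⧸ Ideal.ofList xs)).spanFinrank ≤ ys.length := by
    haveI : IsLocalHom (Ideal.Quotient.mk (Ideal.ofList xs)) :=
      IsLocalHom.of_surjective _ Ideal.Quotient.mk_surjective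
    rw [← IsLocalRing.map_maximalIdeal_of_surjective _ (Ideal.Quotient.mk_surjective (I := Ideal.ofList xs)),
      ← hgen, Ideal.ofList_append, Ideal.map_sup, Ideal.map_quotient_self, bot_sup_eq, Ideal.map_ofList]
    classical
    refine (Submodule.spanFinrank_span_le_ncard_of_finite (List.finite_toSet _)).trans ?_
    rw [show {r | r ∈ ys.map (Ideal.Quotient.mk (Ideal.ofList xs))} =
      ↑(ys.map (Ideal.Quotient.mk (Ideal.ofList xs))).toFinset from (List.coe_toFinset _).symm, Set.ncard_coe_finset]
    exact (List.toFinset_card_le _).trans_eq (List.length_map _)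
  have hge : ringKrullDim (A ⧸ Ideal.ofList xs) ≤ (maximalIdeal (A ⧸ Ideal.ofList xs)).spanFinrank :=
    ringKrullDim_le_spanFinrank_maximalIdeal _
  rw [hd, Nat.cast_le] at hge
  have hdy : d = ys.length := by
    have h1 : a ≤ xs.length + ys.length := by
      rw [← hr, ← hgen]
      classical
      refine (Submodule.spanFinrank_span_le_ncard_of_finite (List.finite_toSet _)).trans ?_
      rw [show {r | r ∈ xs ++ ys} = ↑(xs ++ ys).toFinset from (List.coe_toFinset _).symm, Set.ncard_coe_finset]
      exact (List.toFinset_card_le _).trans_eq List.length_append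
    omega
  refine ⟨hreg, IsRegularLocalRing.of_spanFinrank_maximalIdeal_le _ ?_, by rw [hd, hdy]⟩
  rw [hd, hdy]
  exact_mod_cast hsp

/-- A pair of ideals of complementary dimension spanning the maximal ideal is transversal. -/
theorem transversal {I J : Ideal A} (h : I ⊔ J = maximalIdeal A)
    (hdim : ringKrullDim A ≤ ringKrullDim (A ⧸ I) + ringKrullDim (A ⧸ J)) :
    IsRegularLocalRing (A ⧸ I) ∧ IsRegularLocalRing (A ⧸ J) ∧ IntMult.chi A (A ⧸ I) (A ⧸ J) = 1 := by
  obtain ⟨xs, ys, hx, hy, hgen, hlen⟩ := exists_split_generators h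
  have hgen' : Ideal.ofList (ys ++ xs) = maximalIdeal A := by
    rw [← hgen, Ideal.ofList_append, Ideal.ofList_append, sup_comm]
  obtain ⟨hr, hregX, hdX⟩ := quot_regular hgen hlen
  obtain ⟨hr', hregY, hdY⟩ := quot_regular hgen' (by omega)
  obtain ⟨a, ha⟩ := exists_dim_nat A
  have hI : I ≤ maximalIdeal A := h ▸ le_sup_left
  have hJ : J ≤ maximalIdeal A := h ▸ le_sup_right
  haveI := isLocalRing_quot hI
  haveI := isLocalRing_quot hJ
  obtain ⟨i, hi⟩ := exists_dim_nat (A ⧸ I)
  obtain ⟨j, hj⟩ := exists_dim_nat (A ⧸ J)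
  have h1 : i ≤ ys.length := by
    have := ringKrullDim_le_of_surjective (Ideal.Quotient.factor hx) (Ideal.Quotient.factor_surjective hx)
    rw [hi, hdX] at this
    exact_mod_cast this
  have h2 : j ≤ xs.length := by
    have := ringKrullDim_le_of_surjective (Ideal.Quotient.factor hy) (Ideal.Quotient.factor_surjective hy)
    rw [hj, hdY] at this
    exact_mod_cast this
  have h3 : a ≤ i + j := by
    rw [ha, hi, hj] at hdim
    exact_mod_cast hdim
  have h4 := CAlgGlobalDim.spanFinrank_eq_of_dim A a ha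
  have key : ∀ {zs ws : List A} {T : Ideal A}, Ideal.ofList zs ≤ T → IsRegularLocalRing (A ⧸ Ideal.ofList zs) →
      ringKrullDim (A ⧸ Ideal.ofList zs) = ws.length → (ws.length : WithBot ℕ∞) ≤ ringKrullDim (A ⧸ T) →
      T = Ideal.ofList zs := by
    intro zs ws T hle hreg hd hT
    haveI := hreg
    haveI : IsDomain (A ⧸ Ideal.ofList zs) := RegLoc6.isDomain_of_isRegularLocalRing _
    have hb : T.map (Ideal.Quotient.mk (Ideal.ofList zs)) = ⊥ := by
      refine eq_bot_of_dim_le hd.le ?_
      rw [ringKrullDim_eq_of_ringEquiv (DoubleQuot.quotQuotEquivQuotSup _ _),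
        ringKrullDim_eq_of_ringEquiv (Ideal.quotEquivOfEq (sup_eq_right.2 hle))]
      exact hT
    refine le_antisymm ?_ hle
    rw [Ideal.map_eq_bot_iff_le_ker, Ideal.mk_ker] at hb
    exact hb
  have eI : I = Ideal.ofList xs := key hx hregX hdX (by rw [hi]; exact_mod_cast (by omega : ys.length ≤ i))
  have eJ : J = Ideal.ofList ys := key hy hregY hdY (by rw [hj]; exact_mod_cast (by omega : xs.length ≤ j))
  subst eI eJ
  refine ⟨hregX, hregY, ?_⟩
  rw [chi_eq_kos xs ((RingTheory.Sequence.isWeaklyRegular_append_iff A xs ys).1 hr).1,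
    chi_eq_length xs _ ?_, (quotQuot _ _).length_eq, sup_comm, h]
  · haveI : IsSimpleModule A (A ⧸ maximalIdeal A) := isSimpleModule_iff_isCoatom.2 (maximalIdeal.isMaximal A).out
    rw [Module.length_eq_one]
    rfl
  · have hw := ((RingTheory.Sequence.isWeaklyRegular_append_iff A ys xs).1 hr').2
    exact (LinearEquiv.isWeaklyRegular_congr (Submodule.quotEquivOfEq _ _ (by rw [smul_eq_mul, Ideal.mul_top])) xs).1 hw

end Groth.Agent.IntMult63
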