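import Groth.Agent.IntMult63.Points
import Groth.Agent.IntMult63.LengthOne
import Groth.Agent.H23.SpClosed
import Groth.Agent.QCoh.ClosedPush
import Groth.Agent.RegLoc6.Basic

/-! Cycles of closed subschemes and intersections of multiplicity one. -/

set_option autoImplicit false
set_option linter.style.haveILetI false
set_option linter.unusedSectionVars false
set_option backward.isDefEq.respectTransparency false
set_option backward.isDefEq.respectTransparency.types false

universe u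

open CategoryTheory CategoryTheory.Limits AlgebraicGeometry IsLocalRing
open scoped Classical

namespace Groth.Agent.IntMult63

open Groth.Agent CDiv6 H23.StalkPrimes

variable {X Y : Scheme.{u}} (ι : Y ⟶ X) [IsClosedImmersion ι]

/-- The structure sheaf of a closed subscheme on the ambient scheme. -/
noncomputable abbrev pushO : X.Modules := (Coh.push ι).obj (Coh.structureModule Y)

theorem isCoh_pushO [IsLocallyNoetherian X] : Coh.IsCoh (pushO ι) :=
  haveI := LocallyOfFiniteType.isLocallyNoetherian ι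
  QCoh.isCoh_pushforward_finite _ QCoh.isCoh_structureModule'

theorem mem_range_of_nontrivial {x : X} (h : Nontrivial ((pushO ι).presheaf.stalk x)) : x ∈ Set.range ι := by
  by_contra hx
  haveI : Subsingleton ((pushO ι).presheaf.stalk x) :=
    H23.ClosedPushLen.subsingleton_stalk ι (Coh.structureModule Y) hx
  exact false_of_nontrivial_of_subsingleton ((pushO ι).presheaf.stalk x)

theorem subschemeFun_apply (δ : X → ℤ) (k : ℤ) (y : Y) :
    Cyc.subschemeFun δ k ι (ι y) =
      if δ (ι y) = k then ((Module.length (Y.presheaf.stalk y) (Y.presheaf.stalk y)).toNat : ℤ) else 0 := by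
  unfold Cyc.subschemeFun
  rw [show {z : Y | ι z = ι y} = {y} from Set.ext fun z => ι.isEmbedding.injective.eq_iff, finsum_mem_singleton]

theorem mem_range_of_subschemeFun_ne_zero {δ : X → ℤ} {k : ℤ} {x : X} (h : Cyc.subschemeFun δ k ι x ≠ 0) :
    δ x = k ∧ x ∈ Set.range ι := by
  unfold Cyc.subschemeFun at h
  split_ifs at h with h1
  · refine ⟨h1, ?_⟩
    by_contra hx
    rw [show {z : Y | ι z = x} = ∅ from Set.eq_empty_of_forall_notMem fun z hz => hx ⟨z, hz⟩,
      finsum_mem_empty] at h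
    exact h rfl
  · exact absurd rfl h

theorem sheafFun_pushO (δ : X → ℤ) (k : ℤ) : Cyc.sheafFun δ k (pushO ι) = Cyc.subschemeFun δ k ι := by
  funext x
  by_cases hx : x ∈ Set.range ι
  · obtain ⟨y, rfl⟩ := hx
    rw [subschemeFun_apply, Cyc.sheafFun]
    refine if_congr Iff.rfl ?_ rfl
    obtain ⟨e⟩ := H23.SpClosed.nonempty_quotEquiv ι y
    rw [e.length_eq, ← H23.SpClosed.length_stalk_closed]
  · haveI : Subsingleton ((pushO ι).presheaf.stalk x) :=
      H23.ClosedPushLen.subsingleton_stalk ι (Coh.structureModule Y) hx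
    unfold Cyc.sheafFun Cyc.subschemeFun
    rw [Module.length_eq_zero,
      show {z : Y | ι z = x} = ∅ from Set.eq_empty_of_forall_notMem fun z hz => hx ⟨z, hz⟩, finsum_mem_empty]
    simp

theorem nonempty_stalk_quot {Z : Scheme.{u}} (ιZ : Z ⟶ X) [IsClosedImmersion ιZ] {x : X} {z : Z} (h : x = ιZ z) :
    Nonempty ((pushO ιZ).presheaf.stalk x ≃ₗ[X.presheaf.stalk x] X.presheaf.stalk x ⧸
      (RingHom.ker (ιZ.stalkMap z).hom).map (X.presheaf.stalkSpecializes (specializes_of_eq h)).hom) := by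
  subst h
  obtain ⟨e⟩ := H23.SpClosed.nonempty_quotEquiv ιZ z
  exact ⟨e.trans (Submodule.quotEquivOfEq _ _ (by rw [TopCat.Presheaf.stalkSpecializes_refl]; exact (Ideal.map_id _).symm))⟩

theorem isRegularLocalRing_stalk_of_quot {Z : Scheme.{u}} (ιZ : Z ⟶ X) [IsClosedImmersion ιZ] {x : X} {z : Z}
    (h : x = ιZ z) (hreg : IsRegularLocalRing (X.presheaf.stalk x ⧸
      (RingHom.ker (ιZ.stalkMap z).hom).map (X.presheaf.stalkSpecializes (specializes_of_eq h)).hom)) :
    IsRegularLocalRing (Z.presheaf.stalk z) := by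
  subst h
  rw [TopCat.Presheaf.stalkSpecializes_refl] at hreg
  haveI : IsRegularLocalRing (X.presheaf.stalk (ιZ z) ⧸ RingHom.ker (ιZ.stalkMap z).hom) :=
    IsRegularLocalRing.of_ringEquiv (Ideal.quotEquivOfEq (Ideal.map_id _))
  exact IsRegularLocalRing.of_ringEquiv (RingHom.quotientKerEquivOfSurjective (ιZ.stalkMap_surjective z))

/-- The dimension of the stalk quotient at a point below a component of the right dimension. -/
theorem le_dim_quot [IsLocallyNoetherian X] {δ : X → ℤ} (hd : Cyc.IsDimFun X δ) {x ξ : X} (h : ξ ⤳ x)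
    {I : Ideal (X.presheaf.stalk x)} (e : (pushO ι).presheaf.stalk x ≃ₗ[X.presheaf.stalk x] X.presheaf.stalk x ⧸ I)
    (hξ : Nontrivial ((pushO ι).presheaf.stalk ξ)) :
    ((δ ξ - δ x).toNat : WithBot ℕ∞) ≤ ringKrullDim (X.presheaf.stalk x ⧸ I) := by
  have hP := (mem_support_primeOf (isCoh_pushO ι) h).2 hξ
  rw [e.support_eq, Module.support_eq_zeroLocus, Ideal.annihilator_quotient, PrimeSpectrum.mem_zeroLocus,
    SetLike.coe_subset_coe] at hP
  rw [← dim_quot_primeOf hd h]
  exact ringKrullDim_le_of_surjective (Ideal.Quotient.factor hP) (Ideal.Quotient.factor_surjective hP)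

variable {K : Type u} [Field K] (f : X ⟶ Spec (CommRingCat.of K)) [Smooth f] [IsIntegral X] {δ : X → ℤ}

include f in
/-- Intersections of multiplicity one. -/
theorem mult_one (hd : Cyc.IsDimFun X δ) {n : ℤ} (hn : δ (genericPoint X) = n) {Z : Scheme.{u}} (ιZ : Z ⟶ X)
    [IsClosedImmersion ιZ] {r s : ℤ} (hY : ∀ y : Y, δ (ι y) ≤ r) (hZ : ∀ z : Z, δ (ιZ z) ≤ s) {τ : X}
    (hτ : δ τ = r + s - n)
    (hξ : ∃ ξ η : X, Cyc.subschemeFun δ r ι ξ ≠ 0 ∧ Cyc.subschemeFun δ s ιZ η ≠ 0 ∧ ξ ⤳ τ ∧ η ⤳ τ)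
    (hmult : Cyc.subschemeFun δ (r + s - n) (pullback.fst ι ιZ ≫ ι) τ = 1) :
    IntMult.interProd δ n (Cyc.subschemeFun δ r ι) (Cyc.subschemeFun δ s ιZ) τ = 1 ∧
      (∀ y : Y, ι y = τ → IsRegularLocalRing (Y.presheaf.stalk y)) ∧
      (∀ z : Z, ιZ z = τ → IsRegularLocalRing (Z.presheaf.stalk z)) := by
  haveI := LocallyOfFiniteType.isLocallyNoetherian f
  obtain ⟨ξ, η, hξ0, hη0, hξτ, hητ⟩ := hξ
  obtain ⟨w, rfl⟩ : τ ∈ Set.range (pullback.fst ι ιZ ≫ ι) :=
    (mem_range_of_subschemeFun_ne_zero _ (by rw [hmult]; exact one_ne_zero)).2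
  haveI := GrpSchLib.isRegularLocalRing_stalk_of_smooth f ((pullback.fst ι ιZ ≫ ι) w)
  rw [subschemeFun_apply, if_pos hτ, Nat.cast_eq_one] at hmult
  set y := pullback.fst ι ιZ w with hy
  have hlen : Module.length ((pullback ι ιZ : Scheme.{u}).presheaf.stalk w)
      ((pullback ι ιZ : Scheme.{u}).presheaf.stalk w) = 1 := by
    rwa [ENat.toNat_eq_iff one_ne_zero, Nat.cast_one] at hmult
  change δ (ι y) = r + s - n at hτ
  change ξ ⤳ ι y at hξτ
  change η ⤳ ι y at hητ
  have h := H23.GysinPb.apply_fst_eq ι ιZ w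
  obtain ⟨eY⟩ := H23.SpClosed.nonempty_quotEquiv ι y
  obtain ⟨eZ⟩ := nonempty_stalk_quot (X := X) ιZ h
  set A := X.presheaf.stalk (ι y)
  set I := RingHom.ker (ι.stalkMap y).hom
  set J := (RingHom.ker (ιZ.stalkMap (pullback.snd ι ιZ w)).hom).map
    (X.presheaf.stalkSpecializes (specializes_of_eq h)).hom
  haveI : IsRegularLocalRing A := GrpSchLib.isRegularLocalRing_stalk_of_smooth f (ι y)
  let φ : A →+* (pullback ι ιZ : Scheme.{u}).presheaf.stalk w :=
    ((pullback.fst ι ιZ).stalkMap w).hom.comp (ι.stalkMap y).hom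
  have hφ : Function.Surjective φ :=
    ((pullback.fst ι ιZ).stalkMap_surjective w).comp (ι.stalkMap_surjective y)
  have hker : RingHom.ker φ = I ⊔ J := by
    rw [← RingHom.comap_ker, H23.GysinPb.ker_stalkMap_fst, H23.GysinPb.baseMap, CommRingCat.hom_comp,
      ← Ideal.map_map]
    rw [show Ideal.map (ι.stalkMap (pullback.fst ι ιZ w)).hom (Ideal.map _ _) = Ideal.map (ι.stalkMap y).hom J from rfl,
      Ideal.comap_map_of_surjective _ (ι.stalkMap_surjective y), ← RingHom.ker_eq_comap_bot, sup_comm]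
  have hIJ : I ⊔ J = maximalIdeal A := by
    refine le_antisymm (hker ▸ le_maximalIdeal (RingHom.ker_ne_top φ)) fun a ha => ?_
    rw [← hker, RingHom.mem_ker]
    haveI : IsSimpleModule _ ((pullback ι ιZ : Scheme.{u}).presheaf.stalk w) := Module.length_eq_one_iff.1 hlen
    have hm : maximalIdeal ((pullback ι ιZ : Scheme.{u}).presheaf.stalk w) = ⊥ :=
      (eq_bot_or_eq_top _).resolve_right (maximalIdeal.isMaximal _).ne_top
    haveI := IsLocalHom.of_surjective φ hφ
    rw [← Ideal.mem_bot, ← hm]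
    exact fun hu => ha ((isUnit_map_iff φ a).1 hu)
  have hFY : ∀ x : X, Nontrivial ((pushO ι).presheaf.stalk x) → δ x ≤ r := fun x hx => by
    obtain ⟨y, rfl⟩ := mem_range_of_nontrivial ι hx
    exact hY y
  have hGZ : ∀ x : X, Nontrivial ((pushO ιZ).presheaf.stalk x) → δ x ≤ s := fun x hx => by
    obtain ⟨z, rfl⟩ := mem_range_of_nontrivial ιZ hx
    exact hZ z
  obtain ⟨hξr, -⟩ := mem_range_of_subschemeFun_ne_zero ι hξ0
  obtain ⟨hηs, -⟩ := mem_range_of_subschemeFun_ne_zero ιZ hη0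
  rw [← sheafFun_pushO] at hξ0 hη0 ⊢
  rw [← sheafFun_pushO]
  have hI : ((r - δ (ι y)).toNat : WithBot ℕ∞) ≤ ringKrullDim (A ⧸ I) :=
    hξr ▸ le_dim_quot ι hd hξτ eY (sheafFun_ne_zero (isCoh_pushO ι) hξ0).2
  have hJ : ((s - δ (ι y)).toNat : WithBot ℕ∞) ≤ ringKrullDim (A ⧸ J) :=
    hηs ▸ le_dim_quot ιZ hd hητ eZ (sheafFun_ne_zero (isCoh_pushO ιZ) hη0).2
  have hge : δ (ι y) ≤ r ∧ δ (ι y) ≤ s := by
    refine ⟨?_, hGZ _ (nontrivial_of_specializes (isCoh_pushO ιZ) hητ (sheafFun_ne_zero (isCoh_pushO ιZ) hη0).2)⟩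
    exact hY y
  obtain ⟨hrY, hrZ, hchi⟩ := transversal hIJ (by
    refine le_trans ?_ (add_le_add hI hJ)
    rw [CycLib.ringKrullDim_stalk_eq hd (ι y), hn, ← Nat.cast_add, Nat.cast_le]
    omega)
  refine ⟨?_, fun y' hy' => ?_, fun z' hz' => ?_⟩
  · change IntMult.interProd δ n _ _ (ι y) = 1
    rw [interProd_eq_chi f hd hn (isCoh_pushO ι) (isCoh_pushO ιZ) hτ (fun x _ => hFY x) (fun x _ => hGZ x)
      fun x hx n1 n2 => ?_]
    · rw [chi_congr eY, chi_comm, chi_congr eZ, chi_comm]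
      exact hchi
    · have h1 := (mem_support_primeOf (isCoh_pushO ι) hx).2 n1
      have h2 := (mem_support_primeOf (isCoh_pushO ιZ) hx).2 n2
      rw [eY.support_eq, Module.support_eq_zeroLocus, Ideal.annihilator_quotient, PrimeSpectrum.mem_zeroLocus,
        SetLike.coe_subset_coe] at h1
      rw [eZ.support_eq, Module.support_eq_zeroLocus, Ideal.annihilator_quotient, PrimeSpectrum.mem_zeroLocus,
        SetLike.coe_subset_coe] at h2
      have hm : (primeOf hx).asIdeal = maximalIdeal A :=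
        le_antisymm (le_maximalIdeal (primeOf hx).2.ne_top) (hIJ ▸ sup_le h1 h2)
      rw [primeOf_inj hx (specializes_refl _) (hm.trans (congrArg PrimeSpectrum.asIdeal (primeOf_refl (ι y) _)).symm)]
      exact hτ.le
  · obtain rfl : y' = y := ι.isEmbedding.injective (hy'.trans rfl)
    exact IsRegularLocalRing.of_ringEquiv (RingHom.quotientKerEquivOfSurjective (ι.stalkMap_surjective y))
  · obtain rfl : z' = pullback.snd ι ιZ w := ιZ.isEmbedding.injective (hz'.trans h)
    exact isRegularLocalRing_stalk_of_quot ιZ h hrZ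

end Groth.Agent.IntMult63
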