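import Groth.Agent.IntMult63.Bilin
import Groth.Agent.S3527
import Groth.Agent.S4494
import Groth.Agent.S1582
import Groth.Agent.FlatDvr.FibreStalk
import Groth.Agent.FibDim.Minimal
import Groth.Agent.H23.SetupLFT
import Groth.Agent.CycLib.P1Div

/-! Intersections of pull-backs from the factors of a product. -/

set_option autoImplicit false
set_option linter.style.haveILetI false
set_option linter.unusedSectionVars false
set_option backward.isDefEq.respectTransparency false
set_option backward.isDefEq.respectTransparency.types false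

universe u

open CategoryTheory CategoryTheory.Limits AlgebraicGeometry IsLocalRing
open scoped Classical TensorProduct

namespace Groth.Agent.IntMult63

open Groth.Agent

theorem chi_quot_flat (A C : Type u) [CommRing A] [CommRing C] [Algebra A C] [Module.Flat A C] (m : Ideal A)
    (J : Ideal C) [Module.Flat A (C ⧸ J)] :
    IntMult.chi C (C ⧸ m.map (algebraMap A C)) (C ⧸ J) =
      ((Module.length C (C ⧸ (m.map (algebraMap A C) ⊔ J))).toNat : ℤ) := by
  rw [chi_comm, chi_congr' (LinearEquiv.refl C (C ⧸ J)), chi_comm,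
    chi_congr' ((Algebra.TensorProduct.quotIdealMapEquivTensorQuot C m).toLinearEquiv), chi_comm]
  rw [IntMult.chi, finsum_eq_single _ 0 fun i hi => ?_]
  · rw [pow_zero, one_mul]
    refine congrArg (fun t : ℕ∞ => (t.toNat : ℤ)) ?_
    let T := (MonoidalCategory.tensoringLeft (ModuleCat.{u} C)).obj (ModuleCat.of C (C ⧸ J))
    have e := ((T.leftDerivedZeroIsoSelf.app (ModuleCat.of C (C ⊗[A] (A ⧸ m))))).toLinearEquiv.length_eq
    refine e.trans ?_
    let e1 : (C ⧸ J) ⊗[C] (C ⊗[A] (A ⧸ m)) ≃ₗ[C] (C ⧸ J) ⊗[C] (C ⧸ m.map (algebraMap A C)) :=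
      TensorProduct.congr (LinearEquiv.refl C _) (Algebra.TensorProduct.quotIdealMapEquivTensorQuot C m).toLinearEquiv.symm
    exact (e1.trans ((TensorProduct.quotTensorEquivQuotSMul _ J).trans (quotQuot _ J))).length_eq
  · obtain ⟨φ, hφ⟩ := S4494.result A C (C ⧸ J) (A ⧸ m) i
    haveI := (S3527.result A (C ⧸ J) (A ⧸ m) i (Nat.pos_of_ne_zero hi)).1
    haveI : Subsingleton (DRing.Tor C i (C ⧸ J) (C ⊗[A] (A ⧸ m))) := hφ.2.subsingleton
    simp [Module.length_eq_zero]

variable {X Y : Scheme.{u}} {K : Type u} [Field K] (f : X ⟶ Spec (CommRingCat.of K))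
  (g : Y ⟶ Spec (CommRingCat.of K))

theorem flat_to_field {W : Scheme.{u}} {L : Type u} [Field L] (h : W ⟶ Spec (CommRingCat.of L)) : Flat h := by
  have : Subsingleton ↥(Spec (CommRingCat.of L)) := inferInstanceAs (Subsingleton (PrimeSpectrum L))
  infer_instance

theorem flat_fibre (y : Y) : Flat ((pullback.snd f g).fiberι y ≫ pullback.fst f g) := by
  have := flat_to_field (Y.fromSpecResidueField y ≫ g)
  show Flat (pullback.fst (pullback.snd f g) (Y.fromSpecResidueField y) ≫ pullback.fst f g)
  rw [← pullbackLeftPullbackSndIso_hom_fst]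
  infer_instance

theorem flat_quot_fst' (y : Y) (w : ↥((pullback.snd f g).fiber y)) :
    ((Ideal.Quotient.mk (Ideal.map ((pullback.snd f g).stalkMap ((pullback.snd f g).fiberι y w)).hom
      (maximalIdeal (Y.presheaf.stalk (pullback.snd f g ((pullback.snd f g).fiberι y w)))))).comp
        ((pullback.fst f g).stalkMap ((pullback.snd f g).fiberι y w)).hom).Flat := by
  have hfl := flat_fibre f g y
  have h1 : (((pullback.snd f g).fiberι y).stalkMap w).hom.comp
      ((pullback.fst f g).stalkMap ((pullback.snd f g).fiberι y w)).hom |>.Flat := by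
    have := Flat.stalkMap ((pullback.snd f g).fiberι y ≫ pullback.fst f g) w
    rwa [Scheme.Hom.stalkMap_comp, CommRingCat.hom_comp] at this
  let e := (Ideal.quotEquivOfEq (FlatDvr.ker_stalkMap_fiberι (pullback.snd f g) w).symm).trans
    (RingHom.quotientKerEquivOfSurjective (((pullback.snd f g).fiberι y).stalkMap_surjective w))
  have h2 := h1.comp (RingHom.Flat.of_bijective (f := e.symm.toRingHom) e.symm.bijective)
  refine (congrArg RingHom.Flat ?_).mp h2
  ext a
  show e.symm _ = Ideal.Quotient.mk _ _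
  rw [RingEquiv.symm_apply_eq]
  rfl

theorem flat_quot_fst (z : ↥(pullback f g)) :
    ((Ideal.Quotient.mk (Ideal.map ((pullback.snd f g).stalkMap z).hom
      (maximalIdeal (Y.presheaf.stalk (pullback.snd f g z))))).comp ((pullback.fst f g).stalkMap z).hom).Flat := by
  obtain ⟨w, hw⟩ : z ∈ Set.range ((pullback.snd f g).fiberι (pullback.snd f g z)) := by
    rw [Scheme.Hom.range_fiberι]; rfl
  suffices ∀ z', (pullback.snd f g).fiberι (pullback.snd f g z) w = z' →
      ((Ideal.Quotient.mk (Ideal.map ((pullback.snd f g).stalkMap z').hom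
        (maximalIdeal (Y.presheaf.stalk (pullback.snd f g z'))))).comp ((pullback.fst f g).stalkMap z').hom).Flat
    from this z hw
  rintro _ rfl
  exact flat_quot_fst' f g _ w

theorem nonempty_stalk_pullback {Z : Scheme.{u}} (h : Z ⟶ X) (z : Z) {F : X.Modules}
    (hlen : Module.length (X.presheaf.stalk (h z)) (F.presheaf.stalk (h z)) = 1) :
    Nonempty (((Scheme.Modules.pullback h).obj F).presheaf.stalk z ≃ₗ[Z.presheaf.stalk z]
      Z.presheaf.stalk z ⧸ Ideal.map (h.stalkMap z).hom (maximalIdeal (X.presheaf.stalk (h z)))) := by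
  haveI := Module.length_eq_one_iff.1 hlen
  obtain ⟨m, hm, ⟨e⟩⟩ := isSimpleModule_iff_quot_maximal.1 (inferInstance :
    IsSimpleModule (X.presheaf.stalk (h z)) (F.presheaf.stalk (h z)))
  obtain rfl := eq_maximalIdeal hm
  letI := (h.stalkMap z).hom.toAlgebra
  let e' : (DerSch.stalkFunctor X (h z)).obj F ≃ₗ[X.presheaf.stalk (h z)]
      X.presheaf.stalk (h z) ⧸ maximalIdeal (X.presheaf.stalk (h z)) := e
  exact ⟨((KFlatLib.stalkPullbackIso h z).app F).toLinearEquiv.trans
    ((TensorProduct.AlgebraTensorModule.congr (LinearEquiv.refl (Z.presheaf.stalk z) (Z.presheaf.stalk z)) e').trans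
      (Algebra.TensorProduct.quotIdealMapEquivTensorQuot (Z.presheaf.stalk z)
        (maximalIdeal (X.presheaf.stalk (h z)))).toLinearEquiv.symm)⟩

variable [Smooth f] [Smooth g]

theorem delta_prod {δX : X → ℤ} {δY : Y → ℤ} {δ : ↥(pullback f g) → ℤ} (hX : Cyc.DeltaCompat f δX (fun _ => 0))
    (hY : Cyc.DeltaCompat g δY (fun _ => 0)) (hXY : Cyc.DeltaCompat (pullback.fst f g ≫ f) δ (fun _ => 0)) :
    (∀ z, δ z ≤ δX (pullback.fst f g z) + δY (pullback.snd f g z)) ∧
      ∀ z, (∀ w, w ⤳ z → w = z) → δ z = δX (pullback.fst f g z) + δY (pullback.snd f g z) := by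
  rw [pullback.condition] at hXY
  have key : ∀ z, δ z = δY (pullback.snd f g z) + FibDim.rd (pullback.snd f g) z ∧
      δX (pullback.fst f g z) = FibDim.rd f (pullback.fst f g z) := fun z => by
    rw [CycLib.deltaCompat_eq _ hXY, CycLib.deltaCompat_eq _ hY, CycLib.deltaCompat_eq _ hX, CycLib.rd_comp]
    simp
  refine ⟨fun z => ?_, fun z hz => ?_⟩
  · have := FibDim.rd_baseChange_le (IsPullback.of_hasPullback f g) z
    have := key z
    omega
  · have := FibDim.rd_baseChange_eq_of_minimal (IsPullback.of_hasPullback f g) z fun w hw _ _ => hz w hw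
    have := key z
    omega

theorem delta_prod_generic [IsIntegral X] [IsIntegral Y] [IsIntegral (pullback f g)] {δX : X → ℤ} {δY : Y → ℤ}
    {δ : ↥(pullback f g) → ℤ} (hX : Cyc.DeltaCompat f δX (fun _ => 0))
    (hY : Cyc.DeltaCompat g δY (fun _ => 0)) (hXY : Cyc.DeltaCompat (pullback.fst f g ≫ f) δ (fun _ => 0)) :
    δ (genericPoint ↥(pullback f g)) = δX (genericPoint X) + δY (genericPoint Y) := by
  have hf := flat_to_field f
  have hg := flat_to_field g
  have hmin : ∀ w : ↥(pullback f g), w ⤳ genericPoint ↥(pullback f g) → w = genericPoint _ :=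
    fun w hw => hw.antisymm ((genericPoint_spec _).specializes (Set.mem_univ w)) |>.eq
  have hgen : ∀ {W : Scheme.{u}} [IsIntegral W] (h : pullback f g ⟶ W) [Flat h],
      h (genericPoint ↥(pullback f g)) = genericPoint W := fun {W} _ h _ => by
    obtain ⟨w, hw, he⟩ := CycLib.exists_generization h
      ((genericPoint_spec W).specializes (Set.mem_univ (h (genericPoint ↥(pullback f g)))))
    rw [← he, hmin w hw]
  rw [(delta_prod f g hX hY hXY).2 _ hmin, hgen (pullback.fst f g), hgen (pullback.snd f g)]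

theorem extProd_eq_interProd [IsAlgClosed K] [IsSeparated f] [QuasiCompact f] [IsIntegral X] [IsSeparated g]
    [QuasiCompact g] [IsIntegral Y] {δX : X → ℤ} {δY : Y → ℤ} {δ : ↥(pullback f g) → ℤ}
    (hX : Cyc.DeltaCompat f δX (fun _ => 0)) (hY : Cyc.DeltaCompat g δY (fun _ => 0))
    (hXY : Cyc.DeltaCompat (pullback.fst f g ≫ f) δ (fun _ => 0)) {n m : ℤ}
    (hn : δX (genericPoint X) = n) (hm : δY (genericPoint Y) = m) (α : AlgebraicCycle X ℤ) (β : AlgebraicCycle Y ℤ) :
    IntMult.IntersectProperly δ (n + m) (Cyc.pullFun (pullback.fst f g) δ δX m ⇑α)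
        (Cyc.pullFun (pullback.snd f g) δ δY n ⇑β) ∧
      IntMult.interProd δ (n + m) (Cyc.pullFun (pullback.fst f g) δ δX m ⇑α)
        (Cyc.pullFun (pullback.snd f g) δ δY n ⇑β) = IntMult.extProd f g δX δY δ ⇑α ⇑β := by
  haveI : IsIntegral (pullback f g) := S1582.result K X Y f g
  haveI := LocallyOfFiniteType.isLocallyNoetherian f
  haveI := LocallyOfFiniteType.isLocallyNoetherian g
  haveI := LocallyOfFiniteType.isLocallyNoetherian (pullback.fst f g ≫ f)
  haveI := flat_to_field f
  haveI := flat_to_field g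
  have hdX := (H23.SetupLFT.isSetup f (CycLib.isSetup_spec_field K) hX).2.2
  have hdY := (H23.SetupLFT.isSetup g (CycLib.isSetup_spec_field K) hY).2.2
  have hd := (H23.SetupLFT.isSetup _ (CycLib.isSetup_spec_field K) hXY).2.2
  have hnm : δ (genericPoint ↥(pullback f g)) = n + m := by rw [delta_prod_generic f g hX hY hXY, hn, hm]
  have hle := (delta_prod f g hX hY hXY).1
  have hXn : ∀ x, δX x ≤ n := fun x => hn ▸ CycLib.delta_le hdX ((genericPoint_spec X).specializes (Set.mem_univ x))
  have hYm : ∀ y, δY y ≤ m := fun y => hm ▸ CycLib.delta_le hdY ((genericPoint_spec Y).specializes (Set.mem_univ y))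
  have hle1 : ∀ z, δ z ≤ δX (pullback.fst f g z) + m := fun z => by
    have := hle z; have := hYm (pullback.snd f g z); omega
  have hle2 : ∀ z, δ z ≤ δY (pullback.snd f g z) + n := fun z => by
    have := hle z; have := hXn (pullback.fst f g z); omega
  refine ⟨fun ξ η ζ hξ hη h1 h2 => ?_, funext fun z => ?_⟩
  · simp only [Cyc.pullFun] at hξ hη
    split_ifs at hξ hη with c1 c2
    · have := hle ζ
      have := CycLib.delta_le hdX (h1.map (pullback.fst f g).continuous)
      have := CycLib.delta_le hdY (h2.map (pullback.snd f g).continuous)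
      omega
    all_goals simp_all
  set p := pullback.fst f g with hp
  set q := pullback.snd f g with hq
  let oneX : X → X → ℤ := fun ξ x => if x = ξ then 1 else 0
  let oneY : Y → Y → ℤ := fun η y => if y = η then 1 else 0
  let Sα := (finite_gens_cycle α (p z)).toFinset
  let Sβ := (finite_gens_cycle β (q z)).toFinset
  have hFX := fun ξ : X => H23.FlatShift.sheafFun_pullback p δ δX hle1 _ (Cyc.closureStructureSheaf ξ)
    fun y hy => ((sheafFun_closure hdX ξ).1 y hy).2
  have hGY := fun η : Y => H23.FlatShift.sheafFun_pullback q δ δY hle2 _ (Cyc.closureStructureSheaf η)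
    fun y hy => ((sheafFun_closure hdY η).1 y hy).2
  have hpX : ∀ ξ, Cyc.pullFun p δ δX m (oneX ξ) =
      Cyc.sheafFun δ (δX ξ + m) ((Scheme.Modules.pullback p).obj (Cyc.closureStructureSheaf ξ)) :=
    fun ξ => by
      rw [show oneX ξ = _ from ((sheafFun_closure hdX ξ).2).symm]; exact (hFX ξ).2
  have hqY : ∀ η, Cyc.pullFun q δ δY n (oneY η) =
      Cyc.sheafFun δ (δY η + n) ((Scheme.Modules.pullback q).obj (Cyc.closureStructureSheaf η)) :=
    fun η => by
      rw [show oneY η = _ from ((sheafFun_closure hdY η).2).symm]; exact (hGY η).2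
  have hcX := fun ξ : X => ZClosLib.isCoh_pullback p (DevK.isCoh_closure ξ)
  have hcY := fun η : Y => ZClosLib.isCoh_pullback q (DevK.isCoh_closure η)
  have hexpX : ∀ w : ↥(pullback f g), w ⤳ z →
      Cyc.pullFun p δ δX m ⇑α w = ∑ ξ ∈ Sα, α ξ * Cyc.pullFun p δ δX m (oneX ξ) w := fun w hw => by
    simp only [Cyc.pullFun]
    split_ifs
    · simp only [oneX, ite_mul, mul_ite, one_mul, zero_mul, mul_zero, Finset.sum_ite_eq, Sα, Set.Finite.mem_toFinset]
      split_ifs with h
      · rfl
      · rw [not_not.1 fun h' => h ⟨hw.map p.continuous, h'⟩, zero_mul]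
    · simp
  have hexpY : ∀ w : ↥(pullback f g), w ⤳ z →
      Cyc.pullFun q δ δY n ⇑β w = ∑ η ∈ Sβ, β η * Cyc.pullFun q δ δY n (oneY η) w := fun w hw => by
    simp only [Cyc.pullFun]
    split_ifs
    · simp only [oneY, ite_mul, mul_ite, one_mul, zero_mul, mul_zero, Finset.sum_ite_eq, Sβ, Set.Finite.mem_toFinset]
      split_ifs with h
      · rfl
      · rw [not_not.1 fun h' => h ⟨hw.map q.continuous, h'⟩, zero_mul]
    · simp
  rw [interProd_sum Sα Sβ α β (fun ξ => Cyc.pullFun p δ δX m (oneX ξ)) (fun η => Cyc.pullFun q δ δY n (oneY η))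
    δ (n + m) hexpX hexpY
    (fun ξ _ => by rw [hpX]; exact finite_gens_sheafFun (p ≫ f) hd (hcX ξ) (hFX ξ).1)
    (fun η _ => by rw [hqY]; exact finite_gens_sheafFun (p ≫ f) hd (hcY η) (hGY η).1)]
  have key : ∀ ξ η, IntMult.interProd δ (n + m) (Cyc.pullFun p δ δX m (oneX ξ)) (Cyc.pullFun q δ δY n (oneY η)) z =
      IntMult.extProd f g δX δY δ (oneX ξ) (oneY η) z := fun ξ η => by
    rw [hpX, hqY, interProd_eq (p ≫ f) hd hnm (hcX ξ) (hcY η) (hFX ξ).1 (hGY η).1 (fun w h1 h2 => by
      have := ((sheafFun_closure hdX ξ).1 _ (H23.FlatShift.nontrivial_of_pullback p _ w h1)).2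
      have := ((sheafFun_closure hdY η).1 _ (H23.FlatShift.nontrivial_of_pullback q _ w h2)).2
      have := hle w
      omega) z]
    simp only [IntMult.extProd, oneX, oneY, ← hp, ← hq]
    by_cases hxy : p z = ξ ∧ q z = η
    · obtain ⟨rfl, rfl⟩ := hxy
      refine if_congr (by omega) ?_ rfl
      rw [if_pos rfl, if_pos rfl, one_mul, one_mul]
      haveI := GrpSchLib.isRegularLocalRing_stalk_of_smooth (p ≫ f) z
      obtain ⟨eF⟩ := nonempty_stalk_pullback p z (DevK.length_closure (p z))
      obtain ⟨eG⟩ := nonempty_stalk_pullback q z (DevK.length_closure (q z))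
      rw [chi_congr eF, chi_comm, chi_congr eG, chi_comm]
      have h1 : (p.stalkMap z).hom.Flat := Flat.stalkMap p z
      algebraize [(p.stalkMap z).hom]
      haveI : Module.Flat (X.presheaf.stalk (p z)) ((pullback f g).presheaf.stalk z ⧸
          Ideal.map (q.stalkMap z).hom (maximalIdeal (Y.presheaf.stalk (q z)))) :=
        RingHom.flat_algebraMap_iff.1 (flat_quot_fst f g z)
      exact chi_quot_flat (X.presheaf.stalk (p z)) ((pullback f g).presheaf.stalk z) _ _
    · have h0 : ((if p z = ξ then (1 : ℤ) else 0) * (if q z = η then (1 : ℤ) else 0)) = 0 := by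
        rcases not_and_or.1 hxy with h | h <;> simp [h]
      rw [h0, zero_mul, ite_self]
      split_ifs with hz
      · haveI := GrpSchLib.isRegularLocalRing_stalk_of_smooth (p ≫ f) z
        refine chi_eq_zero_of_subsingleton _ _ ?_
        by_contra hc
        simp only [not_or, not_subsingleton_iff_nontrivial] at hc
        obtain ⟨s1, d1⟩ := (sheafFun_closure hdX ξ).1 _ (H23.FlatShift.nontrivial_of_pullback p _ z hc.1)
        obtain ⟨s2, d2⟩ := (sheafFun_closure hdY η).1 _ (H23.FlatShift.nontrivial_of_pullback q _ z hc.2)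
        have := hle z
        exact hxy ⟨(CycLib.eq_of_delta_le hdX s1 (by omega)).symm, (CycLib.eq_of_delta_le hdY s2 (by omega)).symm⟩
      · rfl
  simp only [key]
  simp only [IntMult.extProd, oneX, oneY, ← hp, ← hq]
  split_ifs
  · simp only [ite_mul, one_mul, zero_mul, mul_ite, mul_zero, Finset.sum_ite_eq, Sα, Sβ, Set.Finite.mem_toFinset]
    by_cases hx : α (p z) = 0
    · simp [hx]
    · by_cases hy : β (q z) = 0
      · simp [hy]
      · simp [hx, hy, specializes_refl]
  · simp

end Groth.Agent.IntMult63
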