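import Groth.Agent.IntMult63.Diag
import Groth.Agent.IntMult63.Product
import Groth.Agent.IntMult63.MultOne
import Groth.Agent.CIntLib.ClosedStalk
import Groth.Agent.H23.GysinPb
import Mathlib.AlgebraicGeometry.IdealSheaf.Functorial

/-! Reduction to the diagonal on the product. -/

set_option autoImplicit false
set_option linter.style.haveILetI false
set_option linter.unusedSectionVars false
set_option backward.isDefEq.respectTransparency false
set_option backward.isDefEq.respectTransparency.types false

universe u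

open CategoryTheory CategoryTheory.Limits AlgebraicGeometry IsLocalRing

namespace Groth.Agent.IntMult63

open Groth.Agent

variable {X Z : Scheme.{u}}

theorem stalkIdeal_ker (i : Z ⟶ X) [IsClosedImmersion i] (z : Z) :
    IntMult.stalkIdeal i.ker (i z) = RingHom.ker (i.stalkMap z).hom := by
  obtain ⟨U, hU, hx, -⟩ := exists_isAffineOpen_mem_and_subset (x := i z) (U := ⊤) trivial
  rw [CIntLib.ker_stalkMap_eq_map_germ i z ⟨U, hU⟩ hx, stalkIdeal_eq _ ⟨U, hU⟩ hx]

theorem stalkIdeal_sup (I J : X.IdealSheafData) (x : X) :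
    IntMult.stalkIdeal (I ⊔ J) x = IntMult.stalkIdeal I x ⊔ IntMult.stalkIdeal J x := by
  obtain ⟨U, hU, hx, -⟩ := exists_isAffineOpen_mem_and_subset (x := x) (U := ⊤) trivial
  rw [stalkIdeal_eq _ ⟨U, hU⟩ hx, stalkIdeal_eq _ ⟨U, hU⟩ hx, stalkIdeal_eq _ ⟨U, hU⟩ hx,
    Scheme.IdealSheafData.ideal_sup, Pi.sup_apply, Ideal.map_sup]

theorem map_stalkIdeal_of_eq (I : X.IdealSheafData) {x y : X} (h : y = x) :
    (IntMult.stalkIdeal I x).map (X.presheaf.stalkSpecializes (specializes_of_eq h)).hom =
      IntMult.stalkIdeal I y := by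
  subst h
  rw [TopCat.Presheaf.stalkSpecializes_refl]
  exact Ideal.map_id _

theorem stalkIdeal_comap (I : X.IdealSheafData) (g : Z ⟶ X) {z : Z} (h : g z ∈ I.support) :
    IntMult.stalkIdeal (I.comap g) z = (IntMult.stalkIdeal I (g z)).map (g.stalkMap z).hom := by
  obtain ⟨v, hv⟩ : g z ∈ Set.range I.subschemeι := by
    rw [Scheme.IdealSheafData.range_subschemeι]; exact h
  obtain ⟨w, rfl, -⟩ := Scheme.Pullback.exists_preimage_pullback (f := g) (g := I.subschemeι) z v hv.symm
  rw [Scheme.IdealSheafData.comap, stalkIdeal_ker, H23.GysinPb.ker_stalkMap_fst, H23.GysinPb.baseMap,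
    CommRingCat.hom_comp, ← Ideal.map_map, ← stalkIdeal_ker, Scheme.IdealSheafData.ker_subschemeι,
    map_stalkIdeal_of_eq]
  exact H23.GysinPb.apply_fst_eq g I.subschemeι w

variable {K : Type u} [Field K] (f : X ⟶ Spec (CommRingCat.of K))

/-- The ideal sheaf of a product of closed subschemes. -/
theorem ker_prod (IV IW : X.IdealSheafData) :
    (pullback.map (IV.subschemeι ≫ f) (IW.subschemeι ≫ f) f f IV.subschemeι IW.subschemeι (𝟙 _) (Category.comp_id _)
      (Category.comp_id _)).ker = IV.comap (pullback.fst f f) ⊔ IW.comap (pullback.snd f f) := by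
  set h := pullback.map (IV.subschemeι ≫ f) (IW.subschemeι ≫ f) f f IV.subschemeι IW.subschemeι (𝟙 _)
    (Category.comp_id _) (Category.comp_id _) with hh
  refine le_antisymm ?_ (sup_le ?_ ?_)
  · set J := IV.comap (pullback.fst f f) ⊔ IW.comap (pullback.snd f f)
    let a := Scheme.IdealSheafData.subschemeMap J IV (pullback.fst f f)
      (Scheme.IdealSheafData.le_map_iff_comap_le.2 le_sup_left)
    let b := Scheme.IdealSheafData.subschemeMap J IW (pullback.snd f f)
      (Scheme.IdealSheafData.le_map_iff_comap_le.2 le_sup_right)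
    have hab : a ≫ IV.subschemeι ≫ f = b ≫ IW.subschemeι ≫ f := by
      simp only [a, b, Scheme.IdealSheafData.subschemeMap_subschemeι_assoc, pullback.condition]
    have e : pullback.lift a b hab ≫ h = J.subschemeι := by
      apply pullback.hom_ext <;>
        simp [h, a, b, pullback.map]
    calc h.ker ≤ (pullback.lift a b hab ≫ h).ker := Scheme.Hom.le_ker_comp _ _
      _ = J := by rw [e, Scheme.IdealSheafData.ker_subschemeι]
  all_goals rw [← Scheme.IdealSheafData.le_map_iff_comap_le, Scheme.IdealSheafData.map_ker]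
  · rw [show h ≫ pullback.fst f f = pullback.fst _ _ ≫ IV.subschemeι by simp [h, pullback.map]]
    exact (le_of_eq IV.ker_subschemeι.symm).trans (Scheme.Hom.le_ker_comp _ _)
  · rw [show h ≫ pullback.snd f f = pullback.snd _ _ ≫ IW.subschemeι by simp [h, pullback.map]]
    exact (le_of_eq IW.ker_subschemeι.symm).trans (Scheme.Hom.le_ker_comp _ _)

theorem fst_diag (x : X) : pullback.fst f f (pullback.diagonal f x) = x := by
  rw [← Scheme.Hom.comp_apply, pullback.diagonal_fst]; rfl

theorem snd_diag (x : X) : pullback.snd f f (pullback.diagonal f x) = x := by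
  rw [← Scheme.Hom.comp_apply, pullback.diagonal_snd]; rfl

/-- The first projection at a diagonal point. -/
noncomputable def phiFst (x : X) : X.presheaf.stalk x ⟶ (pullback f f).presheaf.stalk (pullback.diagonal f x) :=
  X.presheaf.stalkSpecializes (specializes_of_eq (fst_diag f x)) ≫ (pullback.fst f f).stalkMap _

/-- The second projection at a diagonal point. -/
noncomputable def phiSnd (x : X) : X.presheaf.stalk x ⟶ (pullback f f).presheaf.stalk (pullback.diagonal f x) :=
  X.presheaf.stalkSpecializes (specializes_of_eq (snd_diag f x)) ≫ (pullback.snd f f).stalkMap _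

theorem section_stalk {P : Scheme.{u}} (s : X ⟶ P) (p : P ⟶ X) (hp : s ≫ p = 𝟙 X) (x : X) (h : p (s x) = x) :
    (X.presheaf.stalkSpecializes (specializes_of_eq h) ≫ p.stalkMap (s x)) ≫ s.stalkMap x = 𝟙 _ := by
  rw [Category.assoc, ← Scheme.Hom.stalkMap_comp, Scheme.Hom.stalkMap_congr_hom _ _ hp x, Scheme.Hom.stalkMap_id,
    TopCat.Presheaf.stalkCongr_hom]
  erw [Category.comp_id, TopCat.Presheaf.stalkSpecializes_comp, TopCat.Presheaf.stalkSpecializes_refl]
  rfl

theorem mu_phiFst (x : X) (a : X.presheaf.stalk x) :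
    ((pullback.diagonal f).stalkMap x).hom ((phiFst f x).hom a) = a :=
  DFunLike.congr_fun (congrArg CommRingCat.Hom.hom
    (section_stalk (pullback.diagonal f) (pullback.fst f f) (pullback.diagonal_fst f) x (fst_diag f x))) a

theorem mu_phiSnd (x : X) (a : X.presheaf.stalk x) :
    ((pullback.diagonal f).stalkMap x).hom ((phiSnd f x).hom a) = a :=
  DFunLike.congr_fun (congrArg CommRingCat.Hom.hom
    (section_stalk (pullback.diagonal f) (pullback.snd f f) (pullback.diagonal_snd f) x (snd_diag f x))) a

theorem flat_spec {x y : X} (h : x = y) : (X.presheaf.stalkSpecializes (specializes_of_eq h)).hom.Flat := by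
  subst h
  rw [TopCat.Presheaf.stalkSpecializes_refl]
  exact RingHom.Flat.id _

theorem map_phiSnd (I : X.IdealSheafData) {x : X} (hx : x ∈ I.support) :
    (IntMult.stalkIdeal I x).map (phiSnd f x).hom =
      IntMult.stalkIdeal (I.comap (pullback.snd f f)) (pullback.diagonal f x) := by
  have h : pullback.snd f f (pullback.diagonal f x) = x := by
    rw [← Scheme.Hom.comp_apply, pullback.diagonal_snd]; rfl
  rw [stalkIdeal_comap I _ (h.symm ▸ hx), phiSnd, CommRingCat.hom_comp, ← Ideal.map_map, map_stalkIdeal_of_eq]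
  exact h

theorem map_phiFst (I : X.IdealSheafData) {x : X} (hx : x ∈ I.support) :
    (IntMult.stalkIdeal I x).map (phiFst f x).hom =
      IntMult.stalkIdeal (I.comap (pullback.fst f f)) (pullback.diagonal f x) := by
  have h : pullback.fst f f (pullback.diagonal f x) = x := by
    rw [← Scheme.Hom.comp_apply, pullback.diagonal_fst]; rfl
  rw [stalkIdeal_comap I _ (h.symm ▸ hx), phiFst, CommRingCat.hom_comp, ← Ideal.map_map, map_stalkIdeal_of_eq]
  exact h

theorem flat_quot_fst_of_closed {W : Scheme.{u}} (ι : W ⟶ X) [IsClosedImmersion ι]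
    (w : ↥(pullback (pullback.snd f f) ι)) :
    ((Ideal.Quotient.mk (IntMult.stalkIdeal (pullback.fst (pullback.snd f f) ι).ker
      (pullback.fst (pullback.snd f f) ι w))).comp
        ((pullback.fst f f).stalkMap (pullback.fst (pullback.snd f f) ι w)).hom).Flat := by
  set a := pullback.fst (pullback.snd f f) ι
  have hfl : Flat (a ≫ pullback.fst f f) := by
    have := flat_to_field (ι ≫ f)
    rw [← pullbackLeftPullbackSndIso_hom_fst]
    infer_instance
  have h1 : (a.stalkMap w).hom.comp ((pullback.fst f f).stalkMap (a w)).hom |>.Flat := by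
    have := Flat.stalkMap (a ≫ pullback.fst f f) w
    rwa [Scheme.Hom.stalkMap_comp, CommRingCat.hom_comp] at this
  let e := (Ideal.quotEquivOfEq (stalkIdeal_ker a w)).trans
    (RingHom.quotientKerEquivOfSurjective (a.stalkMap_surjective w))
  have h2 := h1.comp (RingHom.Flat.of_bijective (f := e.symm.toRingHom) e.symm.bijective)
  refine (congrArg RingHom.Flat ?_).mp h2
  ext b
  show e.symm _ = Ideal.Quotient.mk _ _
  rw [RingEquiv.symm_apply_eq]
  rfl

theorem flat_phi (I : X.IdealSheafData) {x : X} (hx : x ∈ I.support) :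
    ((Ideal.Quotient.mk ((IntMult.stalkIdeal I x).map (phiSnd f x).hom)).comp (phiFst f x).hom).Flat := by
  have h : pullback.snd f f (pullback.diagonal f x) = x := by
    rw [← Scheme.Hom.comp_apply, pullback.diagonal_snd]; rfl
  obtain ⟨v, hv⟩ : x ∈ Set.range I.subschemeι := by rw [Scheme.IdealSheafData.range_subschemeι]; exact hx
  obtain ⟨w, hw, -⟩ := Scheme.Pullback.exists_preimage_pullback (f := pullback.snd f f) (g := I.subschemeι)
    (pullback.diagonal f x) v (h.trans hv.symm)
  rw [map_phiSnd f I hx, phiFst, CommRingCat.hom_comp, ← RingHom.comp_assoc]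
  refine (flat_spec (fst_diag f x)).comp ?_
  suffices ∀ z, pullback.fst (pullback.snd f f) I.subschemeι w = z →
      ((Ideal.Quotient.mk (IntMult.stalkIdeal (I.comap (pullback.snd f f)) z)).comp
        ((pullback.fst f f).stalkMap z).hom).Flat from this _ hw
  rintro _ rfl
  exact flat_quot_fst_of_closed f I.subschemeι w

variable [Smooth f] [IsSeparated f]

/-- **Reduction to the diagonal.** -/
theorem mult_eq_diag (IV IW : X.IdealSheafData) {x : X} (hV : x ∈ IV.support) (hW : x ∈ IW.support) :
    IntMult.mult IV IW x =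
      IntMult.chi ((pullback f f).presheaf.stalk (pullback.diagonal f x))
        ((pullback f f).presheaf.stalk (pullback.diagonal f x) ⧸
          RingHom.ker ((pullback.diagonal f).stalkMap x).hom)
        ((pullback f f).presheaf.stalk (pullback.diagonal f x) ⧸
          IntMult.stalkIdeal (IV.comap (pullback.fst f f) ⊔ IW.comap (pullback.snd f f)) (pullback.diagonal f x)) := by
  haveI := GrpSchLib.isRegularLocalRing_stalk_of_smooth f x
  haveI := GrpSchLib.isRegularLocalRing_stalk_of_smooth (pullback.fst f f ≫ f) (pullback.diagonal f x)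
  haveI := flat_to_field f
  obtain ⟨δ, -, hreg, hker⟩ := exists_delta (μ := ((pullback.diagonal f).stalkMap x).hom) (mu_phiFst f x)
  have hflat₂ : (phiSnd f x).hom.Flat := by
    rw [phiSnd, CommRingCat.hom_comp]
    exact (flat_spec (snd_diag f x)).comp (Flat.stalkMap (pullback.snd f f) _)
  rw [IntMult.mult, chi_eq_diag' (mu_phiFst f x) (mu_phiSnd f x) hreg hker _ _ (flat_phi f IW hW) hflat₂,
    map_phiSnd f IW hW, map_phiFst f IV hV, sup_comm, ← stalkIdeal_sup, ← hker, chi_eq_kos δ hreg]

end Groth.Agent.IntMult63
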