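import Groth.Agent.IntMult63.Points
import Groth.Agent.H23.SetupLFT
import Groth.Agent.CycLib.P1Div

/-! The dimension inequality for intersections in smooth schemes. -/

set_option autoImplicit false
set_option linter.style.haveILetI false
set_option linter.unusedSectionVars false
set_option backward.isDefEq.respectTransparency false
set_option backward.isDefEq.respectTransparency.types false

universe u

open CategoryTheory CategoryTheory.Limits AlgebraicGeometry IsLocalRing
open scoped TensorProduct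

namespace Groth.Agent.IntMult63

open Groth.Agent CDiv6 H23.StalkPrimes

theorem dim_add_le_smooth (K : Type u) [Field K] (R : Type u) [CommRing R] [Algebra K R] [Algebra.Smooth K R]
    (A : Type u) [CommRing A] [Algebra R A] (p : Ideal R) [p.IsPrime] [IsLocalization.AtPrime A p]
    [IsRegularLocalRing A] {I J : Ideal A} (hI : I ≤ maximalIdeal A) (hJ : J ≤ maximalIdeal A)
    (h0 : Module.supportDim A (A ⧸ (I ⊔ J)) ≤ 0) :
    ringKrullDim (A ⧸ I) + ringKrullDim (A ⧸ J) ≤ ringKrullDim A := by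
  haveI : IsRegularLocalRing (Localization.AtPrime (diagPrime K R p)) := by
    haveI : Algebra.Smooth R (R ⊗[K] R) := inferInstance
    haveI : Algebra.Smooth K (R ⊗[K] R) := Algebra.Smooth.comp K R (R ⊗[K] R)
    exact CotTLib.isRegularLocalRing_of_isSmoothAt (k := K) _
  let m : R ⊗[K] R →+* R := (Algebra.TensorProduct.lmul' K (S := R)).toRingHom
  let u₁ : R →+* R ⊗[K] R := Algebra.TensorProduct.includeLeftRingHom
  let u₂ : R →+* R ⊗[K] R := (Algebra.TensorProduct.includeRight : R →ₐ[K] R ⊗[K] R).toRingHom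
  have hu₁ : ∀ r, m (u₁ r) = r := fun r => by simp [m, u₁]
  have hu₂ : ∀ r, m (u₂ r) = r := fun r => by simp [m, u₂]
  have hφ : ∀ u : R →+* R ⊗[K] R, (∀ r, m (u r) = r) → ∀ y : p.primeCompl,
      IsUnit ((algebraMap (R ⊗[K] R) (Localization.AtPrime (diagPrime K R p))).comp u y) :=
    fun u hu y => IsLocalization.map_units _
      (⟨u y, fun h => y.2 ((hu (y : R)) ▸ (h : m (u y) ∈ p))⟩ : (diagPrime K R p).primeCompl)
  let φ₁ : A →+* _ := IsLocalization.lift (hφ u₁ hu₁)
  let φ₂ : A →+* _ := IsLocalization.lift (hφ u₂ hu₂)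
  have hμ : ∀ y : (diagPrime K R p).primeCompl, IsUnit ((algebraMap R A).comp m y) := fun y =>
    IsLocalization.map_units A (⟨m y, y.2⟩ : p.primeCompl)
  let μ : Localization.AtPrime (diagPrime K R p) →+* A := IsLocalization.lift hμ
  have hsec : ∀ (u : R →+* R ⊗[K] R) (hu : ∀ r, m (u r) = r) (a : A), μ (IsLocalization.lift (hφ u hu) a) = a := by
    intro u hu a
    refine RingHom.congr_fun (IsLocalization.ringHom_ext p.primeCompl
      (j := μ.comp (IsLocalization.lift (hφ u hu))) (k := RingHom.id A) (RingHom.ext fun r => ?_)) a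
    simp [μ, hu]
  have c₁ : φ₁.comp (algebraMap R A) = (algebraMap _ _).comp u₁ := IsLocalization.lift_comp _
  have c₂ : φ₂.comp (algebraMap R A) = (algebraMap _ _).comp u₂ := IsLocalization.lift_comp _
  have f₁ := flat_lift K R A p (flat_quot_tensor K R) φ₁ φ₂ c₁ c₂
  have f₂ := flat_lift K R A p (flat_quot_tensor' K R) φ₂ φ₁ c₂ c₁
  obtain ⟨δ, hδm, hreg, hker⟩ := exists_delta (μ := μ) (hsec u₁ hu₁)
  obtain ⟨a, i, j, e, ha, hi, hj, hQ, hc⟩ :=
    dim_diag (hsec u₁ hu₁) (hsec u₂ hu₂) f₁ f₂ hδm hreg hker hI hJ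
  obtain ⟨h0', -⟩ := supportDim_quot_diag (hsec u₁ hu₁) (hsec u₂ hu₂) hδm hker h0
  have hδ' : Ideal.ofList δ = Ideal.span (Set.range δ.get) := by
    rw [← KEuler95.range_ofFn, List.ofFn_get]
  have hup := supportDim_le_of_quot (I.map φ₂ ⊔ J.map φ₁) (hδ' ▸ KEuler95.ofList_le δ hδm)
    (sup_le (map_le_max (hsec u₁ hu₁) (hsec u₂ hu₂) (hsec u₂ hu₂) hI)
      (map_le_max (hsec u₁ hu₁) (hsec u₂ hu₂) (hsec u₁ hu₁) hJ)) h0'
  rw [Module.supportDim_quotient_eq_ringKrullDim, hQ] at hup
  replace hup : j + (i + e) ≤ δ.length := by exact_mod_cast hup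
  rw [ha, hi, hj]
  exact_mod_cast (by omega : i + j ≤ a)

/-- Components of an intersection in a smooth scheme have at least the expected dimension. -/
theorem delta_add_le_of_component {K : Type u} [Field K] {X : Scheme.{u}} (f : X ⟶ Spec (CommRingCat.of K)) [Smooth f]
    [IsIntegral X] {δ : X → ℤ} (hd : Cyc.IsDimFun X δ) {v w ξ : X} (hv : v ⤳ ξ) (hw : w ⤳ ξ)
    (hmax : ∀ z, v ⤳ z → w ⤳ z → z ⤳ ξ → z = ξ) :
    δ v + δ w ≤ δ ξ + δ (genericPoint X) := by
  haveI := LocallyOfFiniteType.isLocallyNoetherian f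
  haveI := GrpSchLib.isRegularLocalRing_stalk_of_smooth f ξ
  obtain ⟨U, hU, hx, -⟩ := exists_isAffineOpen_mem_and_subset (x := ξ) (U := ⊤) trivial
  obtain ⟨_, hsm⟩ := exists_smooth_algebra f hU
  letI := X.presheaf.algebra_section_stalk ⟨ξ, hx⟩
  haveI := hU.isLocalization_stalk ⟨ξ, hx⟩
  have hs : Module.support (X.presheaf.stalk ξ)
      (X.presheaf.stalk ξ ⧸ ((primeOf hv).asIdeal ⊔ (primeOf hw).asIdeal)) ⊆ {closedPoint (X.presheaf.stalk ξ)} :=
    fun R hR => by
    rw [Module.support_eq_zeroLocus, Ideal.annihilator_quotient, PrimeSpectrum.mem_zeroLocus,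
      SetLike.coe_subset_coe, sup_le_iff] at hR
    obtain ⟨z, hz, he⟩ := H23.StalkPrimes.exists_point R.asIdeal
    rw [← he, primeOf_le_iff, primeOf_le_iff] at hR
    obtain rfl := hmax z hR.1 hR.2 hz
    exact (PrimeSpectrum.ext he.symm).trans (primeOf_refl _ _)
  have h0 : Module.supportDim (X.presheaf.stalk ξ)
      (X.presheaf.stalk ξ ⧸ ((primeOf hv).asIdeal ⊔ (primeOf hw).asIdeal)) ≤ 0 := by
    haveI : Subsingleton (Module.support (X.presheaf.stalk ξ)
        (X.presheaf.stalk ξ ⧸ ((primeOf hv).asIdeal ⊔ (primeOf hw).asIdeal))) :=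
      ⟨fun a b => Subtype.ext ((hs a.2).trans (hs b.2).symm)⟩
    exact Order.krullDim_nonpos_of_subsingleton
  have h := dim_add_le_smooth K Γ(X, U) (X.presheaf.stalk ξ) (hU.primeIdealOf ⟨ξ, hx⟩).asIdeal
    (le_maximalIdeal (primeOf hv).2.ne_top) (le_maximalIdeal (primeOf hw).2.ne_top) h0
  rw [dim_quot_primeOf hd hv, dim_quot_primeOf hd hw, CycLib.ringKrullDim_stalk_eq hd] at h
  have h1 := CycLib.delta_le hd hv
  have h2 := CycLib.delta_le hd hw
  have h3 := CycLib.delta_le hd ((genericPoint_spec X).specializes (Set.mem_univ ξ))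
  have h' : (δ v - δ ξ).toNat + (δ w - δ ξ).toNat ≤ (δ (genericPoint X) - δ ξ).toNat := by exact_mod_cast h
  omega

end Groth.Agent.IntMult63
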