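import Groth.Agent.IntMult63.GraphShift
import Groth.Agent.H23.FlatClass
import Groth.Agent.H23.GysinLen
import Groth.Agent.FibDim.RelDim
import Groth.Agent.FibDim.BaseField
import Groth.Agent.H23.SetupLFT
import Groth.Agent.CycLib.P1Div
import Groth.Agent.CycLib.Envelope

/-! Exterior products with cycles rationally equivalent to zero. -/

set_option autoImplicit false
set_option linter.style.haveILetI false
set_option linter.unusedSectionVars false
set_option backward.isDefEq.respectTransparency false
set_option backward.isDefEq.respectTransparency.types false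

universe u

open CategoryTheory CategoryTheory.Limits AlgebraicGeometry IsLocalRing TopologicalSpace
open scoped Classical

namespace Groth.Agent.IntMult63

open Groth.Agent H23.GysinPb

variable {K : Type u} [Field K] {P X Y : Scheme.{u}} (p : P ⟶ X) (q : P ⟶ Y)
  (f : X ⟶ Spec (CommRingCat.of K)) (g : Y ⟶ Spec (CommRingCat.of K)) [LocallyOfFiniteType f] [LocallyOfFiniteType g]

/-- The length entering the exterior product. -/
noncomputable def prodLen (z : P) : ℤ :=
  ((Module.length (P.presheaf.stalk z) (P.presheaf.stalk z ⧸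
    ((maximalIdeal (X.presheaf.stalk (p z))).map (p.stalkMap z).hom ⊔
      (maximalIdeal (Y.presheaf.stalk (q z))).map (q.stalkMap z).hom))).toNat : ℤ)

theorem ker_fst_eq {D : Scheme.{u}} (i : D ⟶ Y) [IsClosedImmersion i] (w : (pullback q i : Scheme.{u})) :
    RingHom.ker ((pullback.fst q i).stalkMap w).hom =
      Ideal.map (baseMap q i w).hom (RingHom.ker (i.stalkMap (pullback.snd q i w)).hom) := by
  refine le_antisymm (ker_stalkMap_fst_le q i w) (Ideal.map_le_iff_le_comap.2 fun a ha => ?_)
  have h1 : i.stalkMap (pullback.snd q i w) ≫ (pullback.snd q i).stalkMap w =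
      baseMap q i w ≫ (pullback.fst q i).stalkMap w := by
    rw [baseMap, Category.assoc, ← Scheme.Hom.stalkMap_comp, ← Scheme.Hom.stalkMap_comp,
      Scheme.Hom.stalkMap_congr_hom _ _ (pullback.condition (f := q) (g := i)) w, TopCat.Presheaf.stalkCongr_hom]
    erw [← Category.assoc, TopCat.Presheaf.stalkSpecializes_comp, TopCat.Presheaf.stalkSpecializes_refl,
      Category.id_comp]
  rw [Ideal.mem_comap, RingHom.mem_ker]
  have h2 := congrArg (fun φ => CommRingCat.Hom.hom φ a) h1
  simp only [CommRingCat.hom_comp, RingHom.comp_apply] at h2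
  rw [← h2, RingHom.mem_ker.1 ha, map_zero]

theorem ratOn_ext_prime [QuasiCompact g] (h : IsPullback p q f g) {δX : X → ℤ} {δY : Y → ℤ} {δ : P → ℤ}
    (hX : Cyc.DeltaCompat f δX (fun _ => 0)) (hY : Cyc.DeltaCompat g δY (fun _ => 0))
    (hP : Cyc.DeltaCompat (p ≫ f) δ (fun _ => 0)) {r : ℤ} {α : AlgebraicCycle X ℤ}
    (h0 : Cyc.RatEquivZero δX r α) (η : Y) :
    H23.RatOn.ZeroOn δ (r + δY η) Set.univ fun z =>
      if δ z = δX (p z) + δY (q z) then α (p z) * (if q z = η then 1 else 0) * prodLen p q z else 0 := by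
  haveI : LocallyOfFiniteType p := MorphismProperty.of_isPullback h.flip inferInstance
  haveI := LocallyOfFiniteType.isLocallyNoetherian f
  haveI := LocallyOfFiniteType.isLocallyNoetherian g
  haveI := LocallyOfFiniteType.isLocallyNoetherian (p ≫ f)
  haveI := FibDim.subsingleton_spec_field K
  obtain ⟨V, hV, j, hj, hgen, hrange⟩ := CycLib.exists_closure_point η
  haveI := hj
  haveI := hV
  set pV := pullback.fst q j ≫ p
  have hpb : IsPullback (pullback.snd q j) (pullback.fst q j ≫ p) (j ≫ g) f :=
    IsPullback.paste_vert (h₂₁ := q) (IsPullback.of_hasPullback q j).flip h.flip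
  haveI : LocallyOfFiniteType (j ≫ g) := inferInstance
  haveI : Flat (j ≫ g) := flat_to_field _
  haveI : Flat pV := MorphismProperty.of_isPullback hpb inferInstance
  haveI : LocallyOfFiniteType pV := inferInstance
  -- dimensions
  have hdY : ∀ y, δY y = FibDim.rd g y := fun y => by
    rw [CycLib.deltaCompat_eq g hY y, zero_add]
  obtain ⟨s, hs⟩ : ∃ s : ℕ, δY η = s := ⟨_, hdY η⟩
  have hrdV : Cyc.HasRelDim (j ≫ g) s := (CycLib.hasRelDim_iff _).2 fun v hv => by
    obtain rfl : genericPoint V = v := hv _ ((genericPoint_spec V).specializes (Set.mem_univ v))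
      (Subsingleton.elim _ _)
    rw [CycLib.rd_comp, hgen, FibDim.rd_eq_zero_of_quasiFinite j, add_zero]
    exact_mod_cast (hdY η).symm.trans hs
  have hrd : Cyc.HasRelDim pV s := FibDim.hasRelDim_baseChange hpb hrdV
  have hsP := H23.SetupLFT.isSetup (p ≫ f) (CycLib.isSetup_spec_field K) hP
  have hsPV := H23.GysinLib.isSetup_closedImmersion (pullback.fst q j) hsP
  have hδi : Cyc.DeltaCompat ((pullback.fst q j) ≫ p ≫ f) (fun w => δ ((pullback.fst q j) w)) (fun _ => 0) :=
    CycLib.deltaCompat_closedImmersion_comp (pullback.fst q j) (p ≫ f) hP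
  haveI : LocallyOfFiniteType ((pullback.fst q j) ≫ p ≫ f) := inferInstance
  have hδpV : Cyc.DeltaCompat pV (fun w => δ ((pullback.fst q j) w)) δX :=
    deltaCompat_over ((pullback.fst q j) ≫ p ≫ f) f pV (Category.assoc _ _ _) hδi hX
  have hshift := H23.FlatShift.hasShift_of_hasRelDim pV hrd hδpV
  haveI := hsPV.1
  let α' := H23.FlatClass.pullCycle hshift hsPV.2.2 α
  have hz := H23.DivPull.ratEquivZero_pull pV hshift
    (H23.SetupLFT.isSetup f (CycLib.isSetup_spec_field K) hX).2.2 hsPV.2.2 h0 α' rfl
  have hle : ∀ z, δ z ≤ δX (p z) + δY (q z) := fun z => by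
    haveI : LocallyOfFiniteType q := MorphismProperty.of_isPullback h inferInstance
    haveI : LocallyOfFiniteType (q ≫ g) := inferInstance
    have hP' : Cyc.DeltaCompat (q ≫ g) δ (fun _ => 0) := by rwa [← h.w]
    have h1 := FibDim.rd_baseChange_le h z
    rw [CycLib.deltaCompat_eq (q ≫ g) hP' z, CycLib.rd_comp, CycLib.deltaCompat_eq f hX (p z), hdY]
    omega
  refine H23.RatOn.mono (H23.RatOn.push (pullback.fst q j) (by rw [← hs] at hz; exact H23.RatOn.of_ratEquivZero hz)
    (G' := fun z => if δ z = δX (p z) + δY (q z) then α (p z) * (if q z = η then 1 else 0) * prodLen p q z else 0)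
    (fun w => ?_) fun z hnr => ?_) (Set.subset_univ _)
  swap
  · rw [if_neg (c := q z = η) (fun he => hnr ?_), mul_zero, zero_mul, ite_self]
    have : q z ∈ Set.range j := by rw [hrange, he]; exact subset_closure rfl
    rw [Scheme.Pullback.range_fst]
    exact this
  show (if δ ((pullback.fst q j) w) = δX (p ((pullback.fst q j) w)) + δY (q ((pullback.fst q j) w)) then α (p ((pullback.fst q j) w)) * (if q ((pullback.fst q j) w) = η then 1 else 0) * prodLen p q ((pullback.fst q j) w)
    else 0) = Cyc.pullFun pV (fun w => δ ((pullback.fst q j) w)) δX s (⇑α) w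
  have hqw : q ((pullback.fst q j) w) = j (pullback.snd q j w) := apply_fst_eq q j w
  by_cases hv : pullback.snd q j w = genericPoint V
  swap
  · have hne : q ((pullback.fst q j) w) ≠ η := fun he => hv (j.isClosedEmbedding.injective (by rw [← hqw, he, hgen]))
    have hlt : δY (q ((pullback.fst q j) w)) < δY η := by
      refine CycLib.delta_lt (H23.SetupLFT.isSetup g (CycLib.isSetup_spec_field K) hY).2.2 ?_ (Ne.symm hne)
      rw [specializes_iff_mem_closure, ← hrange, hqw]
      exact Set.mem_range_self _
    rw [if_neg hne, mul_zero, zero_mul, ite_self, Cyc.pullFun, if_neg]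
    have := hle ((pullback.fst q j) w)
    rw [Scheme.Hom.comp_apply]
    omega
  have he : q ((pullback.fst q j) w) = η := by rw [hqw, hv, hgen]
  have hη : δY (q ((pullback.fst q j) w)) = s := by rw [he, hs]
  rw [Cyc.pullFun, if_pos he, mul_one, hη]
  refine if_congr Iff.rfl (congrArg (α (p ((pullback.fst q j) w)) * ·) ?_) rfl
  have hk : RingHom.ker ((pullback.fst q j).stalkMap w).hom =
      (maximalIdeal (Y.presheaf.stalk (q ((pullback.fst q j) w)))).map (q.stalkMap ((pullback.fst q j) w)).hom := by
    rw [ker_fst_eq q j w]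
    have hm : RingHom.ker (j.stalkMap (pullback.snd q j w)).hom = maximalIdeal _ := by
      refine le_antisymm (le_maximalIdeal (RingHom.ker_ne_top _)) fun a ha => ?_
      by_contra h0
      have hf : IsUnit ((j.stalkMap (pullback.snd q j w)).hom a) := by
        have hF : IsField (V.presheaf.stalk (pullback.snd q j w)) := by
          rw [hv]; exact Field.toIsField V.functionField
        letI := hF.toField
        exact IsUnit.mk0 _ h0
      exact ha ((isUnit_map_iff _ a).1 hf)
    rw [hm]
    exact map_maximalIdeal_congr q hqw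
  refine congrArg (fun t : ℕ∞ => (t.toNat : ℤ)) (Eq.symm ?_)
  have hmap : Ideal.map (pV.stalkMap w).hom (maximalIdeal (X.presheaf.stalk (pV w))) =
      ((maximalIdeal (X.presheaf.stalk (p ((pullback.fst q j) w)))).map (p.stalkMap ((pullback.fst q j) w)).hom ⊔
        (maximalIdeal (Y.presheaf.stalk (q ((pullback.fst q j) w)))).map (q.stalkMap ((pullback.fst q j) w)).hom).map ((pullback.fst q j).stalkMap w).hom := by
    rw [Ideal.map_sup, ← hk, Ideal.map_map,
      (Ideal.map_eq_bot_iff_le_ker _).2 (le_refl (RingHom.ker ((pullback.fst q j).stalkMap w).hom)), sup_bot_eq]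
    show Ideal.map (((pullback.fst q j) ≫ p).stalkMap w).hom (maximalIdeal (X.presheaf.stalk (p ((pullback.fst q j) w)))) = _
    rw [Scheme.Hom.stalkMap_comp]
    rfl
  rw [hmap]
  exact length_quot_map _ ((pullback.fst q j).stalkMap_surjective w) (hk.le.trans le_sup_right)

theorem ratEquivZero_ext [QuasiCompact g] (h : IsPullback p q f g) {δX : X → ℤ} {δY : Y → ℤ} {δ : P → ℤ}
    (hX : Cyc.DeltaCompat f δX (fun _ => 0)) (hY : Cyc.DeltaCompat g δY (fun _ => 0))
    (hP : Cyc.DeltaCompat (p ≫ f) δ (fun _ => 0)) {r s : ℤ} {α : AlgebraicCycle X ℤ}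
    (h0 : Cyc.RatEquivZero δX r α) {β : AlgebraicCycle Y ℤ} (hβ : β ∈ Cyc.Zk Y δY s)
    (γ : AlgebraicCycle P ℤ)
    (hγ : ∀ z, γ z = if δ z = δX (p z) + δY (q z) then α (p z) * β (q z) * prodLen p q z else 0) :
    Cyc.RatEquivZero δ (r + s) γ := by
  haveI : LocallyOfFiniteType p := MorphismProperty.of_isPullback h.flip inferInstance
  haveI := LocallyOfFiniteType.isLocallyNoetherian (p ≫ f)
  have hd := (H23.SetupLFT.isSetup (p ≫ f) (CycLib.isSetup_spec_field K) hP).2.2
  haveI : CompactSpace Y := QuasiCompact.compactSpace_of_compactSpace g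
  have hfin : (Function.support ⇑β).Finite := by
    choose t ht hft using fun y : Y => β.supportLocallyFiniteWithinDomain' y trivial
    obtain ⟨S, -, hS⟩ := isCompact_univ.elim_nhds_subcover t fun y _ => ht y
    refine (S.finite_toSet.biUnion fun y _ => hft y).subset fun y hy => ?_
    obtain ⟨a, ha, hya⟩ := Set.mem_iUnion₂.1 (hS (Set.mem_univ y))
    exact Set.mem_biUnion ha ⟨hya, hy⟩
  suffices H : ∀ S : Finset Y, (∀ η ∈ S, δY η = s) → H23.RatOn.ZeroOn δ (r + s) Set.univ fun z =>
      if δ z = δX (p z) + δY (q z) then α (p z) * (if q z ∈ S then β (q z) else 0) * prodLen p q z else 0 by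
    refine H23.RatOn.ratEquivZero (H23.RatOn.congr
      (H hfin.toFinset fun η hη => by_contra fun hc => (Set.Finite.mem_toFinset _).1 hη (hβ η hc)) fun z => ?_)
    rw [hγ]
    refine if_congr Iff.rfl ?_ rfl
    split_ifs with hS
    · rfl
    · rw [show β (q z) = 0 from not_not.1 fun hne => hS ((Set.Finite.mem_toFinset _).2 hne)]
  intro S
  induction S using Finset.induction with
  | empty => exact fun _ => H23.RatOn.congr (H23.RatOn.zero Set.univ) fun z => by simp
  | insert η S hη ih =>
    intro hS
    have h1 := ratOn_ext_prime p q f g h hX hY hP h0 η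
    rw [hS η (Finset.mem_insert_self _ _)] at h1
    refine H23.RatOn.congr (H23.RatOn.add hd h1 (ih fun x hx => hS x (Finset.mem_insert_of_mem hx)) (β η) 1) fun z => ?_
    by_cases hc : δ z = δX (p z) + δY (q z)
    · simp only [if_pos hc, Finset.mem_insert]
      by_cases he : q z = η
      · rw [he, if_pos (Or.inl rfl), if_pos rfl, if_neg hη]
        ring
      · rw [if_neg he]
        simp only [he, false_or]
        ring
    · simp only [if_neg hc]
      ring

end Groth.Agent.IntMult63
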