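import Groth.Agent.IntMult63.Points
import Groth.Agent.S2428
import Groth.Agent.H23.FlatShift
import Groth.Agent.ZClosLib.CohDescent

/-! Flat pull-back of intersection products. -/

set_option autoImplicit false
set_option linter.style.haveILetI false
set_option linter.unusedSectionVars false
set_option backward.isDefEq.respectTransparency false
set_option backward.isDefEq.respectTransparency.types false

universe u

open CategoryTheory AlgebraicGeometry IsLocalRing
open scoped Classical TensorProduct

namespace Groth.Agent.IntMult63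

open Groth.Agent

theorem chi_congr' {A : Type u} [CommRing A] {M M' N : Type u} [AddCommGroup M] [Module A M] [AddCommGroup M']
    [Module A M'] [AddCommGroup N] [Module A N] (e : M ≃ₗ[A] M') : IntMult.chi A M N = IntMult.chi A M' N := by
  unfold IntMult.chi
  refine finsum_congr fun i => ?_
  rw [(((Tor (ModuleCat.{u} A) i).mapIso e.toModuleIso).app (ModuleCat.of A N)).toLinearEquiv.length_eq]

theorem chi_baseChange (A B : Type u) [CommRing A] [IsLocalRing A] [CommRing B] [IsLocalRing B] [Algebra A B]
    [IsLocalHom (algebraMap A B)] [Module.Flat A B] (M N : Type u) [AddCommGroup M] [Module A M] [AddCommGroup N]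
    [Module A N] :
    IntMult.chi B (B ⊗[A] M) (B ⊗[A] N) =
      IntMult.chi A M N * ((Module.length B (B ⧸ (maximalIdeal A).map (algebraMap A B))).toNat : ℤ) := by
  rw [IntMult.chi, IntMult.chi, finsum_mul]
  refine finsum_congr fun i => ?_
  obtain ⟨e⟩ := S2428.result A B M N i
  rw [← e.length_eq, IsLocalRing.length_baseChange, ENat.toNat_mul, Nat.cast_mul, mul_assoc]

variable {X Y : Scheme.{u}} (f : X ⟶ Y) [Flat f]

theorem chi_stalk_pullback (F G : Y.Modules) (x : X) :
    IntMult.chi (X.presheaf.stalk x) (((Scheme.Modules.pullback f).obj F).presheaf.stalk x)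
        (((Scheme.Modules.pullback f).obj G).presheaf.stalk x) =
      IntMult.chi (Y.presheaf.stalk (f x)) (F.presheaf.stalk (f x)) (G.presheaf.stalk (f x)) *
        ((Module.length (X.presheaf.stalk x) (X.presheaf.stalk x ⧸ Ideal.map (f.stalkMap x).hom
          (maximalIdeal (Y.presheaf.stalk (f x))))).toNat : ℤ) := by
  have hflat : (f.stalkMap x).hom.Flat := Flat.stalkMap f x
  algebraize [(f.stalkMap x).hom]
  haveI : IsLocalHom (algebraMap (Y.presheaf.stalk (f x)) (X.presheaf.stalk x)) :=
    inferInstanceAs <| IsLocalHom (f.stalkMap x).hom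
  have key := chi_baseChange (Y.presheaf.stalk (f x)) (X.presheaf.stalk x)
    ((DerSch.stalkFunctor Y (f x)).obj F) ((DerSch.stalkFunctor Y (f x)).obj G)
  refine Eq.trans ?_ key
  let eF := ((KFlatLib.stalkPullbackIso f x).app F).toLinearEquiv
  let eG := ((KFlatLib.stalkPullbackIso f x).app G).toLinearEquiv
  exact ((chi_congr' eF).trans (chi_comm _ _ _)).trans ((chi_congr' eG).trans (chi_comm _ _ _))

theorem pullFun_interProd {K : Type u} [Field K] (gX : X ⟶ Spec (CommRingCat.of K))
    (gY : Y ⟶ Spec (CommRingCat.of K)) [Smooth gX] [Smooth gY] [IsIntegral X] [IsIntegral Y]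
    {δX : X → ℤ} {δY : Y → ℤ} (hdX : Cyc.IsDimFun X δX) (hdY : Cyc.IsDimFun Y δY) {n m e : ℤ}
    (hn : δX (genericPoint X) = n) (hm : δY (genericPoint Y) = m) (he : e = n - m)
    (hle : ∀ x, δX x ≤ δY (f x) + e) {F G : Y.Modules} (hF : Coh.IsCoh F) (hG : Coh.IsCoh G) {r s : ℤ}
    (hr : ∀ y : Y, Nontrivial (F.presheaf.stalk y) → δY y ≤ r)
    (hs : ∀ y : Y, Nontrivial (G.presheaf.stalk y) → δY y ≤ s)
    (hrs : ∀ y : Y, Nontrivial (F.presheaf.stalk y) → Nontrivial (G.presheaf.stalk y) → δY y ≤ r + s - m) :
    IntMult.IntersectProperly δX n (Cyc.sheafFun δX (r + e) ((Scheme.Modules.pullback f).obj F))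
        (Cyc.sheafFun δX (s + e) ((Scheme.Modules.pullback f).obj G)) ∧
      Cyc.pullFun f δX δY e (IntMult.interProd δY m (Cyc.sheafFun δY r F) (Cyc.sheafFun δY s G)) =
        IntMult.interProd δX n (Cyc.sheafFun δX (r + e) ((Scheme.Modules.pullback f).obj F))
          (Cyc.sheafFun δX (s + e) ((Scheme.Modules.pullback f).obj G)) := by
  haveI := LocallyOfFiniteType.isLocallyNoetherian gX
  haveI := LocallyOfFiniteType.isLocallyNoetherian gY
  have hF' := ZClosLib.isCoh_pullback f hF
  have hG' := ZClosLib.isCoh_pullback f hG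
  have hr' : ∀ x : X, Nontrivial (((Scheme.Modules.pullback f).obj F).presheaf.stalk x) → δX x ≤ r + e :=
    fun x hx => by
      have := hr _ (H23.FlatShift.nontrivial_of_pullback f F x hx); have := hle x; omega
  have hs' : ∀ x : X, Nontrivial (((Scheme.Modules.pullback f).obj G).presheaf.stalk x) → δX x ≤ s + e :=
    fun x hx => by
      have := hs _ (H23.FlatShift.nontrivial_of_pullback f G x hx); have := hle x; omega
  have hrs' : ∀ x : X, Nontrivial (((Scheme.Modules.pullback f).obj F).presheaf.stalk x) →
      Nontrivial (((Scheme.Modules.pullback f).obj G).presheaf.stalk x) → δX x ≤ r + e + (s + e) - n :=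
    fun x h1 h2 => by
      have := hrs _ (H23.FlatShift.nontrivial_of_pullback f F x h1) (H23.FlatShift.nontrivial_of_pullback f G x h2)
      have := hle x; omega
  refine ⟨intersectProperly gX hF' hG' hrs', funext fun x => ?_⟩
  rw [interProd_eq gX hdX hn hF' hG' hr' hs' hrs' x, chi_stalk_pullback f F G x]
  simp only [Cyc.pullFun]
  rw [interProd_eq gY hdY hm hF hG hr hs hrs (f x)]
  have h1 := hle x
  by_cases ha : δY (f x) = r + s - m
  · rw [if_pos ha]
    exact if_congr (by omega) rfl rfl
  · rw [if_neg ha, zero_mul, ite_self]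
    by_cases hb : δX x = r + e + (s + e) - n
    · rw [if_pos hb]
      haveI := GrpSchLib.isRegularLocalRing_stalk_of_smooth gY (f x)
      have hz : Subsingleton (F.presheaf.stalk (f x)) ∨ Subsingleton (G.presheaf.stalk (f x)) := by
        by_contra hc
        simp only [not_or, not_subsingleton_iff_nontrivial] at hc
        have := hrs _ hc.1 hc.2
        omega
      rw [chi_eq_zero_of_subsingleton _ _ hz, zero_mul]
    · rw [if_neg hb]

end Groth.Agent.IntMult63
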