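import Groth.Agent.IntMult63.KosTor
import Mathlib.Algebra.Category.ModuleCat.ChangeOfRingsExact
import Mathlib.LinearAlgebra.DirectSum.Finsupp

/-! `Tor` from flat resolutions of Koszul type over an algebra. -/

set_option autoImplicit false
set_option linter.style.haveILetI false
set_option backward.isDefEq.respectTransparency false
set_option backward.isDefEq.respectTransparency.types false

universe u

open CategoryTheory CategoryTheory.Limits MonoidalCategory ComplexShape
open scoped TensorProduct

namespace Groth.Agent.IntMult63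

open Groth.Agent Groth.Agent.H9Misc.DRingLTensor

section FlatRes

variable {A : Type u} [CommRing A]

open H9Misc.TorBalance KFlatLib in
/-- `Tor` computed by a flat resolution of the first variable. -/
noncomputable def torIsoFlat {M : ModuleCat.{u} A} (F : DRing.Cx A) (hflat : ∀ i, Module.Flat A (F.X i))
    (hle : ∀ i : ℤ, 0 < i → IsZero (F.X i)) (π : F ⟶ sgl M) [QuasiIso π] (N : ModuleCat.{u} A) (n : ℕ) :
    ((Tor (ModuleCat.{u} A) n).obj M).obj N ≅ ((tensC N).obj F).homology (-n : ℤ) :=
  let Q := ProjectiveResolution.of N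
  let f₁ : ((H9Misc.TorBalance.T (A := A)).obj F).obj Q.cochainComplex ⟶ (tensC M).obj Q.cochainComplex :=
    ((H9Misc.TorBalance.T (A := A)).map π).app Q.cochainComplex ≫ (sglLeftIso M).hom.app Q.cochainComplex
  let f₂ : ((H9Misc.TorBalance.T (A := A)).obj F).obj Q.cochainComplex ⟶ (tensC N).obj F :=
    ((H9Misc.TorBalance.T (A := A)).obj F).map Q.π' ≫ (sglRightIso N).hom.app F
  haveI : QuasiIso f₁ := by
    haveI := (isKF_cochainComplex Q).quasiIso_map π
    haveI : QuasiIso ((sglLeftIso M).hom.app Q.cochainComplex) :=
      inferInstanceAs (QuasiIso ((sglLeftIso M).app Q.cochainComplex).hom)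
    exact quasiIso_comp _ _
  haveI : QuasiIso f₂ := by
    haveI := (kFlat_of_termwiseFlat (b := 0) hflat hle : IsKF F).quasiIso_map' curriedTensorFlipIso Q.π'
    haveI : QuasiIso ((sglRightIso N).hom.app F) :=
      inferInstanceAs (QuasiIso ((sglRightIso N).app F).hom)
    exact quasiIso_comp _ _
  torIso M Q n ≪≫ (isoOfQuasiIsoAt f₁ (-n : ℤ)).symm ≪≫ isoOfQuasiIsoAt f₂ (-n : ℤ)

/-- The augmentation of a complex with cohomology in degree zero only. -/
theorem exists_aug (F : DRing.Cx A) (hle : ∀ i : ℤ, 0 < i → IsZero (F.X i))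
    (hex : ∀ i : ℤ, i ≠ 0 → IsZero (F.homology i)) :
    ∃ π : F ⟶ H9Misc.TorBalance.sgl (F.homology 0), QuasiIso π := by
  have hd : F.d 0 1 = 0 := (hle 1 one_pos).eq_of_tgt _ _
  haveI := F.isIso_homologyι 0 1 (by simp) hd
  let φ : F.X 0 ⟶ F.homology 0 := F.pOpcycles 0 ≫ inv (F.homologyι 0)
  let π : F ⟶ (HomologicalComplex.single (ModuleCat.{u} A) (up ℤ) 0).obj (F.homology 0) :=
    HomologicalComplex.mkHomToSingle φ (fun i _ => by rw [← Category.assoc, F.d_pOpcycles, zero_comp])
  refine ⟨π, ⟨fun i => ?_⟩⟩
  rw [quasiIsoAt_iff_isIso_homologyMap]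
  by_cases hi : i = 0
  · subst hi
    have h : HomologicalComplex.homologyMap π 0 ≫
        (HomologicalComplex.singleObjHomologySelfIso (up ℤ) 0 (F.homology 0)).hom = 𝟙 _ := by
      rw [← cancel_epi (F.homologyπ 0), HomologicalComplex.homologyπ_naturality_assoc,
        HomologicalComplex.homologyπ_singleObjHomologySelfIso_hom,
        HomologicalComplex.singleObjCyclesSelfIso_hom, HomologicalComplex.cyclesMap_i_assoc]
      simp only [HomologicalComplex.mkHomToSingle_f, π, φ, Category.assoc, Iso.inv_hom_id,
        Category.comp_id]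
      rw [← Category.assoc, ← HomologicalComplex.homology_π_ι, Category.assoc, IsIso.hom_inv_id,
        Category.comp_id]
    rw [← IsIso.eq_comp_inv] at h
    rw [h]
    infer_instance
  · exact ⟨⟨0, (hex i hi).eq_of_src _ _,
      ((HomologicalComplex.exactAt_single_obj (up ℤ) 0 (F.homology 0) i hi).isZero_homology).eq_of_src _ _⟩⟩

end FlatRes

section Algebra

variable (A B : Type u) [CommRing A] [CommRing B] [Algebra A B]
variable (C : Type u) [AddCommGroup C] [Module B C] [Module A C] [IsScalarTower A B C]

/-- `C ⊗_B -` with values in `A`-modules. -/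
noncomputable def tensOver : ModuleCat.{u} B ⥤ ModuleCat.{u} A where
  obj X := ModuleCat.of A (C ⊗[B] X)
  map f := ModuleCat.ofHom ((f.hom.lTensor C).restrictScalars A)
  map_id X := by ext : 1; exact LinearMap.ext fun z => DFunLike.congr_fun (LinearMap.lTensor_id C X) z
  map_comp f g := by
    ext : 1
    exact LinearMap.ext fun z => DFunLike.congr_fun (LinearMap.lTensor_comp C g.hom f.hom) z

instance : (tensOver A B C).Additive where
  map_add {X Y f g} := by
    ext : 1
    exact LinearMap.ext fun z => DFunLike.congr_fun (LinearMap.lTensor_add C f.hom g.hom) z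

/-- Comparison with restriction of scalars. -/
noncomputable def tensOverIso :
    tensorRight (ModuleCat.of B C) ⋙ ModuleCat.restrictScalars (algebraMap A B) ≅ tensOver A B C :=
  NatIso.ofComponents
    (fun X => LinearEquiv.toModuleIso
      (X₁ := ((ModuleCat.restrictScalars (algebraMap A B)).obj ((tensorRight (ModuleCat.of B C)).obj X) :))
      (X₂ := C ⊗[B] X)
      { __ := (TensorProduct.comm B X C).toAddEquiv
        map_smul' := fun a (z : X ⊗[B] C) => by
          show TensorProduct.comm B X C (algebraMap A B a • z) = a • TensorProduct.comm B X C z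
          rw [map_smul, IsScalarTower.algebraMap_smul B a] })
    (fun {X Y} f => by
      ext (z : X ⊗[B] C)
      show TensorProduct.comm B Y C (f.hom.rTensor C z) =
        f.hom.lTensor C (TensorProduct.comm B X C z)
      induction z using TensorProduct.induction_on with
      | zero => simp
      | tmul x c => rfl
      | add z w hz hw => simp only [map_add, hz, hw])

/-- Tensoring the values with an `A`-module. -/
noncomputable def tensOverTensorIso (N : ModuleCat.{u} A) :
    tensOver A B C ⋙ tensorRight N ≅ tensOver A B (C ⊗[A] N) :=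
  NatIso.ofComponents
    (fun X => LinearEquiv.toModuleIso (X₁ := (C ⊗[B] X) ⊗[A] N) (X₂ := (C ⊗[A] N) ⊗[B] X)
      ((TensorProduct.AlgebraTensorModule.rightComm A B B C X N).restrictScalars A))
    (fun {X Y} f => by
      ext (z : (C ⊗[B] X) ⊗[A] N)
      show TensorProduct.AlgebraTensorModule.rightComm A B B C Y N
          (((f.hom.lTensor C).restrictScalars A).rTensor N z) =
        f.hom.lTensor (C ⊗[A] N)
          (TensorProduct.AlgebraTensorModule.rightComm A B B C X N z)
      induction z using TensorProduct.induction_on with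
      | zero => simp
      | tmul w m =>
        induction w using TensorProduct.induction_on with
        | zero => simp
        | tmul c x => rfl
        | add u v hu hv => simp only [TensorProduct.add_tmul, map_add, hu, hv]
      | add z w hz hw => simp only [map_add, hz, hw])

theorem flat_tensOver [Module.Flat A C] (X : ModuleCat.{u} B) [Module.Projective B X] :
    Module.Flat A ((tensOver A B C).obj X) := by
  obtain ⟨s, hs⟩ := Module.Projective.out (R := B) (P := X)
  classical
  haveI : Module.Flat A (↑X →₀ C) := Module.Flat.of_linearEquiv (finsuppLequivDFinsupp A)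
  haveI : Module.Flat A (C ⊗[B] (↑X →₀ B)) :=
    Module.Flat.of_linearEquiv ((TensorProduct.finsuppScalarRight B B C ↑X).restrictScalars A)
  refine Module.Flat.of_retract (M := C ⊗[B] (↑X →₀ B))
    ((s.lTensor C).restrictScalars A)
    (((Finsupp.linearCombination B id).lTensor C).restrictScalars A) ?_
  ext z
  show (Finsupp.linearCombination B id).lTensor C (s.lTensor C z) = z
  rw [← LinearMap.lTensor_comp_apply,
    show (Finsupp.linearCombination B id).comp s = LinearMap.id from LinearMap.ext hs, LinearMap.lTensor_id]
  rfl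

variable {A B}

/-- A module killed by an ideal with residue ring a quotient of `A` has the same length over `A`. -/
theorem length_eq_of_surjective_quot {D : Ideal B} (hsurj : ∀ b : B, ∃ a : A, b - algebraMap A B a ∈ D)
    (H : Type u) [AddCommGroup H] [Module B H] (hkill : ∀ d ∈ D, ∀ h : H, d • h = 0) :
    Module.length A ((ModuleCat.restrictScalars (algebraMap A B)).obj (ModuleCat.of B H)) = Module.length B H := by
  letI : Module A H := Module.compHom H (algebraMap A B)
  haveI : IsScalarTower A B H := IsScalarTower.of_algebraMap_smul fun _ _ => rfl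
  show Module.length A H = _
  have key : ∀ (p : Submodule A H) (b : B) {x : H}, x ∈ p → b • x ∈ p := fun p b x hx => by
    obtain ⟨a, ha⟩ := hsurj b
    have h1 : b • x = a • x := by
      rw [← IsScalarTower.algebraMap_smul B a x, ← sub_eq_zero, ← sub_smul]
      exact hkill _ ha x
    rw [h1]
    exact p.smul_mem a hx
  unfold Module.length
  congr 1
  exact Order.krullDim_eq_of_orderIso
    ({ toFun := fun p => { carrier := p, add_mem' := p.add_mem, zero_mem' := p.zero_mem, smul_mem' := fun b _ hx => key p b hx }
       invFun := fun q => q.restrictScalars A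
       left_inv := fun _ => rfl
       right_inv := fun _ => rfl
       map_rel_iff' := Iff.rfl } : Submodule A H ≃o Submodule B H)

/-- The complex `K(fs; C)` over `A`. -/
noncomputable abbrev kosOver (fs : List B) : DRing.Cx A :=
  ((tensOver A B C).mapHomologicalComplex (up ℤ)).obj (Koszul.koszul B fs)

/-- The comparison with the Koszul homology over `B`. -/
noncomputable def kosOverHomologyIso (fs : List B) (q : ℤ) :
    (kosOver (A := A) C fs).homology q ≅
      (ModuleCat.restrictScalars (algebraMap A B)).obj ((CohIII.koszulCx (ModuleCat.of B C) fs).homology q) :=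
  let K := DRing.tensorCx (Koszul.koszul B fs) (ModuleCat.of B C)
  HomologicalComplex.homologyMapIso
      ((NatIso.mapHomologicalComplex (tensOverIso A B C).symm (up ℤ)).app (Koszul.koszul B fs)) q ≪≫
    ((K.sc q).mapHomologyIso (ModuleCat.restrictScalars (algebraMap A B))) ≪≫
    (ModuleCat.restrictScalars (algebraMap A B)).mapIso
      (HomologicalComplex.homologyMapIso (KEuler95.tensorKoszulIso (ModuleCat.of B C) fs) q)

theorem length_kosOver (fs : List B) (hsurj : ∀ b : B, ∃ a : A, b - algebraMap A B a ∈ Ideal.ofList fs) (q : ℤ) :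
    Module.length A ((kosOver (A := A) C fs).homology q) =
      Module.length B ((CohIII.koszulCx (ModuleCat.of B C) fs).homology q) := by
  rw [(kosOverHomologyIso C fs q).toLinearEquiv.length_eq]
  refine length_eq_of_surjective_quot hsurj _ fun d hd h => ?_
  obtain ⟨hh⟩ := Koszul15.homotopy_of_mem (ModuleCat.of B C) fs d hd
  have e := hh.homologyMap_eq q
  have e2 : HomologicalComplex.homologyMap (d • 𝟙 (CohIII.koszulCx (ModuleCat.of B C) fs)) q =
      d • 𝟙 ((CohIII.koszulCx (ModuleCat.of B C) fs).homology q) := by
    have h' : (HomologicalComplex.shortComplexFunctor (ModuleCat.{u} B) (ComplexShape.up ℤ) q).map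
        (d • 𝟙 (CohIII.koszulCx (ModuleCat.of B C) fs)) =
        d • 𝟙 ((CohIII.koszulCx (ModuleCat.of B C) fs).sc q) := by
      ext <;> simp <;> rfl
    change ShortComplex.homologyMap ((HomologicalComplex.shortComplexFunctor (ModuleCat.{u} B)
      (ComplexShape.up ℤ) q).map _) = _
    rw [h', ShortComplex.homologyMap_smul, ShortComplex.homologyMap_id]
    rfl
  rw [e2, HomologicalComplex.homologyMap_zero] at e
  exact ConcreteCategory.congr_hom e h

/-- The degree-zero homology. -/
theorem nonempty_h0 (fs : List B) :
    Nonempty ((kosOver (A := A) C fs).homology 0 ≃ₗ[A] C ⧸ ((Ideal.ofList fs • ⊤ : Submodule B C).restrictScalars A)) := by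
  obtain ⟨e⟩ := Koszul15.nonempty_top_equiv fs (ModuleCat.of B C)
  let e₁ := (kosOverHomologyIso (A := A) C fs 0).toLinearEquiv
  refine ⟨e₁.trans ({ e.toAddEquiv with map_smul' := fun a z => ?_ } :
    ((ModuleCat.restrictScalars (algebraMap A B)).obj ((CohIII.koszulCx (ModuleCat.of B C) fs).homology 0) :) ≃ₗ[A]
      C ⧸ ((Ideal.ofList fs • ⊤ : Submodule B C).restrictScalars A))⟩
  show e (algebraMap A B a • z) = _
  rw [map_smul]
  obtain ⟨c, hc⟩ := Submodule.Quotient.mk_surjective _ (e z)
  show _ = a • e z
  rw [← hc]
  exact congrArg Submodule.Quotient.mk (IsScalarTower.algebraMap_smul B a c)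

variable (A) in
/-- **Koszul complexes as flat resolutions.** -/
theorem length_tor_kosOver [Module.Flat A C] (fs : List B)
    (hacyc : ∀ q : ℤ, q ≠ 0 → IsZero ((CohIII.koszulCx (ModuleCat.of B C) fs).homology q))
    (hsurj : ∀ b : B, ∃ a : A, b - algebraMap A B a ∈ Ideal.ofList fs)
    {M : Type u} [AddCommGroup M] [Module A M]
    (eM : M ≃ₗ[A] C ⧸ ((Ideal.ofList fs • ⊤ : Submodule B C).restrictScalars A))
    (N : Type u) [AddCommGroup N] [Module A N] (n : ℕ) :
    Module.length A (DRing.Tor A n M N) =
      Module.length B ((CohIII.koszulCx (ModuleCat.of B (C ⊗[A] N)) fs).homology (-(n : ℤ))) := by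
  let F := kosOver (A := A) C fs
  have hle : ∀ i : ℤ, 0 < i → IsZero (F.X i) := fun i hi =>
    (tensOver A B C).map_isZero (koszul_isZero_X fs hi)
  have hflat : ∀ i, Module.Flat A (F.X i) := fun i => by
    haveI : Module.Projective B ((Koszul.koszul B fs).X i) :=
      (IsProjective.iff_projective _).2 (koszul_projective fs i)
    exact flat_tensOver A B C _
  obtain ⟨π, hπ⟩ := exists_aug F hle fun i hi =>
    IsZero.of_iso ((ModuleCat.restrictScalars (algebraMap A B)).map_isZero (hacyc i hi)) (kosOverHomologyIso C fs i)
  obtain ⟨h0⟩ := nonempty_h0 (A := A) C fs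
  have e : ModuleCat.of A M ≅ F.homology 0 := (eM.trans h0.symm).toModuleIso
  have e1 := (((Tor (ModuleCat.{u} A) n).mapIso e).app (ModuleCat.of A N) ≪≫
    torIsoFlat F hflat hle π (ModuleCat.of A N) n ≪≫
    HomologicalComplex.homologyMapIso
      ((NatIso.mapHomologicalComplex (tensOverTensorIso A B C (ModuleCat.of A N)) (up ℤ)).app (Koszul.koszul B fs))
      (-(n : ℤ))).toLinearEquiv.length_eq
  exact e1.trans (length_kosOver (C ⊗[A] N) fs hsurj _)

end Algebra

end Groth.Agent.IntMult63
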