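import Groth.Agent.IntMult63.Projection

/-! Intersecting a graph with a flat pull-back. -/

set_option autoImplicit false
set_option linter.style.haveILetI false
set_option linter.unusedSectionVars false
set_option backward.isDefEq.respectTransparency false
set_option backward.isDefEq.respectTransparency.types false

universe u

open CategoryTheory CategoryTheory.Limits AlgebraicGeometry IsLocalRing TopologicalSpace
open scoped Classical TensorProduct

namespace Groth.Agent.IntMult63

open Groth.Agent CDiv6 H23.StalkPrimes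

theorem chi_surj_flat (R A B : Type u) [CommRing R] [CommRing A] [CommRing B] [Algebra R A] [Algebra R B]
    [Algebra A B] [IsScalarTower R A B] [Module.Flat R A] [Module.Flat R B]
    (hs : Function.Surjective (algebraMap A B)) (N : Type u) [AddCommGroup N] [Module R N] :
    IntMult.chi A B (A ⊗[R] N) = ((Module.length B (B ⊗[R] N)).toNat : ℤ) := by
  rw [IntMult.chi, finsum_eq_single _ 0 fun i hi => ?_]
  · rw [pow_zero, one_mul]
    refine congrArg (fun t : ℕ∞ => (t.toNat : ℤ)) ?_
    let T := (MonoidalCategory.tensoringLeft (ModuleCat.{u} A)).obj (ModuleCat.of A B)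
    have e := ((T.leftDerivedZeroIsoSelf.app (ModuleCat.of A (A ⊗[R] N)))).toLinearEquiv.length_eq
    refine e.trans ?_
    rw [← Module.length_eq_of_surjective (S := A) (R := B) (M := B ⊗[R] N) hs]
    exact ((TensorProduct.AlgebraTensorModule.cancelBaseChange R A A B N)).length_eq
  · obtain ⟨φ, hφ⟩ := S4494.result R A B N i
    haveI := (S3527.result R B N i (Nat.pos_of_ne_zero hi)).1
    haveI : Subsingleton (DRing.Tor A i B (A ⊗[R] N)) := hφ.2.subsingleton
    simp [Module.length_eq_zero]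

variable {W X Y : Scheme.{u}} {K : Type u} [Field K] (gW : W ⟶ Spec (CommRingCat.of K)) [Smooth gW] [IsIntegral W]
  [IsIntegral X] (Γ : X ⟶ W) [IsClosedImmersion Γ] (q : W ⟶ Y) [Flat q] [Flat (Γ ≫ q)]

theorem chi_graph_point (G : Y.Modules) (x : X) :
    IntMult.chi (W.presheaf.stalk (Γ x)) ((pushO Γ).presheaf.stalk (Γ x))
        (((Scheme.Modules.pullback q).obj G).presheaf.stalk (Γ x)) =
      ((Module.length (X.presheaf.stalk x)
        (((Scheme.Modules.pullback (Γ ≫ q)).obj G).presheaf.stalk x)).toNat : ℤ) := by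
  obtain ⟨eF⟩ := H23.SpClosed.nonempty_quotEquiv Γ x
  letI : Algebra (Y.presheaf.stalk (q (Γ x))) (W.presheaf.stalk (Γ x)) := (q.stalkMap (Γ x)).hom.toAlgebra
  letI : Algebra (W.presheaf.stalk (Γ x)) (X.presheaf.stalk x) := (Γ.stalkMap x).hom.toAlgebra
  letI : Algebra (Y.presheaf.stalk (q (Γ x))) (X.presheaf.stalk x) := ((Γ ≫ q).stalkMap x).hom.toAlgebra
  haveI : IsScalarTower (Y.presheaf.stalk (q (Γ x))) (W.presheaf.stalk (Γ x)) (X.presheaf.stalk x) :=
    IsScalarTower.of_algebraMap_eq fun a => by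
      show ((Γ ≫ q).stalkMap x).hom a = (Γ.stalkMap x).hom ((q.stalkMap (Γ x)).hom a)
      rw [Scheme.Hom.stalkMap_comp]
      rfl
  haveI : Module.Flat (Y.presheaf.stalk (q (Γ x))) (W.presheaf.stalk (Γ x)) := Flat.stalkMap q (Γ x)
  haveI : Module.Flat (Y.presheaf.stalk (q (Γ x))) (X.presheaf.stalk x) := Flat.stalkMap (Γ ≫ q) x
  let eW : (W.presheaf.stalk (Γ x) ⧸ RingHom.ker (Γ.stalkMap x).hom) ≃ₗ[W.presheaf.stalk (Γ x)]
      X.presheaf.stalk x :=
    LinearMap.quotKerEquivOfSurjective (Algebra.linearMap (W.presheaf.stalk (Γ x)) (X.presheaf.stalk x))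
      (Γ.stalkMap_surjective x)
  let eq' := ((KFlatLib.stalkPullbackIso q (Γ x)).app G).toLinearEquiv
  let ef := ((KFlatLib.stalkPullbackIso (Γ ≫ q) x).app G).toLinearEquiv
  have key := chi_surj_flat (Y.presheaf.stalk (q (Γ x))) (W.presheaf.stalk (Γ x)) (X.presheaf.stalk x)
    (Γ.stalkMap_surjective x) ((DerSch.stalkFunctor Y (q (Γ x))).obj G)
  refine Eq.trans ?_ (key.trans (congrArg (fun t : ℕ∞ => (t.toNat : ℤ)) ef.length_eq.symm))
  exact ((chi_congr' (eF.trans eW)).trans (chi_comm _ _ _)).trans ((chi_congr' eq').trans (chi_comm _ _ _))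

include gW in
/-- The intersection of the graph with the pull-back of a cycle. -/
theorem interProd_graph [IsLocallyNoetherian Y] {δW : W → ℤ} {δY : Y → ℤ} (hdW : Cyc.IsDimFun W δW)
    (hdY : Cyc.IsDimFun Y δY) {n d e : ℤ} (hn : δW (genericPoint W) = n)
    (he : e = δW (Γ (genericPoint X)) + d - n) (hq : ∀ w, δW w ≤ δY (q w) + d)
    (hf : ∀ x, δW (Γ x) ≤ δY ((Γ ≫ q) x) + e) (α : AlgebraicCycle Y ℤ) :
    IntMult.IntersectProperly δW n (Set.indicator {Γ (genericPoint X)} 1) (Cyc.pullFun q δW δY d ⇑α) ∧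
      (∀ x, IntMult.interProd δW n (Set.indicator {Γ (genericPoint X)} 1) (Cyc.pullFun q δW δY d ⇑α) (Γ x) =
        Cyc.pullFun (Γ ≫ q) (fun x => δW (Γ x)) δY e ⇑α x) ∧
      (∀ z ∉ Set.range Γ,
        IntMult.interProd δW n (Set.indicator {Γ (genericPoint X)} 1) (Cyc.pullFun q δW δY d ⇑α) z = 0) := by
  haveI := LocallyOfFiniteType.isLocallyNoetherian gW
  haveI := LocallyOfFiniteType.isLocallyNoetherian Γ
  set ξ := Γ (genericPoint X) with hξdef
  have hind : (Set.indicator ({ξ} : Set W) (1 : W → ℤ)) = fun p => if p = ξ then 1 else 0 := by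
    funext p
    simp [Set.indicator_apply]
  have hrange : ∀ {z}, ξ ⤳ z → z ∈ Set.range Γ := fun h =>
    h.mem_closed Γ.isClosedEmbedding.isClosed_range ⟨_, rfl⟩
  refine ⟨fun p η z hp hη hpz hηz => ?_, fun x => ?_, fun z hz => ?_⟩
  · obtain rfl : p = ξ := by
      by_contra h
      exact hp (by rw [hind]; exact if_neg h)
    obtain ⟨x, rfl⟩ := hrange hpz
    unfold Cyc.pullFun at hη
    split_ifs at hη with h
    · have h1 : δY (q (Γ x)) ≤ δY (q η) := CycLib.delta_le hdY (hηz.map q.continuous)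
      have h2 := hf x
      rw [Scheme.Hom.comp_apply] at h2
      omega
    · exact absurd rfl hη
  swap
  · unfold IntMult.interProd
    refine finsum_eq_zero_of_forall_eq_zero fun p => ?_
    have h : Set.indicator ({ξ} : Set W) (1 : W → ℤ) p.1.1 = 0 := by
      refine Set.indicator_of_notMem (fun hm => hz (hrange ?_)) _
      have h1 := p.2.1
      rwa [Set.mem_singleton_iff.1 hm] at h1
    rw [h, zero_mul, zero_mul]
  let one : Y → Y → ℤ := fun p r => if r = p then 1 else 0
  let S := (finite_gens_cycle α ((Γ ≫ q) x)).toFinset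
  have hY : ∀ η, one η = Cyc.sheafFun δY (δY η) (Cyc.closureStructureSheaf η) := fun η =>
    (sheafFun_closure hdY η).2.symm
  have hG := fun η : Y => H23.FlatShift.sheafFun_pullback q δW δY hq _ (Cyc.closureStructureSheaf η)
    fun r hr => ((sheafFun_closure hdY η).1 r hr).2
  have hf' := fun η : Y => H23.FlatShift.sheafFun_pullback (Γ ≫ q) (fun x => δW (Γ x)) δY hf _
    (Cyc.closureStructureSheaf η) fun r hr => ((sheafFun_closure hdY η).1 r hr).2
  have hcG := fun η : Y => ZClosLib.isCoh_pullback q (DevK.isCoh_closure η)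
  have hF : Cyc.sheafFun δW (δW ξ) (pushO Γ) = fun p => if p = ξ then 1 else 0 := by
    rw [sheafFun_pushO]
    funext p
    by_cases hp : p ∈ Set.range Γ
    · obtain ⟨a, rfl⟩ := hp
      rw [subschemeFun_apply]
      by_cases ha : a = genericPoint X
      · subst ha
        haveI : IsSimpleModule (X.presheaf.stalk (genericPoint X)) (X.presheaf.stalk (genericPoint X)) :=
          inferInstanceAs (IsSimpleModule X.functionField X.functionField)
        rw [if_pos rfl, if_pos rfl, Module.length_eq_one_iff.2 inferInstance]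
        rfl
      · have hs := ((genericPoint_spec X).specializes (Set.mem_univ a)).map Γ.continuous
        have hne : Γ a ≠ ξ := fun h => ha (Γ.isClosedEmbedding.injective h)
        rw [if_neg hne, if_neg (ne_of_lt (CycLib.delta_lt hdW hs (Ne.symm hne)))]
    · have hne : p ≠ ξ := fun h => hp ⟨_, h.symm⟩
      rw [if_neg hne]
      by_contra h
      exact hp (mem_range_of_subschemeFun_ne_zero Γ h).2
  have hexp : ∀ r : Y, r ⤳ (Γ ≫ q) x → α r = ∑ η ∈ S, α η * one η r := fun r hr => by
    simp only [one, mul_ite, mul_one, mul_zero, Finset.sum_ite_eq, S, Set.Finite.mem_toFinset]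
    split_ifs with h
    · rfl
    · exact not_not.1 fun h' => h ⟨hr, h'⟩
  have e1 : ∀ p : W, p ⤳ Γ x → Set.indicator ({ξ} : Set W) (1 : W → ℤ) p =
      ∑ i ∈ ({()} : Finset Unit), (1 : ℤ) * (if p = ξ then 1 else 0) := fun p _ => by
    rw [hind, Finset.sum_singleton, one_mul]
  have e2 : ∀ p : W, p ⤳ Γ x → Cyc.pullFun q δW δY d ⇑α p =
      ∑ η ∈ S, α η * Cyc.pullFun q δW δY d (one η) p := fun p hp => by
    simp only [Cyc.pullFun]
    split_ifs
    · rw [hexp (q p) (hp.map q.continuous), Finset.sum_mul]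
      simp only [mul_assoc]
    · simp
  rw [interProd_sum {()} S (fun _ => (1 : ℤ)) α (fun _ p => if p = ξ then 1 else 0)
    (fun η => Cyc.pullFun q δW δY d (one η)) δW n e1 e2
    (fun _ _ => (Set.finite_singleton ξ).subset fun p hp => not_not.1 fun h => hp.2 (if_neg h))
    (fun η _ => by rw [hY, (hG η).2]; exact finite_gens_sheafFun gW hdW (hcG η) (hG η).1), Finset.sum_singleton]
  have hR : Cyc.pullFun (Γ ≫ q) (fun x => δW (Γ x)) δY e ⇑α x =
      ∑ η ∈ S, α η * Cyc.pullFun (Γ ≫ q) (fun x => δW (Γ x)) δY e (one η) x := by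
    simp only [Cyc.pullFun]
    split_ifs
    · rw [hexp _ (specializes_refl _), Finset.sum_mul]
      simp only [mul_assoc]
    · simp
  rw [hR]
  refine Finset.sum_congr rfl fun η _ => ?_
  rw [one_mul]
  refine congrArg (α η * ·) ?_
  rw [hY, (hG η).2, (hf' η).2, ← hF]
  rw [interProd_eq gW hdW hn (isCoh_pushO Γ) (hcG η) (fun w h => ?_) (hG η).1 (fun w h1 h2 => ?_) (Γ x),
    Cyc.sheafFun, chi_graph_point]
  · refine if_congr ?_ rfl rfl
    omega
  · obtain ⟨a, rfl⟩ := mem_range_of_nontrivial Γ h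
    exact CycLib.delta_le hdW (((genericPoint_spec X).specializes (Set.mem_univ a)).map Γ.continuous)
  · obtain ⟨a, rfl⟩ := mem_range_of_nontrivial Γ h1
    have h3 := CycLib.delta_le hdY ((sheafFun_closure hdY η).1 _ (H23.FlatShift.nontrivial_of_pullback q _ _ h2)).1
    have h4 := hf a
    rw [Scheme.Hom.comp_apply] at h4
    omega

end Groth.Agent.IntMult63
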