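import Groth.Agent.IntMult63.GraphPull
import Groth.Agent.CycLib.CurveDeg
import Groth.Agent.CycLib.Flat
import Groth.Agent.CycLib.DivPushAll
import Groth.Agent.H23.PushClass
import Groth.Agent.H23.RatOn
import Groth.Prelude.Def_ChowOps2

/-! The graph pull-back of a flat morphism is the flat pull-back. -/

set_option autoImplicit false
set_option linter.style.haveILetI false
set_option linter.unusedSectionVars false
set_option backward.isDefEq.respectTransparency false
set_option backward.isDefEq.respectTransparency.types false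

universe u

open CategoryTheory CategoryTheory.Limits AlgebraicGeometry IsLocalRing TopologicalSpace
open scoped Classical

namespace Groth.Agent.IntMult63

open Groth.Agent

theorem ratEquiv_of_cl_eq {X : Scheme.{u}} {δ : X → ℤ} (hX : Cyc.IsSetup X δ) {k : ℤ} {α β : AlgebraicCycle X ℤ}
    (hα : α ∈ Cyc.Zk X δ k) (hβ : β ∈ Cyc.Zk X δ k) (h : ChowOps.cl α hα = ChowOps.cl β hβ) :
    Cyc.RatEquiv δ k α β := by
  haveI := hX.1
  have hm : (⟨α, hα⟩ - ⟨β, hβ⟩ : ↥(ChowOps.zk X δ k)) ∈ ChowOps.ratTriv X δ k := by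
    rw [← QuotientAddGroup.eq_zero_iff, QuotientAddGroup.mk_sub, sub_eq_zero]
    exact h
  suffices H : ∀ a ∈ ChowOps.ratTriv X δ k, Cyc.RatEquivZero δ k (a : AlgebraicCycle X ℤ) from H _ hm
  intro a ha
  induction ha using AddSubgroup.closure_induction with
  | mem a ha => exact ha
  | zero => exact H23.RatOn.ratEquivZero (H23.RatOn.congr (H23.RatOn.zero Set.univ) fun x => rfl)
  | add a b _ _ iha ihb =>
    exact H23.RatOn.ratEquivZero (H23.RatOn.congr (H23.RatOn.add hX.2.2 (H23.RatOn.of_ratEquivZero iha)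
      (H23.RatOn.of_ratEquivZero ihb) 1 1) fun x => by simp)
  | neg a _ iha =>
    exact H23.RatOn.ratEquivZero (H23.RatOn.congr (H23.RatOn.add hX.2.2 (H23.RatOn.of_ratEquivZero iha)
      (H23.RatOn.of_ratEquivZero iha) (-1) 0) fun x => by simp)

variable {K : Type u} [Field K] {X Y : Scheme.{u}} (fX : X ⟶ Spec (CommRingCat.of K))
  (fY : Y ⟶ Spec (CommRingCat.of K))

theorem deltaCompat_over [LocallyOfFiniteType fX] [LocallyOfFiniteType fY] (f : X ⟶ Y) (hf : f ≫ fY = fX)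
    {δX : X → ℤ} {δY : Y → ℤ} (hδX : Cyc.DeltaCompat fX δX (fun _ => 0))
    (hδY : Cyc.DeltaCompat fY δY (fun _ => 0)) : Cyc.DeltaCompat f δX δY := by
  haveI : LocallyOfFiniteType (f ≫ fY) := by rw [hf]; infer_instance
  haveI := locallyOfFiniteType_of_comp f fY
  have h := CycLib.deltaCompat_of_comp f fY hδY fX hf.symm
  have he : δX = fun z => (FibDim.rd fX z : ℤ) := funext fun z => by
    rw [CycLib.deltaCompat_eq fX hδX z, zero_add]
  rwa [← he] at h

theorem le_shift_of_flat [LocallyOfFiniteType fX] [LocallyOfFiniteType fY] [IsIntegral X] [IsIntegral Y] (f : X ⟶ Y)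
    [Flat f] (hf : f ≫ fY = fX) {δX : X → ℤ} {δY : Y → ℤ} (hY : Cyc.IsSetup Y δY)
    (hδX : Cyc.DeltaCompat fX δX (fun _ => 0)) (hδY : Cyc.DeltaCompat fY δY (fun _ => 0)) (x : X) :
    δX x ≤ δY (f x) + (δX (genericPoint X) - δY (genericPoint Y)) := by
  haveI : LocallyOfFiniteType (f ≫ fY) := by rw [hf]; infer_instance
  haveI := locallyOfFiniteType_of_comp f fY
  have hδ := deltaCompat_over fX fY f hf hδX hδY
  haveI := hY.1
  have hr : Cyc.HasRelDim f (FibDim.rd f (genericPoint X)) :=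
    (CycLib.hasRelDim_iff f).2 fun z hz => CycLib.rd_eq_generic f hz (hY.2.1 _)
  have hgen : f (genericPoint X) = genericPoint Y := by
    obtain ⟨x', hx', he⟩ := CycLib.exists_generization (f := f)
      ((genericPoint_spec Y).specializes (Set.mem_univ (f (genericPoint X))))
    obtain rfl : x' = genericPoint X :=
      (hx'.antisymm ((genericPoint_spec X).specializes (Set.mem_univ x'))).eq
    exact he
  have h1 := H23.FlatShift.le_of_hasRelDim f hr hδ x
  have h2 := CycLib.deltaCompat_eq f hδ (genericPoint X)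
  rw [hgen] at h2
  omega

variable [Smooth fX] [IsSeparated fX] [Smooth fY] [IsIntegral X] [IsIntegral Y]
  [IsIntegral (pullback fX fY)]

theorem map_graph_ratEquiv [QuasiCompact fY] [IsProper fY] (f : X ⟶ Y) [Flat f] (hf : f ≫ fY = fX)
    {δX : X → ℤ} {δY : Y → ℤ} {δW : ↥(pullback fX fY) → ℤ}
    (hX : Cyc.IsSetup X δX) (hY : Cyc.IsSetup Y δY) (hW : Cyc.IsSetup (pullback fX fY) δW)
    (hδX : Cyc.DeltaCompat fX δX (fun _ => 0)) (hδY : Cyc.DeltaCompat fY δY (fun _ => 0))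
    (hδW : Cyc.DeltaCompat (pullback.fst fX fY ≫ fX) δW (fun _ => 0)) {dX dY : ℕ}
    (hdX : δX (genericPoint X) = dX) (hdY : δY (genericPoint Y) = dY)
    (hdW : δW (genericPoint ↥(pullback fX fY)) = (dX : ℤ) + (dY : ℤ))
    (mul : (r s : ℤ) → ChowOps.CH (pullback fX fY) δW r → ChowOps.CH (pullback fX fY) δW s →
      ChowOps.CH (pullback fX fY) δW (r + s - ((dX : ℤ) + (dY : ℤ))))
    (hmul : ChowOps.IsChowMul (pullback fX fY) δW ((dX : ℤ) + (dY : ℤ)) mul)
    (γ : AlgebraicCycle (pullback fX fY) ℤ)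
    (hγ : ⇑γ = Set.indicator {(pullback.lift (𝟙 X) f (Eq.trans (Category.id_comp fX) hf.symm)) (genericPoint X)} 1)
    (hγk : γ ∈ Cyc.Zk (pullback fX fY) δW (dX : ℤ)) (k : ℤ) (α : AlgebraicCycle Y ℤ) (hα : α ∈ Cyc.Zk Y δY k)
    (αW : AlgebraicCycle (pullback fX fY) ℤ) (hαW : ⇑αW = Cyc.pullFun (pullback.snd fX fY) δW δY (dX : ℤ) ⇑α)
    (hαWk : αW ∈ Cyc.Zk (pullback fX fY) δW (k + dX)) (ζ : AlgebraicCycle (pullback fX fY) ℤ)
    (hζk : ζ ∈ Cyc.Zk (pullback fX fY) δW ((dX : ℤ) + (k + dX) - ((dX : ℤ) + (dY : ℤ))))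
    (hζ : ChowOps.cl ζ hζk = mul (dX : ℤ) (k + dX) (ChowOps.cl γ hγk) (ChowOps.cl αW hαWk))
    (αX : AlgebraicCycle X ℤ) (hαX : ⇑αX = Cyc.pullFun f δX δY ((dX : ℤ) - (dY : ℤ)) ⇑α) :
    Cyc.RatEquiv δX (k + dX - dY) (AlgebraicCycle.map (pullback.fst fX fY) δW δX ζ) αX := by
  haveI := hX.1
  haveI := hY.1
  haveI := hW.1
  set Γ := pullback.lift (𝟙 X) f (Eq.trans (Category.id_comp fX) hf.symm)
  have hΓp : Γ ≫ pullback.fst fX fY = 𝟙 X := pullback.lift_fst _ _ _
  have hΓq : Γ ≫ pullback.snd fX fY = f := pullback.lift_snd _ _ _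
  haveI : IsClosedImmersion (Γ ≫ pullback.fst fX fY) := by rw [hΓp]; infer_instance
  haveI : IsClosedImmersion Γ := IsClosedImmersion.of_comp Γ (pullback.fst fX fY)
  haveI : Flat (Γ ≫ pullback.snd fX fY) := by rw [hΓq]; infer_instance
  haveI : Flat fX := inferInstance
  haveI : Smooth (pullback.fst fX fY ≫ fX) := inferInstance
  have hΓf : Γ ≫ pullback.fst fX fY ≫ fX = fX := by rw [← Category.assoc, hΓp, Category.id_comp]
  have hδΓ : Cyc.DeltaCompat Γ δX δW := deltaCompat_over fX (pullback.fst fX fY ≫ fX) Γ hΓf hδX hδW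
  have hδp : Cyc.DeltaCompat (pullback.fst fX fY) δW δX :=
    deltaCompat_over (pullback.fst fX fY ≫ fX) fX (pullback.fst fX fY) rfl hδW hδX
  have hΓδ : ∀ x, δW (Γ x) = δX x := fun x => by
    rw [CycLib.deltaCompat_eq Γ hδΓ x, FibDim.rd_eq_zero_of_quasiFinite Γ x]
    simp
  have hle := le_shift_of_flat fX fY f hf hY hδX hδY
  obtain ⟨hprop, hon, hoff⟩ := interProd_graph (pullback.fst fX fY ≫ fX) Γ (pullback.snd fX fY)
    (δY := δY) hW.2.2 hY.2.2 (d := dX) (e := (dX : ℤ) - dY) hdW (by rw [hΓδ, hdX]; ring)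
    (fun w => by
      have h1 := (delta_prod fX fY hδX hδY hδW).1 w
      have h2 := CycLib.delta_le hX.2.2 ((genericPoint_spec X).specializes (Set.mem_univ (pullback.fst fX fY w)))
      omega)
    (fun x => by rw [hΓδ, hΓq]; have := hle x; omega) α
  rw [← hγ, ← hαW] at hprop hon hoff
  -- the intersection as a cycle
  let ρ : AlgebraicCycle (pullback fX fY) ℤ := AlgebraicCycle.map Γ δX δW αX
  have hρ : ⇑ρ = IntMult.interProd δW ((dX : ℤ) + (dY : ℤ)) ⇑γ ⇑αW := by
    funext z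
    by_cases hz : z ∈ Set.range Γ
    · obtain ⟨x, rfl⟩ := hz
      have e : δX = fun x => δW (Γ x) := (funext hΓδ).symm
      rw [hon x]
      show AlgebraicCycle.map Γ δX δW αX (Γ x) = _
      rw [e, CycLib.map_preimmersion_apply, hαX, e]
      simp only [hΓq]
    · rw [hoff z hz, CycLib.map_apply_not_range Γ δX δW αX hz]
  have hk : (dX : ℤ) + (k + dX) - ((dX : ℤ) + (dY : ℤ)) = k + dX - dY := by ring
  have hαXk : αX ∈ Cyc.Zk X δX (k + dX - dY) := fun x hx => by
    show αX x = 0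
    rw [hαX, Cyc.pullFun]
    split_ifs with h
    · rw [hα (f x) (fun he => hx (by omega)), zero_mul]
    · rfl
  have hρk : ρ ∈ Cyc.Zk (pullback fX fY) δW ((dX : ℤ) + (k + dX) - ((dX : ℤ) + (dY : ℤ))) := by
    rw [hk]
    exact Bivar.cycMap_mem_Zk Γ δX δW _ hαXk
  have hcl : ChowOps.cl ζ hζk = ChowOps.cl ρ hρk :=
    hζ.trans (hmul _ _ γ αW hγk hαWk hprop ρ hρk hρ)
  have hr : Cyc.RatEquiv δW ((dX : ℤ) + (k + dX) - ((dX : ℤ) + (dY : ℤ))) ζ ρ := ratEquiv_of_cl_eq hW _ _ hcl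
  have hpush := CycLib.ratEquiv_map (pullback.fst fX fY) hW hX hδp hr
  have hback : AlgebraicCycle.map (pullback.fst fX fY) δW δX ρ = αX := by
    rw [CycLib.map_map Γ (pullback.fst fX fY) hδΓ hδp]
    refine DFunLike.coe_injective (funext fun x => ?_)
    rw [CycLib.map_apply', hΓp]
    simp [AlgebraicCycle.mapCoeff]
  rw [hback, hk] at hpush
  exact hpush

end Groth.Agent.IntMult63
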