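import Groth.Agent.RelPC65.ExtPC
import Groth.Agent.RelPC65.Structure
import Groth.Agent.RelPC65.FlatTerms
import Groth.Agent.KFlatLib.Scheme.CohD
import Groth.Agent.FMX.Derived
import Groth.Agent.QCoh.Support

/-! Derived tensor products of bounded above complexes with coherent cohomology. -/

set_option autoImplicit false
set_option linter.style.haveILetI false
set_option backward.isDefEq.respectTransparency false
set_option backward.isDefEq.respectTransparency.types false

universe u

open CategoryTheory CategoryTheory.Limits AlgebraicGeometry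

attribute [local instance] HasDerivedCategory.standard

namespace Groth.Agent.IntMult63

open Groth.Agent Groth.Agent.KFlatLib Groth.Agent.RelPC13

variable {X : Scheme.{u}} [IsLocallyNoetherian X]

theorem locPC_inD_of_isCoh {M : X.Modules} (h : Coh.IsCoh M) (m : ℤ) : LocPC m (DCoh.inD X M) := by
  have hz : ∀ i : ℤ, i ≠ 0 → IsZero (DCoh.HD (DCoh.inD X M) i) := fun i hi => by
    rcases lt_or_gt_of_ne hi with h | h
    · exact DerivedCategory.isZero_of_isGE (DCoh.inD X M) 0 i h
    · exact DerivedCategory.isZero_of_isLE (DCoh.inD X M) 0 i h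
  have hc : ∀ i : ℤ, Coh.IsCoh (DCoh.HD (DCoh.inD X M) i) := fun i => by
    by_cases hi : i = 0
    · subst hi
      exact isCoh_of_iso ((DerivedCategory.singleFunctorCompHomologyFunctorIso X.Modules 0).app M).symm h
    · exact isCoh_of_isZero (hz i hi)
  exact locPC_of_coh (fun i => (hc i).1) (fun i _ => hc i) 0 fun i hi => hz i (by omega)

theorem isNPseudoCoherent_id (n : ℤ) : DerSch.IsNPseudoCoherent (𝟙 X) n := by
  refine rel_of_iso (RelPC65.inDIso _).symm (isPseudoCoherentRel_of_immD fun U V _ l φ _ hφ => ?_)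
  haveI : IsNoetherianRing Γ(X, (V : X.Opens)) := IsLocallyNoetherian.component_noetherian V
  haveI := isClosedImmersion_imm U.2 hφ.1
  haveI : IsLocallyNoetherian (U : X.Opens).toScheme :=
    LocallyOfFiniteType.isLocallyNoetherian (Scheme.Opens.ι (U : X.Opens))
  exact (locPC_inD_of_isCoh (QCoh.isCoh_pushforward_finite (imm (U : X.Opens) φ)
    (isCoh_restrict (U : X.Opens).ι QCoh.isCoh_structureModule')) n).of_iso (immDSingle (U : X.Opens) φ _).symm

theorem isCohD_ltensor_bddAbove (E : CochainComplex X.Modules ℤ) [DCoh.HasLTensorCx E] (L : DCoh.D X)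
    (hL : DCoh.IsCohD L) (hE : DCoh.IsCohD (DCoh.toD X E)) (a b : ℤ)
    [L.IsLE a] [(DCoh.toD X E).IsLE b] :
    DCoh.IsCohD ((DCoh.LTensorCx E).obj L) := by
  have hEq := isCohD_isQCohD hE
  have hLq := isCohD_isQCohD hL
  haveI := hasLpull (𝟙 X)
  obtain ⟨e⟩ := FMX.nonempty_lpull_id (X := X)
  have hpc : ∀ (K : DCoh.D X) (c : ℤ) [K.IsLE c], DCoh.IsCohD K → ∀ m, DerSch.IsPseudoCoherentRel (𝟙 X) m K :=
    fun K c _ hK m => (RelPC65.locPC_iff_rel isNPseudoCoherent_id m K).1
      (locPC_of_coh (isCohD_isQCohD hK) (fun i _ => hK i) c fun i hi =>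
        DerivedCategory.isZero_of_isLE K c i hi)
  intro i
  have h := RelPC65.rel_ltensor_lpull (f := 𝟙 X) (g := 𝟙 X) E hEq hLq (b := b) (d := a)
    (hpc (DCoh.toD X E) b hE (i - a)) (hpc L a hL (i - b))
  have h' : LocPC i ((DCoh.LTensorCx E).obj L) := by
    refine (RelPC65.locPC_iff_rel isNPseudoCoherent_id i _).2 (rel_of_iso ((DCoh.LTensorCx E).mapIso (e.app L)) ?_)
    simpa using h
  exact isCoh_of_locPC (isQCohD_ltensor E hEq hLq) h' i le_rfl

end Groth.Agent.IntMult63
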