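import Groth.Agent.IntMult63.FlatPull
import Groth.Agent.S4494
import Mathlib.Algebra.Category.ModuleCat.ChangeOfRingsExact

/-! `chi` of a finite algebra as a sum over its local rings, and under a flat local extension. -/

set_option autoImplicit false
set_option linter.style.haveILetI false
set_option linter.unusedSectionVars false
set_option backward.isDefEq.respectTransparency false
set_option backward.isDefEq.respectTransparency.types false

universe u

open CategoryTheory CategoryTheory.Limits IsLocalRing MonoidalCategory
open scoped Classical TensorProduct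

namespace Groth.Agent.IntMult63

open Groth.Agent

theorem length_restrict_ext (A B : Type u) [CommRing A] [IsLocalRing A] [CommRing B] [IsLocalRing B] [Algebra A B]
    [IsLocalHom (algebraMap A B)] [Module.Flat A B] (M N : Type u) [AddCommGroup M] [Module B M] [Module A M]
    [IsScalarTower A B M] [AddCommGroup N] [Module A N] (i : ℕ) :
    Module.length A (DRing.Tor A i M N) =
      Module.length B (DRing.Tor B i M (B ⊗[A] N)) * Module.length (ResidueField A) (ResidueField B) := by
  obtain ⟨φ, hφ⟩ := S4494.result A B M N i
  letI : Module A (DRing.Tor B i M (B ⊗[A] N)) := Module.compHom _ (algebraMap A B)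
  haveI : IsScalarTower A B (DRing.Tor B i M (B ⊗[A] N)) := IsScalarTower.of_algebraMap_smul fun _ _ => rfl
  let e : DRing.Tor A i M N ≃ₗ[A] DRing.Tor B i M (B ⊗[A] N) :=
    LinearEquiv.ofBijective ({ toFun := φ, map_add' := map_add φ, map_smul' := fun a t => φ.map_smulₛₗ a t } :
      DRing.Tor A i M N →ₗ[A] DRing.Tor B i M (B ⊗[A] N)) hφ
  rw [e.length_eq, IsLocalRing.length_restrictScalars A B]

/-- `chi` under a flat local extension, in the first variable upstairs. -/
theorem chi_restrict (A B : Type u) [CommRing A] [IsLocalRing A] [CommRing B] [IsLocalRing B] [Algebra A B]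
    [IsLocalHom (algebraMap A B)] [Module.Flat A B] [Module.Finite (ResidueField A) (ResidueField B)]
    (M N : Type u) [AddCommGroup M] [Module B M] [Module A M] [IsScalarTower A B M] [AddCommGroup N] [Module A N] :
    IntMult.chi A M N =
      IntMult.chi B M (B ⊗[A] N) * (Module.finrank (ResidueField A) (ResidueField B) : ℤ) := by
  rw [IntMult.chi, IntMult.chi, finsum_mul]
  refine finsum_congr fun i => ?_
  rw [length_restrict_ext A B M N i, Module.length_eq_finrank, ENat.toNat_mul, ENat.toNat_coe, Nat.cast_mul,
    mul_assoc]

section Semilocal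

variable {A H : Type u} [CommRing A] [CommRing H] [Algebra A H] {ι : Type*} [Fintype ι] (L : ι → Type u)
  [∀ i, CommRing (L i)] [∀ i, Algebra H (L i)] [∀ i, Algebra A (L i)] [∀ i, IsScalarTower A H (L i)]
  (m : ι → Ideal H) [∀ i, (m i).IsMaximal] [∀ i, IsLocalization.AtPrime (L i) (m i)]

include m in
/-- The length of a module of finite length over a semilocal algebra. -/
theorem length_eq_sum_local (hinj : Function.Injective m) (hall : ∀ M : Ideal H, M.IsMaximal → ∃ i, m i = M)
    {T : Type u} [AddCommGroup T] [Module H T] (hT : IsFiniteLength H T) [Module A T] [IsScalarTower A H T] :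
    Module.length A T = ∑ i, Module.length A (L i ⊗[H] T) := by
  revert ‹Module A T›
  induction hT with
  | of_subsingleton =>
    intro _ _
    simp [Module.length_eq_zero]
  | @of_simple_quotient T _ _ N _ hN ih =>
    intro _ _
    haveI : IsScalarTower A H (T ⧸ N) := inferInstance
    rw [Module.length_eq_add_of_exact (N.subtype.restrictScalars A) (N.mkQ.restrictScalars A) Subtype.val_injective
      N.mkQ_surjective (LinearMap.exact_subtype_mkQ N)]
    rw [ih]
    have hs : ∀ i, Module.length A (L i ⊗[H] T) =
        Module.length A (L i ⊗[H] N) + Module.length A (L i ⊗[H] (T ⧸ N)) := fun i => by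
      haveI : Module.Flat H (L i) := IsLocalization.flat (L i) (m i).primeCompl
      exact Module.length_eq_add_of_exact ((N.subtype.lTensor (L i)).restrictScalars A)
        ((N.mkQ.lTensor (L i)).restrictScalars A)
        (Module.Flat.lTensor_preserves_injective_linearMap _ Subtype.val_injective)
        (LinearMap.lTensor_surjective _ N.mkQ_surjective)
        (lTensor_exact (L i) (LinearMap.exact_subtype_mkQ N) N.mkQ_surjective)
    rw [Finset.sum_congr rfl fun i _ => hs i, Finset.sum_add_distrib]
    congr 1
    obtain ⟨M, hM, ⟨e⟩⟩ := isSimpleModule_iff_quot_maximal.1 (inferInstance : IsSimpleModule H (T ⧸ N))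
    obtain ⟨j, rfl⟩ := hall M hM
    rw [Finset.sum_eq_single j (fun i _ hij => ?_) (fun h => absurd (Finset.mem_univ j) h)]
    · refine ((e.restrictScalars A).length_eq).trans (Eq.trans ?_
        ((TensorProduct.AlgebraTensorModule.congr (LinearEquiv.refl (L j) (L j)) e.symm).restrictScalars A).length_eq)
      refine LinearEquiv.length_eq ((LinearEquiv.ofBijective
        ((TensorProduct.mk H (L j) (H ⧸ m j) 1).restrictScalars A) ?_))
      haveI : IsLocalizedModule (m j).primeCompl (TensorProduct.mk H (L j) (H ⧸ m j) 1) :=
        (isLocalizedModule_iff_isBaseChange (m j).primeCompl (L j) _).2 (TensorProduct.isBaseChange H (H ⧸ m j) (L j))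
      have hu : ∀ s : (m j).primeCompl, Function.Bijective fun t : H ⧸ m j => (s : H) • t := fun s => by
        haveI : (m j).IsMaximal := inferInstance
        letI := Ideal.Quotient.field (m j)
        have h0 : Ideal.Quotient.mk (m j) (s : H) ≠ 0 := fun h => s.2 (Ideal.Quotient.eq_zero_iff_mem.1 h)
        have e : (fun t : H ⧸ m j => (s : H) • t) = fun t => Ideal.Quotient.mk (m j) (s : H) * t := by
          funext t
          obtain ⟨t, rfl⟩ := Ideal.Quotient.mk_surjective t
          rfl
        rw [e]
        exact mulLeft_bijective₀ _ h0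
      refine ⟨fun a b hab => ?_, fun z => ?_⟩
      · obtain ⟨c, hc⟩ := (IsLocalizedModule.eq_iff_exists (m j).primeCompl (TensorProduct.mk H (L j) (H ⧸ m j) 1)).1 hab
        exact (hu c).1 hc
      · obtain ⟨⟨a, s⟩, hz⟩ := IsLocalizedModule.surj (m j).primeCompl (TensorProduct.mk H (L j) (H ⧸ m j) 1) z
        obtain ⟨b, hb⟩ := (hu s).2 a
        refine ⟨b, ((Module.End.isUnit_iff _).1 (IsLocalizedModule.map_units (TensorProduct.mk H (L j) (H ⧸ m j) 1) s)).1 ?_⟩
        show (s : H) • (TensorProduct.mk H (L j) (H ⧸ m j) 1 b) = (s : H) • z
        rw [← map_smul, show (s : H) • b = a from hb]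
        exact hz.symm
    · haveI : Subsingleton (L i ⊗[H] (H ⧸ m j)) := by
        refine subsingleton_of_forall_eq 0 fun z => ?_
        obtain ⟨t, htj, hti⟩ := SetLike.not_le_iff_exists.1
          (fun hle : m j ≤ m i => hij (hinj (Ideal.IsMaximal.eq_of_le inferInstance (Ideal.IsPrime.ne_top inferInstance) hle).symm))
        induction z using TensorProduct.induction_on with
        | zero => rfl
        | add x y hx hy => rw [hx, hy, add_zero]
        | tmul x y =>
          have hu : IsUnit (algebraMap H (L i) t) := IsLocalization.map_units (L i) (⟨t, hti⟩ : (m i).primeCompl)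
          have ht0 : t • y = 0 := by
            obtain ⟨y, rfl⟩ := Ideal.Quotient.mk_surjective y
            exact Ideal.Quotient.eq_zero_iff_mem.2 ((m j).mul_mem_right _ htj)
          have hx' : x = t • (↑hu.unit⁻¹ * x) := by rw [Algebra.smul_def, ← mul_assoc, IsUnit.mul_val_inv, one_mul]
          rw [hx', TensorProduct.smul_tmul, ht0, TensorProduct.tmul_zero]
      haveI : Subsingleton (L i ⊗[H] (T ⧸ N)) :=
        (TensorProduct.AlgebraTensorModule.congr (LinearEquiv.refl (L i) (L i)) e).toEquiv.subsingleton
      exact Module.length_eq_zero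

variable (A)

/-- `C ⊗ -` with values in `A`-modules. -/
noncomputable def extRestrictIso (C : Type u) [CommRing C] [Algebra A C] :
    (H9Misc.TorBaseChange.G A C ⋙ ModuleCat.restrictScalars (algebraMap A C)) ≅
      (MonoidalCategory.tensoringLeft (ModuleCat.{u} A)).obj (ModuleCat.of A C) :=
  NatIso.ofComponents (fun X => LinearEquiv.toModuleIso
      (X₁ := ((ModuleCat.restrictScalars (algebraMap A C)).obj ((H9Misc.TorBaseChange.G A C).obj X) :))
      (X₂ := C ⊗[A] X)
      { __ := AddEquiv.refl (C ⊗[A] X)
        map_smul' := fun a (z : C ⊗[A] X) => IsScalarTower.algebraMap_smul C a z })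
    (fun {X Y} f => by
      ext (z : C ⊗[A] X)
      rfl)

instance (C : Type u) [CommRing C] [Algebra A C] : (H9Misc.TorBaseChange.G A C).Additive := inferInstance

/-- `Tor` of an algebra as homology with the module structure of the algebra. -/
theorem length_tor_eq_homology (C : Type u) [CommRing C] [Algebra A C] {N : Type u} [AddCommGroup N] [Module A N]
    (P : ProjectiveResolution (ModuleCat.of A N)) (n : ℕ) :
    Module.length A (DRing.Tor A n C N) = Module.length A
      ((ModuleCat.restrictScalars (algebraMap A C)).obj
        ((((H9Misc.TorBaseChange.G A C).mapHomologicalComplex _).obj P.complex).homology n)) :=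
  ((P.isoLeftDerivedObj ((MonoidalCategory.tensoringLeft (ModuleCat.{u} A)).obj (ModuleCat.of A C)) n) ≪≫
    HomologicalComplex.homologyMapIso
      ((NatIso.mapHomologicalComplex (extRestrictIso A C).symm (ComplexShape.down ℕ)).app P.complex) n ≪≫
    ((((H9Misc.TorBaseChange.G A C).mapHomologicalComplex _).obj P.complex).sc n).mapHomologyIso
      (ModuleCat.restrictScalars (algebraMap A C))).toLinearEquiv.length_eq

variable {A}

include m in
theorem length_tor_eq_sum (hinj : Function.Injective m) (hall : ∀ M : Ideal H, M.IsMaximal → ∃ i, m i = M)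
    (N : Type u) [AddCommGroup N] [Module A N] (n : ℕ) (hfin : Module.length A (DRing.Tor A n H N) ≠ ⊤) :
    Module.length A (DRing.Tor A n H N) = ∑ i, Module.length A (DRing.Tor A n (L i) N) := by
  let P := ProjectiveResolution.of (ModuleCat.of A N)
  let K := ((H9Misc.TorBaseChange.G A H).mapHomologicalComplex _).obj P.complex
  let T := K.homology n
  letI : Module A T := Module.compHom T (algebraMap A H)
  haveI : IsScalarTower A H T := IsScalarTower.of_algebraMap_smul fun _ _ => rfl
  have hT : Module.length A (DRing.Tor A n H N) = Module.length A T := length_tor_eq_homology A H P n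
  have hfl : IsFiniteLength H T := by
    have h := isFiniteLength_iff_isNoetherian_isArtinian.1 (Module.length_ne_top_iff.1 (hT ▸ hfin))
    exact isFiniteLength_iff_isNoetherian_isArtinian.2
      (h.imp (isNoetherian_of_tower A) (isArtinian_of_tower A))
  rw [hT, length_eq_sum_local L m hinj hall hfl]
  refine Finset.sum_congr rfl fun i _ => ?_
  haveI : Module.Flat H (L i) := IsLocalization.flat (L i) (m i).primeCompl
  let G' := H9Misc.TorBaseChange.G H (L i)
  haveI : G'.PreservesHomology := ((Functor.exact_tfae G').out 1 2).1 fun S hS => by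
    rw [ShortComplex.ShortExact.moduleCat_exact_iff_function_exact] at hS ⊢
    exact Module.Flat.lTensor_exact (L i) hS
  let η : H9Misc.TorBaseChange.G A H ⋙ G' ≅ H9Misc.TorBaseChange.G A (L i) :=
    NatIso.ofComponents (fun X => LinearEquiv.toModuleIso (X₁ := L i ⊗[H] (H ⊗[A] X)) (X₂ := L i ⊗[A] X)
        (TensorProduct.AlgebraTensorModule.cancelBaseChange A H (L i) (L i) X))
      (fun {X Y} g => by
        refine ModuleCat.hom_ext (LinearMap.ext fun (z : L i ⊗[H] (H ⊗[A] X)) => ?_)
        show TensorProduct.AlgebraTensorModule.cancelBaseChange A H (L i) (L i) Y ((g.hom.baseChange H).baseChange (L i) z) =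
          g.hom.baseChange (L i) (TensorProduct.AlgebraTensorModule.cancelBaseChange A H (L i) (L i) X z)
        induction z using TensorProduct.induction_on with
        | zero => simp only [map_zero]
        | add z w hz hw => simp only [map_add, hz, hw]
        | tmul x y =>
          induction y using TensorProduct.induction_on with
          | zero => simp only [TensorProduct.tmul_zero, map_zero]
          | add z w hz hw => simp only [TensorProduct.tmul_add, map_add, hz, hw]
          | tmul h a => simp only [LinearMap.baseChange_tmul, TensorProduct.AlgebraTensorModule.cancelBaseChange_tmul])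
  let e : (ModuleCat.of (L i) (L i ⊗[H] T)) ≅
      (((H9Misc.TorBaseChange.G A (L i)).mapHomologicalComplex _).obj P.complex).homology n :=
    ((K.sc n).mapHomologyIso G').symm ≪≫
      HomologicalComplex.homologyMapIso ((NatIso.mapHomologicalComplex η (ComplexShape.down ℕ)).app P.complex) n
  rw [length_tor_eq_homology A (L i) P n]
  exact (LinearEquiv.length_eq (R := A) (M := L i ⊗[H] T)
    (N := ((ModuleCat.restrictScalars (algebraMap A (L i))).obj
        ((((H9Misc.TorBaseChange.G A (L i)).mapHomologicalComplex _).obj P.complex).homology n)))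
    { e.toLinearEquiv.toAddEquiv with
      map_smul' := fun a z => by
        show e.toLinearEquiv (a • z) = algebraMap A (L i) a • e.toLinearEquiv z
        rw [← map_smul, IsScalarTower.algebraMap_smul] })

include m in
/-- `chi` of a finite algebra is the sum over its local rings. -/
theorem chi_eq_sum_local [IsRegularLocalRing A] [Module.Finite A H] (hinj : Function.Injective m)
    (hall : ∀ M : Ideal H, M.IsMaximal → ∃ i, m i = M) (N : Type u) [AddCommGroup N] [Module A N]
    [Module.Finite A N] (hmeet : MeetPt (A := A) H N) :
    IntMult.chi A H N = ∑ i, IntMult.chi A (L i) N := by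
  obtain ⟨a, ha⟩ := exists_dim_nat A
  simp only [chi_eq_range ha]
  rw [Finset.sum_comm]
  refine Finset.sum_congr rfl fun n _ => ?_
  have h := length_tor_ne_top hmeet n
  have he := length_tor_eq_sum L m hinj hall N n h
  rw [he] at h ⊢
  rw [ENat.toNat_sum fun i _ => ?_, Nat.cast_sum, Finset.mul_sum]
  exact ne_top_of_le_ne_top h (Finset.single_le_sum (f := fun i => Module.length A (DRing.Tor A n (L i) N))
    (fun _ _ => zero_le) (Finset.mem_univ i))

end Semilocal

end Groth.Agent.IntMult63
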