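import Groth.Agent.IntMult63.Projection
import Groth.Agent.IntMult63.DiagScheme
import Groth.Agent.H23.P1Closed
import Groth.Agent.H23.FundCycle
import Groth.Agent.H23.RatOn
import Groth.Agent.HBLift76.PnSmooth

/-! Intersecting with the fibres over zero and infinity of the projective line. -/

set_option autoImplicit false
set_option linter.style.haveILetI false
set_option linter.unusedSectionVars false
set_option backward.isDefEq.respectTransparency false
set_option backward.isDefEq.respectTransparency.types false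

universe u

open CategoryTheory CategoryTheory.Limits AlgebraicGeometry IsLocalRing TopologicalSpace
open scoped Classical Pointwise

namespace Groth.Agent.IntMult63

open Groth.Agent CDiv6 H23.StalkPrimes H23.P1Sect

variable {K : Type u} [Field K] {X : Scheme.{u}} (f : X ⟶ Spec (CommRingCat.of K)) [Smooth f] [IsIntegral X]
  {δ : X → ℤ} {δP : ↥(CohB1.ProjSpaceOver 1 X) → ℤ}


theorem primeOf_sect (i : Fin (1 + 1)) (x : X) (h : P1.sect X i (genericPoint X) ⤳ P1.sect X i x) :
    (primeOf h).asIdeal = RingHom.ker ((P1.sect X i).stalkMap x).hom := by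
  have hg : genericPoint X ⤳ x := (genericPoint_spec X).specializes trivial
  ext a
  have hcomp : (CohB1.ProjSpaceOver 1 X).presheaf.stalkSpecializes h ≫ (P1.sect X i).stalkMap (genericPoint X) =
      (P1.sect X i).stalkMap x ≫ X.presheaf.stalkSpecializes hg :=
    (P1.sect X i).stalkSpecializes_stalkMap _ _ hg
  have h2 := congrArg (fun φ => CommRingCat.Hom.hom φ a) hcomp
  simp only [CommRingCat.hom_comp, RingHom.comp_apply] at h2
  rw [mem_primeOf, RingHom.mem_ker]
  refine ⟨fun hu => ?_, fun h0 hu => ?_⟩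
  · refine (map_eq_zero_iff (algebraMap (X.presheaf.stalk x) X.functionField) (IsFractionRing.injective _ _)).1 ?_
    show (X.presheaf.stalkSpecializes hg).hom (((P1.sect X i).stalkMap x).hom a) = 0
    rw [← h2]
    by_contra hne
    exact hu ((isUnit_map_iff ((P1.sect X i).stalkMap (genericPoint X)).hom _).1
      (IsUnit.mk0 (G₀ := X.functionField) _ hne))
  · have := hu.map ((P1.sect X i).stalkMap (genericPoint X)).hom
    rw [h2, h0, map_zero] at this
    exact not_isUnit_zero (M₀ := X.functionField) this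

include f in
/-- The intersection of a prime cycle with a section. -/
theorem interProd_sect_apply (hX : Cyc.IsSetup X δ) (hP : Cyc.DeltaCompat (CohB1.ProjSpaceOver.toBase 1 X) δP δ)
    {n : ℤ} (hn : δ (genericPoint X) = n) {k : ℤ} {w : ↥(CohB1.ProjSpaceOver 1 X)} (hw : δP w = k + 1)
    (i : Fin (1 + 1)) (hwi : w ∉ Set.range (P1.sect X i)) (x : X) :
    IntMult.interProd δP (n + 1) (fun p => if p = w then 1 else 0)
        (fun p => if p = P1.sect X i (genericPoint X) then 1 else 0) (P1.sect X i x) =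
      Cyc.subschemeFun δ k (pullback.snd (IntMult.ptIdeal w).subschemeι (P1.sect X i)) x := by
  haveI := hX.1
  haveI := HBLift76.smooth_toBase 1 X
  haveI : IsLocallyNoetherian (CohB1.ProjSpaceOver 1 X) :=
    (H23.SetupLFT.isSetup (CohB1.ProjSpaceOver.toBase 1 X) hX hP).1
  set z := P1.sect X i x
  set ι := (IntMult.ptIdeal w).subschemeι
  have hsz : P1.sect X i (genericPoint X) ⤳ z :=
    ((genericPoint_spec X).specializes trivial).map (P1.sect X i).continuous
  rw [interProd_one, H23.SpClosed.subschemeFun_symm, H23.SpClosed.subschemeFun_eq, Cyc.sheafFun,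
    H23.P1Fam.delta_sect hP, H23.P1Fam.delta_sect hP, hn, hw]
  by_cases hwz : w ⤳ z
  swap
  · rw [if_neg (fun h => hwz h.1)]
    haveI : Subsingleton ((pushO ι).presheaf.stalk z) := by
      refine not_nontrivial_iff_subsingleton.1 fun hnt => hwz ?_
      have := mem_range_of_nontrivial ι hnt
      rw [Scheme.IdealSheafData.range_subschemeι, IntMult.ptIdeal,
        Scheme.IdealSheafData.coe_support_vanishingIdeal] at this
      exact specializes_iff_mem_closure.2 this
    rw [H23.CapSheaf.length_stalk_pullback_closed _ _ x (ker_sect X i x), Module.length_eq_zero]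
    simp
  by_cases hd : δ x = k
  swap
  · rw [if_neg hd, if_neg (fun h => hd (by omega))]
  rw [if_pos hd, if_pos ⟨hwz, hsz, by omega⟩, IntMult.mult, stalkIdeal_ptIdeal hwz, stalkIdeal_ptIdeal hsz,
    primeOf_sect i x hsz, ker_sect X i x]
  set c := (CohB1.ProjSpaceOver 1 X).presheaf.germ _ z (sect_mem X i x) (H23.P1Sect.c X i)
  haveI : Smooth (CohB1.ProjSpaceOver.toBase 1 X ≫ f) := inferInstance
  haveI := GrpSchLib.isRegularLocalRing_stalk_of_smooth (CohB1.ProjSpaceOver.toBase 1 X ≫ f) z
  haveI := RegLoc6.isDomain_of_isRegularLocalRing ((CohB1.ProjSpaceOver 1 X).presheaf.stalk z)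
  have hcP : c ∉ (primeOf hwz).asIdeal := fun hc => hwi (by
    rw [mem_primeOf] at hc
    have hwV : w ∈ V X i := hwz.mem_open (V X i).2 (sect_mem X i x)
    rw [range_sect]
    refine ⟨hwV, fun hu => hc ?_⟩
    erw [TopCat.Presheaf.germ_stalkSpecializes_apply]
    exact hu)
  have hc0 : c ≠ 0 := fun h => hcP (h ▸ zero_mem _)
  haveI := (primeOf hwz).2
  have hwr : RingTheory.Sequence.IsWeaklyRegular ((CohB1.ProjSpaceOver 1 X).presheaf.stalk z) [c] := by
    rw [RingTheory.Sequence.isWeaklyRegular_singleton_iff]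
    exact fun a b hab => mul_left_cancel₀ hc0 hab
  have hwr' : RingTheory.Sequence.IsWeaklyRegular
      ((CohB1.ProjSpaceOver 1 X).presheaf.stalk z ⧸ (primeOf hwz).asIdeal) [c] := by
    rw [RingTheory.Sequence.isWeaklyRegular_singleton_iff]
    intro a b hab
    change (Ideal.Quotient.mk _ c) * a = (Ideal.Quotient.mk _ c) * b at hab
    exact mul_left_cancel₀ (fun h => hcP (Ideal.Quotient.eq_zero_iff_mem.1 h)) hab
  have hspan : Ideal.span {c} = Ideal.ofList [c] := (Ideal.ofList_singleton c).symm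
  rw [hspan, chi_eq_kos _ hwr, chi_eq_length _ _ hwr']
  obtain ⟨eN⟩ := nonempty_stalk_pushO (I := IntMult.ptIdeal w) (x := z) (mem_support_ptIdeal.2 hwz)
  rw [stalkIdeal_ptIdeal hwz] at eN
  refine congrArg (fun t : ℕ∞ => (t.toNat : ℤ)) ?_
  rw [H23.CapSheaf.length_stalk_pullback_closed _ _ x (ker_sect X i x), ← hspan, Submodule.ideal_span_singleton_smul]
  refine LinearEquiv.length_eq (Submodule.Quotient.equiv _ _ eN.symm ?_)
  rw [Submodule.map_pointwise_smul, Submodule.map_top, LinearEquiv.range]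

include f in
/-- Intersections with the two fibres are rationally equivalent after push-forward. -/
theorem ratOn_prime (hX : Cyc.IsSetup X δ) (hP : Cyc.DeltaCompat (CohB1.ProjSpaceOver.toBase 1 X) δP δ)
    {n : ℤ} (hn : δ (genericPoint X) = n) {k : ℤ} {w : ↥(CohB1.ProjSpaceOver 1 X)} (hw : δP w = k + 1)
    (hprop : ∀ (i : Fin (1 + 1)) (x : X), w ⤳ P1.sect X i x → δ x ≤ k) :
    H23.RatOn.ZeroOn δ k Set.univ fun x =>
      IntMult.interProd δP (n + 1) (fun p => if p = w then 1 else 0)
        (fun p => if p = P1.sect X 0 (genericPoint X) then 1 else 0) (P1.sect X 0 x) -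
      IntMult.interProd δP (n + 1) (fun p => if p = w then 1 else 0)
        (fun p => if p = P1.sect X 1 (genericPoint X) then 1 else 0) (P1.sect X 1 x) := by
  haveI := hX.1
  haveI : IsLocallyNoetherian (CohB1.ProjSpaceOver 1 X) :=
    (H23.SetupLFT.isSetup (CohB1.ProjSpaceOver.toBase 1 X) hX hP).1
  haveI : IsIntegral (IntMult.ptIdeal w).subscheme := QCoh.isIntegral_closure_point w
  set ι := (IntMult.ptIdeal w).subschemeι
  haveI := LocallyOfFiniteType.isLocallyNoetherian ι
  have hd := hX.2.2
  have hdP := (H23.SetupLFT.isSetup (CohB1.ProjSpaceOver.toBase 1 X) hX hP).2.2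
  have hwi : ∀ i, w ∉ Set.range (P1.sect X i) := fun i => by
    rintro ⟨x, rfl⟩
    have := hprop i x (specializes_refl _)
    rw [H23.P1Fam.delta_sect hP] at hw
    omega
  have hr : Set.range ι = closure {w} := by
    rw [Scheme.IdealSheafData.range_subschemeι, IntMult.ptIdeal, Scheme.IdealSheafData.coe_support_vanishingIdeal]
    rfl
  have hgen : ι (genericPoint (IntMult.ptIdeal w).subscheme) = w := by
    obtain ⟨z, hz⟩ : w ∈ Set.range ι := hr ▸ subset_closure rfl
    have h1 : w ⤳ ι (genericPoint (IntMult.ptIdeal w).subscheme) :=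
      specializes_iff_mem_closure.2 (hr ▸ Set.mem_range_self _)
    have h2 := ((genericPoint_spec (IntMult.ptIdeal w).subscheme).specializes (Set.mem_univ z)).map ι.continuous
    rw [hz] at h2
    exact (h2.antisymm h1).eq
  have hmk : ∀ i : Fin (1 + 1), ∃ A : AlgebraicCycle X ℤ,
      ⇑A = Cyc.subschemeFun δ k (pullback.snd ι (P1.sect X i)) := fun i => by
    haveI := LocallyOfFiniteType.isLocallyNoetherian (pullback.snd ι (P1.sect X i))
    exact ⟨_, (H23.FundCycle.subschemeFun_closed (pullback.snd ι (P1.sect X i)) δ k).symm⟩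
  obtain ⟨A, hA⟩ := hmk 0
  obtain ⟨B, hB⟩ := hmk 1
  have hwz : ∀ z, w ⤳ ι z := fun z => specializes_iff_mem_closure.2 (hr ▸ Set.mem_range_self z)
  have h := H23.P1Closed.ratEquiv hX hP (k := k) ι
    (fun z => hw ▸ CycLib.delta_le hdP (hwz z))
    (fun z hz => by
      rcases hz with ⟨x, hx⟩ | ⟨x, hx⟩
      · rw [← hx, H23.P1Fam.delta_sect hP]; exact hprop 0 x (hx ▸ hwz z)
      · rw [← hx, H23.P1Fam.delta_sect hP]; exact hprop 1 x (hx ▸ hwz z))
    (fun z hz => by
      obtain rfl := H23.P1Closed.eq_genericPoint_of_associated hz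
      rw [hgen]
      exact Or.inl fun h => h.elim (hwi 0) (hwi 1))
    A B hA hB
  refine H23.RatOn.congr (H23.RatOn.of_ratEquivZero h) fun x => ?_
  rw [interProd_sect_apply f hX hP hn hw 0 (hwi 0) x, interProd_sect_apply f hX hP hn hw 1 (hwi 1) x, ← hA, ← hB]
  simp

include f in
/-- The difference of the intersections with the two fibres pushes forward to zero in the Chow group. -/
theorem map_interProd_fibre_diff [QuasiCompact f] [QuasiCompact (CohB1.ProjSpaceOver.toBase 1 X)]
    (hX : Cyc.IsSetup X δ) (hP : Cyc.DeltaCompat (CohB1.ProjSpaceOver.toBase 1 X) δP δ)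
    {n : ℤ} (hn : δ (genericPoint X) = n) {k : ℤ} (α : AlgebraicCycle (CohB1.ProjSpaceOver 1 X) ℤ)
    (hα : α ∈ Cyc.Zk _ δP (k + 1))
    (hprop : ∀ i : Fin (1 + 1), IntMult.IntersectProperly δP (n + 1) ⇑α
      (Set.indicator {P1.sect X i (genericPoint X)} 1))
    (γ : AlgebraicCycle (CohB1.ProjSpaceOver 1 X) ℤ)
    (hγ : ⇑γ = IntMult.interProd δP (n + 1) ⇑α (Set.indicator {P1.sect X 0 (genericPoint X)} 1) -
      IntMult.interProd δP (n + 1) ⇑α (Set.indicator {P1.sect X 1 (genericPoint X)} 1)) :
    Cyc.RatEquivZero δ k (AlgebraicCycle.map (CohB1.ProjSpaceOver.toBase 1 X) δP δ γ) := by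
  haveI := hX.1
  set π := CohB1.ProjSpaceOver.toBase 1 X
  haveI : CompactSpace X := QuasiCompact.compactSpace_of_compactSpace f
  haveI : CompactSpace ↥(CohB1.ProjSpaceOver 1 X) := QuasiCompact.compactSpace_of_compactSpace π
  have hfin : (Function.support ⇑α).Finite := by
    choose t ht hft using fun y : ↥(CohB1.ProjSpaceOver 1 X) => α.supportLocallyFiniteWithinDomain' y trivial
    obtain ⟨S, -, hS⟩ := isCompact_univ.elim_nhds_subcover t fun y _ => ht y
    refine (S.finite_toSet.biUnion fun y _ => hft y).subset fun y hy => ?_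
    obtain ⟨a, ha, hya⟩ := Set.mem_iUnion₂.1 (hS (Set.mem_univ y))
    exact Set.mem_biUnion ha ⟨hya, hy⟩
  let one : ↥(CohB1.ProjSpaceOver 1 X) → ↥(CohB1.ProjSpaceOver 1 X) → ℤ := fun w p => if p = w then 1 else 0
  let σ : Fin (1 + 1) → ↥(CohB1.ProjSpaceOver 1 X) := fun i => P1.sect X i (genericPoint X)
  let I : Fin (1 + 1) → ↥(CohB1.ProjSpaceOver 1 X) → ↥(CohB1.ProjSpaceOver 1 X) → ℤ := fun i w =>
    IntMult.interProd δP (n + 1) (one w) (one (σ i))
  have hind : ∀ i, (Set.indicator ({σ i} : Set ↥(CohB1.ProjSpaceOver 1 X)) (1 : ↥(CohB1.ProjSpaceOver 1 X) → ℤ)) = one (σ i) := fun i => by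
    funext p
    simp [Set.indicator_apply, one]
  have hexp : ∀ i z, IntMult.interProd δP (n + 1) ⇑α (Set.indicator {σ i} 1) z =
      ∑ w ∈ hfin.toFinset, α w * I i w z := fun i z => by
    rw [hind, interProd_sum hfin.toFinset {σ i} α (fun _ => (1 : ℤ)) one one δP (n + 1)
      (fun p _ => by
        simp only [one, mul_ite, mul_one, mul_zero, Finset.sum_ite_eq, Set.Finite.mem_toFinset, Function.mem_support]
        split_ifs with h
        · rfl
        · exact not_not.1 h)
      (fun p _ => by simp [one])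
      (fun w _ => (Set.finite_singleton w).subset fun p hp => not_not.1 fun h => hp.2 (if_neg h))
      (fun w _ => (Set.finite_singleton w).subset fun p hp => not_not.1 fun h => hp.2 (if_neg h))]
    exact Finset.sum_congr rfl fun w _ => by rw [Finset.sum_singleton, mul_one]
  have hI : ∀ i w z, I i w z ≠ 0 → z ∈ Set.range (P1.sect X i) := fun i w z h => by
    simp only [I, one] at h
    rw [interProd_one] at h
    by_contra hz
    refine h (if_neg fun hc => hz ?_)
    exact hc.2.1.mem_closed (P1.sect X i).isClosedEmbedding.isClosed_range ⟨_, rfl⟩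
  have hG : ∀ z, γ z = (∑ w ∈ hfin.toFinset, α w * I 0 w z) - ∑ w ∈ hfin.toFinset, α w * I 1 w z := fun z => by
    rw [hγ, Pi.sub_apply, hexp, hexp]
  have hmap : ∀ x, AlgebraicCycle.map π δP δ γ x =
      ∑ w ∈ hfin.toFinset, α w * (I 0 w (P1.sect X 0 x) - I 1 w (P1.sect X 1 x)) := fun x => by
    have hπ : ∀ i, π (P1.sect X i x) = x := fun i => by
      rw [← Scheme.Hom.comp_apply, sect_toBase]; rfl
    have hne : P1.sect X 0 x ≠ P1.sect X 1 x := fun h => H23.P1Fam.sect_ne (X := X) 0 x (by
      rw [h]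
      exact sect_mem X 1 x)
    have h01 : ∀ w, I 1 w (P1.sect X 0 x) = 0 ∧ I 0 w (P1.sect X 1 x) = 0 := fun w => by
      constructor
      · by_contra h
        obtain ⟨y, hy⟩ := hI _ _ _ h
        have : y = x := by rw [← hπ 0, ← hy, ← Scheme.Hom.comp_apply, sect_toBase]; rfl
        exact hne (this ▸ hy).symm
      · by_contra h
        obtain ⟨y, hy⟩ := hI _ _ _ h
        have : y = x := by rw [← hπ 1, ← hy, ← Scheme.Hom.comp_apply, sect_toBase]; rfl
        exact hne (this ▸ hy)
    rw [CycLib.map_apply', finsum_mem_eq_sum_of_inter_support_eq _ (t := {P1.sect X 0 x, P1.sect X 1 x}) ?_,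
      Finset.sum_pair hne, H23.P1Fam.mapCoeff_sect hP, H23.P1Fam.mapCoeff_sect hP, hG, hG]
    · simp only [(h01 _).1, (h01 _).2, mul_zero, Finset.sum_const_zero, Nat.cast_one, mul_one,
        mul_sub, Finset.sum_sub_distrib]
      ring
    · ext z
      simp only [Set.mem_inter_iff, Set.mem_preimage, Set.mem_singleton_iff, Function.mem_support,
        Finset.coe_insert, Finset.coe_singleton, Set.mem_insert_iff]
      refine ⟨fun ⟨hz, h⟩ => ⟨?_, h⟩, fun ⟨hz, h⟩ => ⟨by rcases hz with rfl | rfl <;> exact hπ _, h⟩⟩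
      have hg := left_ne_zero_of_mul h
      rw [hG] at hg
      have : (∑ w ∈ hfin.toFinset, α w * I 0 w z) ≠ 0 ∨ (∑ w ∈ hfin.toFinset, α w * I 1 w z) ≠ 0 := by omega
      rcases this with h' | h' <;> obtain ⟨w, -, hw⟩ := Finset.exists_ne_zero_of_sum_ne_zero h' <;>
        obtain ⟨y, rfl⟩ := hI _ _ _ (right_ne_zero_of_mul hw) <;>
        rw [← Scheme.Hom.comp_apply, sect_toBase] at hz <;> obtain rfl : y = x := hz
      · exact Or.inl rfl
      · exact Or.inr rfl
  suffices H : ∀ S : Finset ↥(CohB1.ProjSpaceOver 1 X), (∀ w ∈ S, α w ≠ 0) → H23.RatOn.ZeroOn δ k Set.univ fun x =>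
      ∑ w ∈ S, α w * (I 0 w (P1.sect X 0 x) - I 1 w (P1.sect X 1 x)) from
    H23.RatOn.ratEquivZero (H23.RatOn.congr (H hfin.toFinset fun w hw => (Set.Finite.mem_toFinset _).1 hw) hmap)
  intro S
  induction S using Finset.induction with
  | empty => exact fun _ => H23.RatOn.congr (H23.RatOn.zero Set.univ) fun x => by simp
  | insert w S hw ih =>
    intro hS
    have hαw := hS w (Finset.mem_insert_self _ _)
    have hδw : δP w = k + 1 := by_contra fun hc => hαw (hα w hc)
    have h1 := ratOn_prime f hX hP hn (k := k) hδw fun i x hwx => by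
      have h := hprop i w (P1.sect X i (genericPoint X)) (P1.sect X i x) hαw (by simp [Set.indicator_apply]) hwx
        (((genericPoint_spec X).specializes trivial).map (P1.sect X i).continuous)
      rw [H23.P1Fam.delta_sect hP, H23.P1Fam.delta_sect hP, hn, hδw] at h
      omega
    refine H23.RatOn.congr (H23.RatOn.add hX.2.2 h1 (ih fun a ha => hS a (Finset.mem_insert_of_mem ha)) (α w) 1)
      fun x => ?_
    rw [Finset.sum_insert hw, one_mul]

end Groth.Agent.IntMult63
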