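import Groth.Agent.IntMult63.Diag
import Groth.Agent.GrpSchLib.SmoothRegular
import Mathlib.AlgebraicGeometry.Morphisms.Smooth

/-! Positivity of intersection multiplicities on smooth varieties. -/

set_option autoImplicit false
set_option linter.style.haveILetI false
set_option backward.isDefEq.respectTransparency false
set_option backward.isDefEq.respectTransparency.types false

universe u

open CategoryTheory AlgebraicGeometry

namespace Groth.Agent.IntMult63

open Groth.Agent

variable {K : Type u} [Field K] {X : Scheme.{u}} (f : X ⟶ Spec (CommRingCat.of K))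

include f in
/-- The dimension inequality at a point of a proper intersection. -/
theorem dim_le_add [LocallyOfFiniteType f] [IrreducibleSpace X] [IsLocallyNoetherian X] {IV IW : X.IdealSheafData}
    [IsIntegral IV.subscheme] [IsIntegral IW.subscheme] {n r s : ℕ} {ξ : X} (hn : topologicalKrullDim X = n)
    (hr : topologicalKrullDim IV.support = r) (hs : topologicalKrullDim IW.support = s)
    (hprop : IntMult.ProperInt (IV.support : Set X) (IW.support : Set X) n r s) (hξV : ξ ∈ IV.support)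
    (hξW : ξ ∈ IW.support) :
    ringKrullDim (X.presheaf.stalk ξ) ≤ ringKrullDim (↑(X.presheaf.stalk ξ) ⧸ IntMult.stalkIdeal IW ξ) +
      ringKrullDim (↑(X.presheaf.stalk ξ) ⧸ IntMult.stalkIdeal IV ξ) := by
  obtain ⟨ηV, hV1, hV2, hV3⟩ := exists_generic f IV hr
  obtain ⟨ηW, hW1, hW2, hW3⟩ := exists_generic f IW hs
  obtain ⟨b, hb, hnb⟩ := ringKrullDim_stalk f ξ hn
  obtain ⟨hrs, hdim⟩ := hprop ⟨ξ, hξV, hξW⟩
  have hd : VarDim.deg f ξ ≤ r + s - n := by
    rw [VarDim.topologicalKrullDim_set_eq_iSup_deg f (IV.support.isClosed.inter IW.support.isClosed)] at hdim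
    have : ((VarDim.deg f ξ : ℕ∞) : WithBot ℕ∞) ≤ ((r + s - n : ℕ) : WithBot ℕ∞) := le_trans (le_iSup
      (fun z : ↥((IV.support : Set X) ∩ (IW.support : Set X)) =>
        ((VarDim.deg f z.1 : ℕ∞) : WithBot ℕ∞)) ⟨ξ, hξV, hξW⟩) hdim
    exact (Nat.cast_le (α := ℕ∞)).1 (WithBot.coe_le_coe.1 this)
  have e1 := deg_le_deg_add_supportDim f (hV2 ξ hξV) hV1
  have e2 := deg_le_deg_add_supportDim f (hW2 ξ hξW) hW1
  rw [hV3, Module.supportDim_quotient_eq_ringKrullDim] at e1
  rw [hW3, Module.supportDim_quotient_eq_ringKrullDim] at e2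
  haveI := isLocalRing_quot (stalkIdeal_le_maximalIdeal hξV)
  haveI := isLocalRing_quot (stalkIdeal_le_maximalIdeal hξW)
  obtain ⟨dV, hdV⟩ := exists_dim_nat (↑(X.presheaf.stalk ξ) ⧸ IntMult.stalkIdeal IV ξ)
  obtain ⟨dW, hdW⟩ := exists_dim_nat (↑(X.presheaf.stalk ξ) ⧸ IntMult.stalkIdeal IW ξ)
  rw [hdV] at e1 ⊢
  rw [hdW] at e2 ⊢
  rw [hb]
  replace e1 : r ≤ VarDim.deg f ξ + dV := by exact_mod_cast e1
  replace e2 : s ≤ VarDim.deg f ξ + dW := by exact_mod_cast e2
  exact_mod_cast (by omega : b ≤ dW + dV)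

theorem exists_smooth_algebra [Smooth f] {U : X.Opens} (hU : IsAffineOpen U) :
    ∃ _ : Algebra K Γ(X, U), Algebra.Smooth K Γ(X, U) := by
  letI : Algebra K Γ(X, U) :=
    ((X.presheaf.map (homOfLE (le_top (a := U))).op).hom.comp (VarDim.baseMap f)).toAlgebra
  refine ⟨inferInstance, ?_⟩
  have h := f.smooth_appLE (isAffineOpen_top (Spec (CommRingCat.of K))) hU (by simp)
  have h2 : ((f.appLE ⊤ U (by simp)).hom.comp (Scheme.ΓSpecIso (CommRingCat.of K)).inv.hom).Smooth :=
    RingHom.Smooth.comp (RingHom.Smooth.respectsIso.2 (RingHom.id _)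
      (Scheme.ΓSpecIso (CommRingCat.of K)).symm.commRingCatIsoToRingEquiv (RingHom.Smooth.id _)) h
  exact RingHom.smooth_algebraMap.1 (show (algebraMap K Γ(X, U)).Smooth from h2)

end Groth.Agent.IntMult63
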