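import Groth.Agent.VarDim.Top
import Groth.Agent.VarDim.Local
import Groth.Prelude.Def_IntMult
import Mathlib.RingTheory.KrullDimension.Regular
import Mathlib.AlgebraicGeometry.IdealSheaf.Subscheme

/-! Stalks of ideal sheaves: primes, dimensions. -/

set_option autoImplicit false
set_option linter.style.haveILetI false

universe u

open CategoryTheory AlgebraicGeometry Order

namespace Groth.Agent.IntMult63

open Groth.Agent

variable {X : Scheme.{u}}

theorem stalkIdeal_eq (I : X.IdealSheafData) (U : X.affineOpens) {x : X} (hx : x ∈ (U : X.Opens)) :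
    IntMult.stalkIdeal I x = (I.ideal U).map (X.presheaf.germ U x hx).hom := by
  refine le_antisymm (iSup₂_le fun V hxV => ?_)
    (le_iSup₂ (f := fun (V : X.affineOpens) (h : x ∈ (V : X.Opens)) =>
      (I.ideal V).map (X.presheaf.germ V x h).hom) U hx)
  obtain ⟨W, hW, hxW, hle⟩ := exists_isAffineOpen_mem_and_subset (x := x) (U := (U : X.Opens) ⊓ V) ⟨hx, hxV⟩
  let W' : X.affineOpens := ⟨W, hW⟩
  have key : ∀ (T : X.affineOpens) (hT : W' ≤ T),
      (I.ideal T).map (X.presheaf.germ T x (hT hxW)).hom =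
        (I.ideal W').map (X.presheaf.germ W' x hxW).hom := fun T hT => by
    rw [← I.map_ideal hT, Ideal.map_map, ← CommRingCat.hom_comp]
    erw [X.presheaf.germ_res]
  have h1 : W' ≤ U := fun y hy => (hle hy).1
  have h2 : W' ≤ V := fun y hy => (hle hy).2
  exact ((key V h2).trans (key U h1).symm).le

/-- The point of `X` of a prime of the local ring. -/
theorem exists_point {x : X} {U : X.Opens} (hU : IsAffineOpen U) (hx : x ∈ U)
    (q : PrimeSpectrum (X.presheaf.stalk x)) :
    hU.fromSpec (PrimeSpectrum.comap (X.presheaf.germ U x hx).hom q) ⤳ x := by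
  letI := X.presheaf.algebra_section_stalk ⟨x, hx⟩
  haveI := hU.isLocalization_stalk ⟨x, hx⟩
  have h : PrimeSpectrum.comap (algebraMap Γ(X, U) (X.presheaf.stalk x)) q ≤ hU.primeIdealOf ⟨x, hx⟩ := by
    intro a ha
    by_contra hn
    exact q.2.ne_top (Ideal.eq_top_of_isUnit_mem _ ha (IsLocalization.map_units _
      (⟨a, hn⟩ : (hU.primeIdealOf ⟨x, hx⟩).asIdeal.primeCompl)))
  have h3 := ((PrimeSpectrum.le_iff_specializes _ _).1 h).map hU.fromSpec.isOpenEmbedding.continuous
  rw [hU.fromSpec_primeIdealOf] at h3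
  exact h3

theorem mem_support_iff_le {x : X} {U : X.Opens} (hU : IsAffineOpen U) (hx : x ∈ U) (I : X.IdealSheafData)
    (q : PrimeSpectrum (X.presheaf.stalk x)) :
    hU.fromSpec (PrimeSpectrum.comap (X.presheaf.germ U x hx).hom q) ∈ I.support ↔
      IntMult.stalkIdeal I x ≤ q.asIdeal := by
  rw [stalkIdeal_eq I ⟨U, hU⟩ hx, Ideal.map_le_iff_le_comap,
    I.mem_support_iff_of_mem (U := ⟨U, hU⟩) ((exists_point hU hx q).mem_open U.2 hx)]
  exact Set.ext_iff.1 (hU.fromSpec_preimage_zeroLocus (I.ideal ⟨U, hU⟩ : Set Γ(X, U))) _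

theorem stalkIdeal_le_maximalIdeal {x : X} {I : X.IdealSheafData} (h : x ∈ I.support) :
    IntMult.stalkIdeal I x ≤ IsLocalRing.maximalIdeal (X.presheaf.stalk x) := by
  obtain ⟨U, hU, hx, -⟩ := exists_isAffineOpen_mem_and_subset (x := x) (U := ⊤) trivial
  letI := X.presheaf.algebra_section_stalk ⟨x, hx⟩
  haveI := hU.isLocalization_stalk ⟨x, hx⟩
  rw [stalkIdeal_eq I ⟨U, hU⟩ hx, Ideal.map_le_iff_le_comap]
  have hp : hU.fromSpec (hU.primeIdealOf ⟨x, hx⟩) ∈ I.support := by rwa [hU.fromSpec_primeIdealOf]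
  rw [I.mem_support_iff_of_mem (U := ⟨U, hU⟩) (by rwa [hU.fromSpec_primeIdealOf])] at hp
  intro a ha
  exact (IsLocalization.AtPrime.to_map_mem_maximal_iff (X.presheaf.stalk x) (hU.primeIdealOf ⟨x, hx⟩).asIdeal a).2
    ((Set.ext_iff.1 (hU.fromSpec_preimage_zeroLocus (I.ideal ⟨U, hU⟩ : Set Γ(X, U))) _).1 hp ha)

/-- At a generic point of an intersection the intersection of the local rings is zero-dimensional. -/
theorem supportDim_quot_sup_le_zero {x : X} (I J : X.IdealSheafData)
    (hmax : ∀ x' : X, x' ∈ I.support → x' ∈ J.support → x' ⤳ x → x' = x) :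
    Module.supportDim (X.presheaf.stalk x)
      (↑(X.presheaf.stalk x) ⧸ (IntMult.stalkIdeal I x ⊔ IntMult.stalkIdeal J x)) ≤ 0 := by
  obtain ⟨U, hU, hx, -⟩ := exists_isAffineOpen_mem_and_subset (x := x) (U := ⊤) trivial
  letI := X.presheaf.algebra_section_stalk ⟨x, hx⟩
  haveI := hU.isLocalization_stalk ⟨x, hx⟩
  have hsub : ∀ q ∈ Module.support (X.presheaf.stalk x)
      (↑(X.presheaf.stalk x) ⧸ (IntMult.stalkIdeal I x ⊔ IntMult.stalkIdeal J x)),
      q = IsLocalRing.closedPoint (X.presheaf.stalk x) := by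
    intro q hq
    rw [Module.support_eq_zeroLocus, Ideal.annihilator_quotient, PrimeSpectrum.mem_zeroLocus,
      SetLike.coe_subset_coe, sup_le_iff] at hq
    have he := hmax _ ((mem_support_iff_le hU hx I q).2 hq.1) ((mem_support_iff_le hU hx J q).2 hq.2)
      (exists_point hU hx q)
    have hp : PrimeSpectrum.comap (algebraMap Γ(X, U) (X.presheaf.stalk x)) q = hU.primeIdealOf ⟨x, hx⟩ :=
      hU.fromSpec.isOpenEmbedding.injective (he.trans (hU.fromSpec_primeIdealOf ⟨x, hx⟩).symm)
    refine PrimeSpectrum.ext ((IsLocalRing.le_maximalIdeal q.2.ne_top).antisymm ?_)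
    show IsLocalRing.maximalIdeal _ ≤ q.asIdeal
    rw [← IsLocalization.AtPrime.map_eq_maximalIdeal (hU.primeIdealOf ⟨x, hx⟩).asIdeal (X.presheaf.stalk x),
      ← hp]
    exact Ideal.map_comap_le
  haveI : Subsingleton (Module.support (X.presheaf.stalk x)
      (↑(X.presheaf.stalk x) ⧸ (IntMult.stalkIdeal I x ⊔ IntMult.stalkIdeal J x))) :=
    ⟨fun a b => Subtype.ext ((hsub a a.2).trans (hsub b b.2).symm)⟩
  exact Order.krullDim_nonpos_of_subsingleton

section Dim

variable {k : Type u} [Field k] (f : X ⟶ Spec (CommRingCat.of k)) [LocallyOfFiniteType f]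

include f in
/-- A point of the support specializing to `x` bounds the dimension of the quotient from below. -/
theorem deg_le_deg_add_supportDim {x η : X} (h : η ⤳ x) {I : X.IdealSheafData} (hη : η ∈ I.support) :
    ((VarDim.deg f η : ℕ∞) : WithBot ℕ∞) ≤ ((VarDim.deg f x : ℕ∞) : WithBot ℕ∞) +
      Module.supportDim (X.presheaf.stalk x) (↑(X.presheaf.stalk x) ⧸ IntMult.stalkIdeal I x) := by
  obtain ⟨U, hU, hx, -⟩ := exists_isAffineOpen_mem_and_subset (x := x) (U := ⊤) trivial
  obtain ⟨_, hft⟩ := VarDim.exists_algebra f hU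
  letI := X.presheaf.algebra_section_stalk ⟨x, hx⟩
  haveI := hU.isLocalization_stalk ⟨x, hx⟩
  set p := hU.primeIdealOf ⟨x, hx⟩ with hpdef
  obtain ⟨q, hq⟩ := VarDim.exists_fromSpec_eq hU (h.mem_open U.2 hx)
  have hqp : q ≤ p := (VarDim.fromSpec_specializes_iff hU q p).1 (by
    rw [hq, hpdef, hU.fromSpec_primeIdealOf]; exact h)
  have key : ∀ m : ℕ, ∀ (q : PrimeSpectrum Γ(X, U)), q ≤ p → coheight q = coheight p + m →
      ∀ (Q : PrimeSpectrum (X.presheaf.stalk x)), PrimeSpectrum.comap (algebraMap Γ(X, U) _) Q = q →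
      (m : ℕ∞) ≤ coheight Q := by
    intro m
    induction m with
    | zero => intros; simp
    | succ m ih =>
      intro q hqp hm Q hQ
      have hlt : q < p := lt_of_le_of_ne hqp fun e => by
        rw [e] at hm
        obtain ⟨c, hc⟩ := ENat.ne_top_iff_exists.1 (VarDim.coheight_ne_top k p)
        rw [← hc] at hm
        norm_cast at hm
        omega
      obtain ⟨r, hqr, hrp⟩ := VarDim.exists_covBy k hlt
      have hd : Disjoint (p.asIdeal.primeCompl : Set Γ(X, U)) r.asIdeal :=
        Set.disjoint_left.2 fun a ha har => ha (hrp har)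
      let R' : PrimeSpectrum (X.presheaf.stalk x) :=
        ⟨r.asIdeal.map (algebraMap Γ(X, U) _),
          IsLocalization.isPrime_of_isPrime_disjoint p.asIdeal.primeCompl _ r.asIdeal r.2 hd⟩
      have hR : PrimeSpectrum.comap (algebraMap Γ(X, U) _) R' = r :=
        PrimeSpectrum.ext (IsLocalization.under_map_of_isPrime_disjoint p.asIdeal.primeCompl _ r.2 hd)
      have hc : coheight r = coheight p + m := by
        have h1 := VarDim.coheight_of_covBy k hqr
        rw [hm, Nat.cast_succ, ← add_assoc] at h1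
        exact (WithTop.add_right_inj (by simp : (1 : ℕ∞) ≠ ⊤)).1 h1.symm
      have hQR : Q < R' := by
        refine lt_of_le_of_ne ?_ fun e => hqr.lt.ne (by rw [← hQ, e, hR])
        intro a ha
        have hmc := IsLocalization.map_under p.asIdeal.primeCompl (X.presheaf.stalk x) Q.asIdeal
        rw [← hmc] at ha
        exact Ideal.map_mono (show (Q.asIdeal.comap (algebraMap Γ(X, U) _)) ≤ r.asIdeal by
          rw [show Q.asIdeal.comap (algebraMap Γ(X, U) _) = q.asIdeal from congrArg PrimeSpectrum.asIdeal hQ]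
          exact hqr.le) ha
      rw [Nat.cast_succ]
      exact le_trans (add_le_add_left (ih r hrp hc R' hR) 1) (coheight_add_one_le hQR)
  have hd : Disjoint (p.asIdeal.primeCompl : Set Γ(X, U)) q.asIdeal :=
    Set.disjoint_left.2 fun a ha haq => ha (hqp haq)
  let Q : PrimeSpectrum (X.presheaf.stalk x) :=
    ⟨q.asIdeal.map (algebraMap Γ(X, U) _),
      IsLocalization.isPrime_of_isPrime_disjoint p.asIdeal.primeCompl _ q.asIdeal q.2 hd⟩
  have hQ : PrimeSpectrum.comap (algebraMap Γ(X, U) _) Q = q :=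
    PrimeSpectrum.ext (IsLocalization.under_map_of_isPrime_disjoint p.asIdeal.primeCompl _ q.2 hd)
  have hIQ : IntMult.stalkIdeal I x ≤ Q.asIdeal := (mem_support_iff_le hU hx I Q).1 (by
    rw [show PrimeSpectrum.comap (X.presheaf.germ U x hx).hom Q = q from hQ, hq]; exact hη)
  have h1 := VarDim.deg_eq_coheight f hU q
  rw [hq] at h1
  have h2 := VarDim.deg_eq_coheight f hU p
  rw [hpdef, hU.fromSpec_primeIdealOf, ← hpdef] at h2
  have hle : VarDim.deg f x ≤ VarDim.deg f η := VarDim.deg_le_of_specializes f h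
  have hm := key (VarDim.deg f η - VarDim.deg f x) q hqp (by rw [h1, h2, ← Nat.cast_add, Nat.add_sub_cancel' hle]) Q hQ
  have h3 : Module.supportDim (X.presheaf.stalk x) (↑(X.presheaf.stalk x) ⧸ Q.asIdeal) ≤
      Module.supportDim (X.presheaf.stalk x) (↑(X.presheaf.stalk x) ⧸ IntMult.stalkIdeal I x) :=
    Module.supportDim_le_of_surjective (Submodule.factor hIQ) (Submodule.factor_surjective hIQ)
  rw [Module.supportDim_quotient_eq_ringKrullDim, ← VarDim.coheight_eq_ringKrullDim_quotient] at h3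
  refine le_trans ?_ (add_le_add le_rfl h3)
  rw [← WithBot.coe_add, WithBot.coe_le_coe]
  refine le_trans ?_ (add_le_add le_rfl hm)
  rw [← Nat.cast_add, Nat.add_sub_cancel' hle]

include f in
/-- The dimension of the local ring of a variety at a point. -/
theorem ringKrullDim_stalk [IrreducibleSpace X] (x : X) {n : ℕ} (hn : topologicalKrullDim X = n) :
    ∃ b : ℕ, ringKrullDim (X.presheaf.stalk x) = b ∧ n = VarDim.deg f x + b := by
  obtain ⟨b, hb, ⟨η, hη, hηb⟩, hle⟩ := VarDim.exists_deg_add_stalk f x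
  have h1 := hle _ (genericPoint_specializes x)
  have h2 := VarDim.deg_le_of_specializes f (genericPoint_specializes η)
  rw [VarDim.topologicalKrullDim_eq_deg_genericPoint f] at hn
  have h3 : VarDim.deg f (genericPoint X) = n := by exact_mod_cast hn
  exact ⟨b, hb, by omega⟩

include f in
/-- The generic point of an integral subscheme. -/
theorem exists_generic (I : X.IdealSheafData) [IsIntegral I.subscheme] {r : ℕ}
    (hr : topologicalKrullDim I.support = r) :
    ∃ η ∈ I.support, (∀ y ∈ I.support, η ⤳ y) ∧ VarDim.deg f η = r := by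
  have hrange := Scheme.IdealSheafData.range_subschemeι I
  refine ⟨I.subschemeι (genericPoint I.subscheme), ?_, ?_, ?_⟩
  · rw [← SetLike.mem_coe, ← hrange]; exact Set.mem_range_self _
  · intro y hy
    rw [← SetLike.mem_coe, ← hrange] at hy
    obtain ⟨z, rfl⟩ := hy
    exact (genericPoint_specializes z).map I.subschemeι.continuous
  · have hcl : closure {I.subschemeι (genericPoint I.subscheme)} = (I.support : Set X) := by
      refine subset_antisymm (closure_minimal ?_ I.support.isClosed) ?_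
      · rw [Set.singleton_subset_iff, ← hrange]; exact Set.mem_range_self _
      · rw [← hrange]
        rintro _ ⟨z, rfl⟩
        exact specializes_iff_mem_closure.1 ((genericPoint_specializes z).map I.subschemeι.continuous)
    have h := VarDim.topologicalKrullDim_closure_singleton f (I.subschemeι (genericPoint I.subscheme))
    rw [hcl] at h
    exact_mod_cast h.symm.trans hr

end Dim

/-- The stalk of the ideal sheaf of an integral subscheme is prime. -/
theorem isPrime_stalkIdeal (I : X.IdealSheafData) [IsIntegral I.subscheme] {x : X} (hx : x ∈ I.support) :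
    (IntMult.stalkIdeal I x).IsPrime := by
  obtain ⟨U, hU, hxU, -⟩ := exists_isAffineOpen_mem_and_subset (x := x) (U := ⊤) trivial
  letI := X.presheaf.algebra_section_stalk ⟨x, hxU⟩
  haveI := hU.isLocalization_stalk ⟨x, hxU⟩
  rw [stalkIdeal_eq I ⟨U, hU⟩ hxU]
  haveI : Nonempty ((I.subschemeι ⁻¹ᵁ U).toScheme) := by
    have h : x ∈ Set.range I.subschemeι := by rw [I.range_subschemeι]; exact hx
    obtain ⟨z, rfl⟩ := h
    exact ⟨⟨z, hxU⟩⟩
  haveI : IsDomain (Γ(X, U) ⧸ I.ideal ⟨U, hU⟩) :=
    @MulEquiv.isDomain (Γ(X, U) ⧸ I.ideal ⟨U, hU⟩) Γ(I.subscheme, I.subschemeι ⁻¹ᵁ U) _ _ inferInstance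
      (I.subschemeObjIso ⟨U, hU⟩).commRingCatIsoToRingEquiv.symm.toMulEquiv
  have hP : (I.ideal ⟨U, hU⟩).IsPrime := (Ideal.Quotient.isDomain_iff_prime _).1 inferInstance
  refine IsLocalization.isPrime_of_isPrime_disjoint (hU.primeIdealOf ⟨x, hxU⟩).asIdeal.primeCompl _ _ hP
    (Set.disjoint_left.2 fun a ha hI => ha ?_)
  have hp : hU.fromSpec (hU.primeIdealOf ⟨x, hxU⟩) ∈ I.support := by rwa [hU.fromSpec_primeIdealOf]
  rw [I.mem_support_iff_of_mem (U := ⟨U, hU⟩) (by rwa [hU.fromSpec_primeIdealOf])] at hp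
  exact (Set.ext_iff.1 (hU.fromSpec_preimage_zeroLocus (I.ideal ⟨U, hU⟩ : Set Γ(X, U))) _).1 hp hI

end Groth.Agent.IntMult63
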