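import Groth.Agent.IntMult63.ChiAdd
import Groth.Agent.IntMult63.Stalk
import Groth.Agent.IntMult63.Positive
import Groth.Agent.QCoh.LocFree
import Groth.Agent.DevK.Closure
import Groth.Agent.H23.CapSheaf
import Groth.Agent.GrpSchLib.SmoothRegular
import Groth.Prelude.Def_Cyc

/-! The intersection product of the cycles of two sheaves through stalks. -/

set_option autoImplicit false
set_option linter.style.haveILetI false
set_option linter.unusedSectionVars false
set_option backward.isDefEq.respectTransparency false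
set_option backward.isDefEq.respectTransparency.types false

universe u

open CategoryTheory AlgebraicGeometry IsLocalRing
open scoped Classical

namespace Groth.Agent.IntMult63

open Groth.Agent CDiv6 H23.StalkPrimes

variable {X : Scheme.{u}}

theorem stalkIdeal_ptIdeal {x ξ : X} (h : ξ ⤳ x) :
    IntMult.stalkIdeal (IntMult.ptIdeal ξ) x = (primeOf h).asIdeal := by
  obtain ⟨U, hU, hx, -⟩ := exists_isAffineOpen_mem_and_subset (x := x) (U := ⊤) trivial
  letI := X.presheaf.algebra_section_stalk ⟨x, hx⟩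
  haveI := hU.isLocalization_stalk ⟨x, hx⟩
  rw [stalkIdeal_eq _ ⟨U, hU⟩ hx]
  have hξ : ξ ∈ U := h.mem_open U.2 hx
  have : (IntMult.ptIdeal ξ).ideal ⟨U, hU⟩ = (primeOf h).asIdeal.comap (algebraMap Γ(X, U) (X.presheaf.stalk x)) := by
    ext a
    rw [DevK.mem_ptIdeal ξ (W := ⟨U, hU⟩) hξ a, Ideal.mem_comap, mem_primeOf, X.mem_basicOpen _ ξ hξ]
    refine not_congr (Eq.to_iff (congrArg IsUnit ?_))
    exact (TopCat.Presheaf.germ_stalkSpecializes_apply _ _ _ _).symm
  rw [this]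
  exact IsLocalization.map_under (hU.primeIdealOf ⟨x, hx⟩).asIdeal.primeCompl _ _

theorem primeOf_refl (x : X) (h : x ⤳ x) : primeOf h = closedPoint (X.presheaf.stalk x) := by
  refine PrimeSpectrum.ext (Ideal.ext fun g => ?_)
  rw [mem_primeOf, TopCat.Presheaf.stalkSpecializes_refl]
  exact (mem_maximalIdeal g).symm

section Dim

variable [IsLocallyNoetherian X] {δ : X → ℤ} (hd : Cyc.IsDimFun X δ)

include hd in
theorem dim_quot_primeOf {x ξ : X} (h : ξ ⤳ x) :
    ringKrullDim (X.presheaf.stalk x ⧸ (primeOf h).asIdeal) = ((δ ξ - δ x).toNat : WithBot ℕ∞) := by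
  rw [← ringKrullDim_eq_of_ringEquiv (Ideal.quotEquivOfEq (CycLib.ker_specMap h))]
  refine (CycLib.ringKrullDim_locQuot h).trans ?_
  rw [← CycLib.cd_eq hd h, Int.toNat_natCast]

variable {F : X.Modules} (hF : Coh.IsCoh F)

include hF

omit hd in
theorem finite_stalk (x : X) : Module.Finite (X.presheaf.stalk x) (F.presheaf.stalk x) :=
  QCoh.finite_stalk_of_isFT hF.1 (QCoh.isFT_of_isFP (QCoh.isCoh_iff_isFP.1 hF)) x

omit hd in
theorem mem_support_primeOf {x ξ : X} (h : ξ ⤳ x) :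
    primeOf h ∈ Module.support (X.presheaf.stalk x) (F.presheaf.stalk x) ↔ Nontrivial (F.presheaf.stalk ξ) := by
  rw [Module.mem_support_iff, ← not_subsingleton_iff_nontrivial, ← not_subsingleton_iff_nontrivial, not_iff_not,
    ← Module.length_eq_zero_iff (R := Localization.AtPrime (primeOf h).asIdeal),
    H23.CapSheaf.length_stalk_eq hF.1 h, Module.length_eq_zero_iff]

omit hd in
theorem nontrivial_of_specializes {x ξ : X} (h : ξ ⤳ x) (hn : Nontrivial (F.presheaf.stalk ξ)) :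
    Nontrivial (F.presheaf.stalk x) := by
  by_contra hc
  haveI := not_nontrivial_iff_subsingleton.1 hc
  have := (mem_support_primeOf hF h).2 hn
  rw [Module.support_eq_empty_iff.2 ‹_›] at this
  exact this

include hd in
theorem supportDim_stalk_le {r : ℤ} {x : X} (hr : ∀ y : X, y ⤳ x → Nontrivial (F.presheaf.stalk y) → δ y ≤ r) :
    Module.supportDim (X.presheaf.stalk x) (F.presheaf.stalk x) ≤ ((r - δ x).toNat : WithBot ℕ∞) := by
  refine iSup_le fun l => ?_
  obtain ⟨ξ, h, hξ⟩ := H23.StalkPrimes.exists_point l.head.1.asIdeal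
  have he : l.head.1 = primeOf h := PrimeSpectrum.ext hξ.symm
  have hn : Nontrivial (F.presheaf.stalk ξ) := (mem_support_primeOf hF h).1 (he ▸ l.head.2)
  have key : (l.length : WithBot ℕ∞) ≤ ringKrullDim (X.presheaf.stalk x ⧸ l.head.1.asIdeal) := by
    rw [ringKrullDim_quotient]
    exact le_iSup (fun c : LTSeries (PrimeSpectrum.zeroLocus (R := X.presheaf.stalk x) l.head.1.asIdeal) =>
      (c.length : WithBot ℕ∞))
      { length := l.length
        toFun := fun i => ⟨(l i).1, (PrimeSpectrum.mem_zeroLocus _ _).2 (l.head_le i)⟩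
        step := fun i => l.step i }
  rw [he, dim_quot_primeOf hd h] at key
  exact key.trans (Nat.cast_le.2 (by have := hr ξ h hn; omega))

omit hd in
theorem cAt_primeOf {x ξ : X} [IsRegularLocalRing (X.presheaf.stalk x)] (h : ξ ⤳ x) :
    cAt (primeOf h) (F.presheaf.stalk x) =
      ((Module.length (X.presheaf.stalk ξ) (F.presheaf.stalk ξ)).toNat : ℤ) := by
  rw [cAt, H23.CapSheaf.length_stalk_eq hF.1 h]

omit hd in
theorem sheafFun_ne_zero {r : ℤ} {ξ : X} (h : Cyc.sheafFun δ r F ξ ≠ 0) :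
    δ ξ = r ∧ Nontrivial (F.presheaf.stalk ξ) := by
  unfold Cyc.sheafFun at h
  split_ifs at h with h1
  · refine ⟨h1, ?_⟩
    by_contra hc
    haveI := not_nontrivial_iff_subsingleton.1 hc
    simp [Module.length_eq_zero] at h
  · exact absurd rfl h

end Dim

theorem chi_eq_zero_of_subsingleton {A : Type u} [CommRing A] [IsRegularLocalRing A] (M N : Type u) [AddCommGroup M]
    [Module A M] [AddCommGroup N] [Module A N] (h : Subsingleton M ∨ Subsingleton N) : IntMult.chi A M N = 0 := by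
  refine finsum_eq_zero_of_forall_eq_zero fun i => ?_
  have hs : ∀ t : DRing.Tor A i M N, (1 : A) • t = 0 → t = 0 := fun t ht => (one_smul A t).symm.trans ht
  haveI : Subsingleton (DRing.Tor A i M N) := subsingleton_of_forall_eq 0 fun t => hs t (by
    rcases h with h | h
    · exact tor_killed M N (fun _ => Subsingleton.elim _ _) i t
    · exact tor_killed' M N (fun _ => Subsingleton.elim _ _) i t)
  simp [Module.length_eq_zero]

theorem finite_cAt {A : Type u} [CommRing A] [IsRegularLocalRing A] (M : Type u) [AddCommGroup M] [Module A M]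
    [Module.Finite A M] {p : ℕ} (hM : Module.supportDim A M ≤ p) :
    (Function.support fun P : {P : PrimeSpectrum A // ringKrullDim (A ⧸ P.asIdeal) = p} => cAt P.1 M).Finite :=
  (chi_lin' (N := PUnit.{u + 1}) (fun _ _ _ => chi_eq_zero_of_subsingleton _ _ (Or.inr inferInstance)) M hM
    fun P hP => by
      have := hP.2
      rw [Module.support_eq_empty_iff.2 inferInstance] at this
      exact this.elim).1

variable {K : Type u} [Field K] (f : X ⟶ Spec (CommRingCat.of K)) [Smooth f]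

include f in
theorem chi_zero_stalk (x : X) [IsRegularLocalRing (X.presheaf.stalk x)] (P Q : PrimeSpectrum (X.presheaf.stalk x))
    (hm : MeetPt (A := X.presheaf.stalk x) (X.presheaf.stalk x ⧸ P.asIdeal) (X.presheaf.stalk x ⧸ Q.asIdeal))
    (hdim : ringKrullDim (X.presheaf.stalk x ⧸ P.asIdeal) + ringKrullDim (X.presheaf.stalk x ⧸ Q.asIdeal) <
      ringKrullDim (X.presheaf.stalk x)) :
    IntMult.chi (X.presheaf.stalk x) (X.presheaf.stalk x ⧸ P.asIdeal) (X.presheaf.stalk x ⧸ Q.asIdeal) = 0 := by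
  obtain ⟨U, hU, hx, -⟩ := exists_isAffineOpen_mem_and_subset (x := x) (U := ⊤) trivial
  obtain ⟨_, hsm⟩ := exists_smooth_algebra f hU
  letI := X.presheaf.algebra_section_stalk ⟨x, hx⟩
  haveI := hU.isLocalization_stalk ⟨x, hx⟩
  refine chi_zero_smooth K Γ(X, U) ↑(X.presheaf.stalk x) (hU.primeIdealOf ⟨x, hx⟩).asIdeal
    (le_maximalIdeal P.2.ne_top) (le_maximalIdeal Q.2.ne_top) hdim ?_
  have hs : Module.support (X.presheaf.stalk x) (X.presheaf.stalk x ⧸ (P.asIdeal ⊔ Q.asIdeal)) ⊆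
      {closedPoint (X.presheaf.stalk x)} := fun R hR => by
    rw [Module.support_eq_zeroLocus, Ideal.annihilator_quotient, PrimeSpectrum.mem_zeroLocus,
      SetLike.coe_subset_coe, sup_le_iff] at hR
    refine hm ⟨?_, ?_⟩ <;> rw [Module.support_eq_zeroLocus, Ideal.annihilator_quotient, PrimeSpectrum.mem_zeroLocus]
    exacts [hR.1, hR.2]
  haveI : Subsingleton (Module.support (X.presheaf.stalk x) (X.presheaf.stalk x ⧸ (P.asIdeal ⊔ Q.asIdeal))) :=
    ⟨fun a b => Subtype.ext ((hs a.2).trans (hs b.2).symm)⟩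
  exact Order.krullDim_nonpos_of_subsingleton

variable [IsIntegral X] {δ : X → ℤ} (hd : Cyc.IsDimFun X δ) {n : ℤ} (hn : δ (genericPoint X) = n)
  {F G : X.Modules} (hF : Coh.IsCoh F) (hG : Coh.IsCoh G) {r s : ℤ}
  (hr : ∀ x : X, Nontrivial (F.presheaf.stalk x) → δ x ≤ r)
  (hs : ∀ x : X, Nontrivial (G.presheaf.stalk x) → δ x ≤ s)
  (hrs : ∀ x : X, Nontrivial (F.presheaf.stalk x) → Nontrivial (G.presheaf.stalk x) → δ x ≤ r + s - n)

include f hF hG hrs in
theorem intersectProperly : IntMult.IntersectProperly δ n (Cyc.sheafFun δ r F) (Cyc.sheafFun δ s G) := by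
  haveI := LocallyOfFiniteType.isLocallyNoetherian f
  intro ξ η ζ hξ hη h1 h2
  obtain ⟨e1, n1⟩ := sheafFun_ne_zero hF hξ
  obtain ⟨e2, n2⟩ := sheafFun_ne_zero hG hη
  rw [e1, e2]
  exact hrs ζ (nontrivial_of_specializes hF h1 n1) (nontrivial_of_specializes hG h2 n2)

include f hd hn hF hG in
omit hr hs hrs in
/-- The intersection product through stalks at one point. -/
theorem interProd_eq_chi {ζ : X} (hζ : δ ζ = r + s - n)
    (hr : ∀ x : X, x ⤳ ζ → Nontrivial (F.presheaf.stalk x) → δ x ≤ r)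
    (hs : ∀ x : X, x ⤳ ζ → Nontrivial (G.presheaf.stalk x) → δ x ≤ s)
    (hrs : ∀ x : X, x ⤳ ζ → Nontrivial (F.presheaf.stalk x) → Nontrivial (G.presheaf.stalk x) → δ x ≤ r + s - n) :
    IntMult.interProd δ n (Cyc.sheafFun δ r F) (Cyc.sheafFun δ s G) ζ =
      IntMult.chi ↑(X.presheaf.stalk ζ) ↑(F.presheaf.stalk ζ) ↑(G.presheaf.stalk ζ) := by
  haveI := LocallyOfFiniteType.isLocallyNoetherian f
  haveI := GrpSchLib.isRegularLocalRing_stalk_of_smooth f ζ
  haveI := finite_stalk hF ζ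
  haveI := finite_stalk hG ζ
  unfold IntMult.interProd
  by_cases hnt : Nontrivial (F.presheaf.stalk ζ) ∧ Nontrivial (G.presheaf.stalk ζ)
  swap
  · rw [chi_eq_zero_of_subsingleton _ _ ((not_and_or.1 hnt).imp not_nontrivial_iff_subsingleton.1
      not_nontrivial_iff_subsingleton.1)]
    refine finsum_eq_zero_of_forall_eq_zero fun p => ?_
    by_contra h0
    exact hnt ⟨nontrivial_of_specializes hF p.2.1 (sheafFun_ne_zero hF (left_ne_zero_of_mul (left_ne_zero_of_mul h0))).2,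
      nontrivial_of_specializes hG p.2.2.1 (sheafFun_ne_zero hG (right_ne_zero_of_mul (left_ne_zero_of_mul h0))).2⟩
  obtain ⟨hF0, hG0⟩ := hnt
  have hp0 := hr ζ (specializes_refl ζ) hF0
  have hq0 := hs ζ (specializes_refl ζ) hG0
  have hdn : δ ζ ≤ n := by
    by_cases h : genericPoint X = ζ
    · exact (hn ▸ h ▸ le_rfl)
    · exact hn ▸ (hd _ _ ((genericPoint_spec X).specializes (Set.mem_univ ζ)) h).1.le
  let p : ℕ := (r - δ ζ).toNat
  let q : ℕ := (s - δ ζ).toNat
  have hpq : ((p + q : ℕ) : WithBot ℕ∞) = ringKrullDim (X.presheaf.stalk ζ) := by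
    rw [CycLib.ringKrullDim_stalk_eq hd ζ, hn, Nat.cast_inj]
    omega
  have hM := supportDim_stalk_le hd hF hr
  have hN := supportDim_stalk_le hd hG hs
  have hmeet : MeetPt (A := X.presheaf.stalk ζ) (F.presheaf.stalk ζ) (G.presheaf.stalk ζ) := fun P hP => by
    obtain ⟨ξ, h, he⟩ := H23.StalkPrimes.exists_point P.asIdeal
    have he' : P = primeOf h := PrimeSpectrum.ext he.symm
    subst he'
    have hle := hrs ξ h ((mem_support_primeOf hF h).1 hP.1) ((mem_support_primeOf hG h).1 hP.2)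
    by_cases hξ : ξ = ζ
    · subst hξ
      exact primeOf_refl ξ h
    · exact absurd (hd ξ ζ h hξ).1 (by omega)
  rw [chi_eq_sum_primes (chi_zero_stalk f ζ) hpq _ _ hM hN hmeet]
  let S1 := {P : PrimeSpectrum (X.presheaf.stalk ζ) // ringKrullDim (X.presheaf.stalk ζ ⧸ P.asIdeal) = p}
  let S2 := {Q : PrimeSpectrum (X.presheaf.stalk ζ) // ringKrullDim (X.presheaf.stalk ζ ⧸ Q.asIdeal) = q}
  let t : S1 × S2 → ℤ := fun PQ => cAt PQ.1.1 (F.presheaf.stalk ζ) * (cAt PQ.2.1 (G.presheaf.stalk ζ) *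
    IntMult.chi (X.presheaf.stalk ζ) (X.presheaf.stalk ζ ⧸ PQ.1.1.asIdeal) (X.presheaf.stalk ζ ⧸ PQ.2.1.asIdeal))
  have hfin : (Function.support t).Finite :=
    ((finite_cAt _ hM).prod (finite_cAt _ hN)).subset fun PQ h =>
      ⟨left_ne_zero_of_mul h, left_ne_zero_of_mul (right_ne_zero_of_mul h)⟩
  have hmul : ∀ P : S1, ∑ᶠ Q : S2, t (P, Q) = cAt P.1 (F.presheaf.stalk ζ) *
      ∑ᶠ Q : S2, cAt Q.1 (G.presheaf.stalk ζ) *
        IntMult.chi (X.presheaf.stalk ζ) (X.presheaf.stalk ζ ⧸ P.1.asIdeal) (X.presheaf.stalk ζ ⧸ Q.1.asIdeal) := by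
    intro P
    rw [mul_finsum']
    exact (finite_cAt _ hN).subset fun Q h => left_ne_zero_of_mul h
  refine Eq.trans ?_ ((finsum_curry t hfin).trans (finsum_congr hmul))
  choose pt hpt hptP using fun P : PrimeSpectrum (X.presheaf.stalk ζ) => H23.StalkPrimes.exists_point P.asIdeal
  have hpr : ∀ P, primeOf (hpt P) = P := fun P => PrimeSpectrum.ext (hptP P)
  have hdim : ∀ {ξ : X} (h : ξ ⤳ ζ) {m : ℕ},
      ringKrullDim (X.presheaf.stalk ζ ⧸ (primeOf h).asIdeal) = m ↔ δ ξ = δ ζ + m := fun {ξ} h {m} => by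
    have hge : δ ζ ≤ δ ξ := by
      by_cases hh : ξ = ζ
      · exact hh ▸ le_rfl
      · exact (hd ξ ζ h hh).1.le
    rw [dim_quot_primeOf hd h, Nat.cast_inj]
    omega
  have hd1 : ∀ P : S1, δ (pt P.1) = r := fun P => by
    have := (hdim (hpt P.1)).1 (by rw [hpr]; exact P.2)
    omega
  have hd2 : ∀ Q : S2, δ (pt Q.1) = s := fun Q => by
    have := (hdim (hpt Q.1)).1 (by rw [hpr]; exact Q.2)
    omega
  let i : S1 × S2 → {p : X × X // p.1 ⤳ ζ ∧ p.2 ⤳ ζ ∧ δ p.1 + δ p.2 - n = δ ζ} := fun PQ =>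
    ⟨(pt PQ.1.1, pt PQ.2.1), hpt _, hpt _, by rw [hd1, hd2]; omega⟩
  have hi : Function.Injective i := fun a b hab => by
    have h := congrArg Subtype.val hab
    simp only [i, Prod.mk.injEq] at h
    refine Prod.ext (Subtype.ext ?_) (Subtype.ext ?_)
    · exact PrimeSpectrum.ext (by rw [← hptP a.1.1, ← hptP b.1.1]; congr 2; exact h.1)
    · exact PrimeSpectrum.ext (by rw [← hptP a.2.1, ← hptP b.2.1]; congr 2; exact h.2)
  have key : ∀ PQ, t PQ = Cyc.sheafFun δ r F (i PQ).1.1 * Cyc.sheafFun δ s G (i PQ).1.2 *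
      IntMult.mult (IntMult.ptIdeal (i PQ).1.1) (IntMult.ptIdeal (i PQ).1.2) ζ := fun PQ => by
    simp only [i, Cyc.sheafFun, IntMult.mult]
    rw [if_pos (hd1 PQ.1), if_pos (hd2 PQ.2), stalkIdeal_ptIdeal (hpt _), stalkIdeal_ptIdeal (hpt _),
      ← cAt_primeOf hF (hpt PQ.1.1), ← cAt_primeOf hG (hpt PQ.2.1), hpr, hpr, chi_comm]
    ring
  rw [finsum_congr key, ← finsum_mem_range (f := fun p => Cyc.sheafFun δ r F p.1.1 * Cyc.sheafFun δ s G p.1.2 *
    IntMult.mult (IntMult.ptIdeal p.1.1) (IntMult.ptIdeal p.1.2) ζ) hi, ← finsum_mem_univ]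
  refine finsum_mem_inter_support_eq' _ _ _ fun x hx => ⟨fun _ => ?_, fun _ => Set.mem_univ _⟩
  obtain ⟨e1, -⟩ := sheafFun_ne_zero hF (left_ne_zero_of_mul (left_ne_zero_of_mul hx))
  obtain ⟨e2, -⟩ := sheafFun_ne_zero hG (right_ne_zero_of_mul (left_ne_zero_of_mul hx))
  obtain ⟨⟨ξ, η⟩, h1, h2, h3⟩ := x
  have f1 : δ ξ = r := e1
  have f2 : δ η = s := e2
  have f3 : δ ξ + δ η - n = δ ζ := h3
  clear e1 e2
  refine ⟨(⟨primeOf h1, (hdim (ξ := ξ) h1).2 (by omega)⟩, ⟨primeOf h2, (hdim (ξ := η) h2).2 (by omega)⟩), ?_⟩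
  refine Subtype.ext (Prod.ext ?_ ?_)
  · exact primeOf_inj (hpt _) h1 (hptP _)
  · exact primeOf_inj (hpt _) h2 (hptP _)

include f hd hn hF hG hr hs hrs in
theorem interProd_eq (ζ : X) :
    IntMult.interProd δ n (Cyc.sheafFun δ r F) (Cyc.sheafFun δ s G) ζ =
      if δ ζ = r + s - n then IntMult.chi ↑(X.presheaf.stalk ζ) ↑(F.presheaf.stalk ζ) ↑(G.presheaf.stalk ζ) else 0 := by
  haveI := LocallyOfFiniteType.isLocallyNoetherian f
  by_cases hζ : δ ζ = r + s - n
  swap
  · rw [if_neg hζ]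
    unfold IntMult.interProd
    refine finsum_eq_zero_of_forall_eq_zero fun p => ?_
    by_contra h0
    obtain ⟨e1, -⟩ := sheafFun_ne_zero hF (left_ne_zero_of_mul (left_ne_zero_of_mul h0))
    obtain ⟨e2, -⟩ := sheafFun_ne_zero hG (right_ne_zero_of_mul (left_ne_zero_of_mul h0))
    have := p.2.2.2
    omega
  rw [if_pos hζ]
  exact interProd_eq_chi f hd hn hF hG hζ (fun x _ => hr x) (fun x _ => hs x) (fun x _ => hrs x)

end Groth.Agent.IntMult63
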