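import Groth.Agent.IntMult63.PushChi
import Groth.Agent.IntMult63.DiagProd

/-! The projection formula for intersection products. -/

set_option autoImplicit false
set_option linter.style.haveILetI false
set_option linter.unusedSectionVars false
set_option backward.isDefEq.respectTransparency false
set_option backward.isDefEq.respectTransparency.types false

universe u

open CategoryTheory CategoryTheory.Limits AlgebraicGeometry IsLocalRing TopologicalSpace
open scoped Classical TensorProduct

namespace Groth.Agent.IntMult63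

open Groth.Agent CDiv6 H23.StalkPrimes

variable {X Y : Scheme.{u}} (f : X ⟶ Y)

theorem chi_point [Flat f] [LocallyOfFiniteType f] {W : Scheme.{u}} (ι : W ⟶ X) [IsClosedImmersion ι] {y : Y}
    (w : {w : W // (ι ≫ f) w = y}) (hfin : (f.residueFieldMap (ι w.1)).hom.Finite) (G : Y.Modules) :
    (letI := algPt (ι ≫ f) w; IntMult.chi (Y.presheaf.stalk y) (W.presheaf.stalk w.1) (G.presheaf.stalk y)) =
      IntMult.chi (X.presheaf.stalk (ι w.1)) ((pushO ι).presheaf.stalk (ι w.1))
          (((Scheme.Modules.pullback f).obj G).presheaf.stalk (ι w.1)) * (f.residueDegree (ι w.1) : ℤ) := by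
  obtain ⟨w, rfl⟩ := w
  set x := ι w
  obtain ⟨eF⟩ := H23.SpClosed.nonempty_quotEquiv ι w
  have hflat : (f.stalkMap x).hom.Flat := Flat.stalkMap f x
  algebraize [(f.stalkMap x).hom]
  haveI : IsLocalHom (algebraMap (Y.presheaf.stalk (f x)) (X.presheaf.stalk x)) :=
    inferInstanceAs <| IsLocalHom (f.stalkMap x).hom
  haveI : Module.Finite (ResidueField (Y.presheaf.stalk (f x))) (ResidueField (X.presheaf.stalk x)) :=
    RingHom.finite_algebraMap.1 (by exact hfin)
  letI : Algebra (X.presheaf.stalk x) (W.presheaf.stalk w) := (ι.stalkMap w).hom.toAlgebra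
  letI : Algebra (Y.presheaf.stalk (f x)) (W.presheaf.stalk w) := algPt (ι ≫ f) ⟨w, rfl⟩
  haveI : IsScalarTower (Y.presheaf.stalk (f x)) (X.presheaf.stalk x) (W.presheaf.stalk w) :=
    IsScalarTower.of_algebraMap_eq fun a => by
      show (Y.presheaf.stalkSpecializes _ ≫ (ι ≫ f).stalkMap w).hom a = (ι.stalkMap w).hom ((f.stalkMap x).hom a)
      rw [TopCat.Presheaf.stalkSpecializes_refl]
      show ((ι ≫ f).stalkMap w).hom a = _
      rw [Scheme.Hom.stalkMap_comp]
      rfl
  have key := chi_restrict (Y.presheaf.stalk (f x)) (X.presheaf.stalk x) (W.presheaf.stalk w)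
    ((DerSch.stalkFunctor Y (f x)).obj G)
  refine key.trans ?_
  have hd : Module.finrank (ResidueField (Y.presheaf.stalk (f x))) (ResidueField (X.presheaf.stalk x)) =
      f.residueDegree x := by
    letI ak : Algebra (Y.residueField (f x)) (X.residueField x) := (f.residueFieldMap x).hom.toAlgebra
    refine Algebra.finrank_eq_of_equiv_equiv (RingEquiv.refl _) (RingEquiv.refl _) (RingHom.ext fun a => ?_)
    obtain ⟨a, rfl⟩ := Ideal.Quotient.mk_surjective a
    rfl
  rw [hd]
  refine congrArg (· * (f.residueDegree x : ℤ)) ?_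
  let eW : (X.presheaf.stalk x ⧸ RingHom.ker (ι.stalkMap w).hom) ≃ₗ[X.presheaf.stalk x] W.presheaf.stalk w :=
    (LinearMap.quotKerEquivOfSurjective (Algebra.linearMap (X.presheaf.stalk x) (W.presheaf.stalk w))
      (ι.stalkMap_surjective w))
  let eG := ((KFlatLib.stalkPullbackIso f x).app G).toLinearEquiv
  exact ((chi_congr' (eF.trans eW).symm).trans (chi_comm _ _ _)).trans ((chi_congr' eG.symm).trans (chi_comm _ _ _))

theorem finite_antichain_fibre {W Y : Scheme.{u}} (g : W ⟶ Y) [LocallyOfFiniteType g] [QuasiCompact g] (y : Y)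
    (h : ∀ x z, g x = y → g z = y → z ⤳ x → z = x) : (g ⁻¹' {y}).Finite := by
  haveI := DimFormula.isLocallyNoetherian_fiber g y
  haveI : CompactSpace ↥(g ⁻¹' {y}) := isCompact_iff_compactSpace.1 (g.isCompact_preimage_singleton y)
  haveI : CompactSpace ↥(g.fiber y) := (g.fiberHomeo y).symm.compactSpace
  haveI : IsNoetherian (g.fiber y) := ⟨⟩
  have hfib : Finite ↥(g.fiber y) := CycLib.finite_of_forall_maximal fun a b hab =>
    (g.fiberι y).isEmbedding.injective (h _ _ (FibDim.fiber_apply_fiberι g a) (FibDim.fiber_apply_fiberι g b)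
      (hab.map (g.fiberι y).continuous))
  exact Set.finite_coe_iff.1 ((g.fiberHomeo y).finite_iff.1 hfib)

theorem finite_cycle_preimage [QuasiCompact f] (α : AlgebraicCycle X ℤ) (y : Y) :
    {ξ : X | f ξ ⤳ y ∧ α ξ ≠ 0}.Finite := by
  obtain ⟨V, hV, hyV, -⟩ := exists_isAffineOpen_mem_and_subset (x := y) (U := ⊤) trivial
  have hK : IsCompact ((f ⁻¹ᵁ V : X.Opens) : Set X) := QuasiCompact.isCompact_preimage _ V.2 hV.isCompact
  choose t ht hfin using fun x : X => α.supportLocallyFiniteWithinDomain' x trivial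
  obtain ⟨S, -, hS⟩ := hK.elim_nhds_subcover t fun x _ => ht x
  refine ((S.finite_toSet.biUnion fun x _ => hfin x)).subset fun ξ hξ => ?_
  obtain ⟨x, hx, hξx⟩ := Set.mem_iUnion₂.1 (hS (show f ξ ∈ V from hξ.1.mem_open V.2 hyV))
  exact Set.mem_biUnion hx ⟨hξx, hξ.2⟩

theorem length_fibre_pos [IsLocallyNoetherian X] {x : X} (hx : ∀ z, f z = f x → z ⤳ x → z = x) :
    (Module.length (X.presheaf.stalk x) (X.presheaf.stalk x ⧸ Ideal.map (f.stalkMap x).hom
      (maximalIdeal (Y.presheaf.stalk (f x))))).toNat ≠ 0 := by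
  set I := Ideal.map (f.stalkMap x).hom (maximalIdeal (Y.presheaf.stalk (f x)))
  have hle : I ≤ maximalIdeal (X.presheaf.stalk x) :=
    Ideal.map_le_iff_le_comap.2 fun a ha hu => ha (isUnit_of_map_unit _ a hu)
  rw [ne_eq, ENat.toNat_eq_zero, not_or]
  refine ⟨?_, ?_⟩
  · rw [Module.length_eq_zero_iff, not_subsingleton_iff_nontrivial]
    exact Ideal.Quotient.nontrivial_iff.2 (ne_top_of_le_ne_top (maximalIdeal.isMaximal _).ne_top hle)
  · refine CycLib.length_ne_top_of_support fun Q hQ => ?_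
    rw [Module.support_eq_zeroLocus, Ideal.annihilator_quotient, PrimeSpectrum.mem_zeroLocus,
      SetLike.coe_subset_coe] at hQ
    obtain ⟨z, hz, he⟩ := H23.StalkPrimes.exists_point Q.asIdeal
    have hQz : Q = primeOf hz := PrimeSpectrum.ext he.symm
    subst hQz
    have h0 : (primeOf (specializes_refl (f x))).asIdeal.map (f.stalkMap x).hom ≤ (primeOf hz).asIdeal := by
      rw [primeOf_refl]; exact hQ
    have h1 := (map_le_iff f hz (specializes_refl (f x))).1 h0
    obtain rfl : z = x := hx z ((hz.map f.continuous).antisymm h1).eq hz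
    exact primeOf_refl _ _

variable {K : Type u} [Field K] (gX : X ⟶ Spec (CommRingCat.of K)) (gY : Y ⟶ Spec (CommRingCat.of K))
  [Smooth gX] [Smooth gY] [IsIntegral X] [IsIntegral Y] [Flat f] [IsProper f]

include gX gY in
/-- **The projection formula.** -/
theorem map_interProd_pullFun {δX : X → ℤ} {δY : Y → ℤ} (hdX : Cyc.IsDimFun X δX) (hdY : Cyc.IsDimFun Y δY)
    (hδ : Cyc.DeltaCompat f δX δY) {n m : ℤ} (hn : δX (genericPoint X) = n) (hm : δY (genericPoint Y) = m)
    {e : ℕ} (he : (e : ℤ) = n - m) (hrel : Cyc.HasRelDim f e) {r s : ℤ} (α : AlgebraicCycle X ℤ)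
    (β : AlgebraicCycle Y ℤ) (hα : α ∈ Cyc.Zk X δX r) (hβ : β ∈ Cyc.Zk Y δY s)
    (hprop : IntMult.IntersectProperly δX n ⇑α (Cyc.pullFun f δX δY e ⇑β)) (γ : AlgebraicCycle X ℤ)
    (hγ : ⇑γ = IntMult.interProd δX n ⇑α (Cyc.pullFun f δX δY e ⇑β)) :
    IntMult.IntersectProperly δY m ⇑(AlgebraicCycle.map f δX δY α) ⇑β ∧
      IntMult.interProd δY m ⇑(AlgebraicCycle.map f δX δY α) ⇑β = ⇑(AlgebraicCycle.map f δX δY γ) := by
  haveI := LocallyOfFiniteType.isLocallyNoetherian gX
  haveI := LocallyOfFiniteType.isLocallyNoetherian gY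
  have hle := H23.FlatShift.le_of_hasRelDim f hrel hδ
  have hshift := H23.FlatShift.hasShift_of_hasRelDim f hrel hδ
  have hge : ∀ x, δY (f x) ≤ δX x := fun x => CycLib.le_of_deltaCompat f hδ x
  have hαr : ∀ {ξ}, α ξ ≠ 0 → δX ξ = r := fun {ξ} h => by_contra fun hc => h (hα ξ hc)
  have hβs : ∀ {η}, β η ≠ 0 → δY η = s := fun {η} h => by_contra fun hc => h (hβ η hc)
  -- points over the intersection
  have hP : ∀ {ξ η}, α ξ ≠ 0 → β η ≠ 0 → ∀ w, ξ ⤳ w → η ⤳ f w → δX w ≤ r + s - m := fun {ξ η} hξ hη w h1 h2 => by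
    obtain ⟨η₁, hη₁, rfl⟩ := CycLib.exists_generization f h2
    obtain ⟨η', hη', he', hmax⟩ := H23.FlatShift.exists_fibMax_gen f η₁
    have hδη : δX η' = δY (f η') + e := hshift.eq_of_fibMax hmax
    have hne : Cyc.pullFun f δX δY e ⇑β η' ≠ 0 := by
      rw [Cyc.pullFun, if_pos hδη]
      refine mul_ne_zero (he'.symm ▸ hη) ?_
      rw [Nat.cast_ne_zero]
      exact length_fibre_pos f ((H23.FlatShift.fibMax_iff f η').1 hmax)
    have h := hprop ξ η' w hξ hne h1 (hη'.trans hη₁)
    rw [hαr hξ, hδη, he', hβs hη] at h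
    omega
  have hlift : ∀ {ξ z}, f ξ ⤳ z → ∃ w, ξ ⤳ w ∧ f w = z := fun {ξ z} h => by
    have hc := f.isClosedMap _ (isClosed_closure (s := ({ξ} : Set X)))
    obtain ⟨w, hw, he'⟩ := h.mem_closed hc ⟨ξ, subset_closure rfl, rfl⟩
    exact ⟨w, specializes_iff_mem_closure.2 hw, he'⟩
  refine ⟨fun p η z hp hη hpz hηz => ?_, funext fun y => ?_⟩
  · rw [CycLib.map_apply'] at hp
    obtain ⟨ξ, hξp, hξ⟩ := exists_ne_zero_of_finsum_mem_ne_zero hp
    obtain rfl : f ξ = p := hξp
    obtain ⟨w, hw, rfl⟩ := hlift hpz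
    have h := hP (left_ne_zero_of_mul hξ) hη w hw hηz
    have hc : δX ξ = δY (f ξ) := by
      by_contra hc
      refine right_ne_zero_of_mul hξ ?_
      rw [AlgebraicCycle.mapCoeff, if_neg (show ¬ δX ξ = δY (f.base ξ) from hc)]
      rfl
    have := hge w
    have := hαr (left_ne_zero_of_mul hξ)
    rw [hβs hη]
    omega
  let c : X → ℤ := fun x => (AlgebraicCycle.mapCoeff f δX δY x : ℤ)
  have hc : ∀ {x}, c x ≠ 0 → δX x = δY (f x) := fun {x} h => by_contra fun hc => h (by
    simp only [c, AlgebraicCycle.mapCoeff]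
    rw [if_neg (show ¬ δX x = δY (f.base x) from hc)]
    rfl)
  let one : Y → Y → ℤ := fun p q => if q = p then 1 else 0
  let oneX : X → X → ℤ := fun p q => if q = p then 1 else 0
  let Sα := (finite_cycle_preimage f α y).toFinset
  let Sβ := (finite_gens_cycle β y).toFinset
  have hFY := fun η : Y => H23.FlatShift.sheafFun_pullback f δX δY hle _ (Cyc.closureStructureSheaf η)
    fun q hq => ((sheafFun_closure hdY η).1 q hq).2
  have hpb : ∀ η, Cyc.pullFun f δX δY e (one η) =
      Cyc.sheafFun δX (δY η + e) ((Scheme.Modules.pullback f).obj (Cyc.closureStructureSheaf η)) := fun η => by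
    rw [show one η = _ from ((sheafFun_closure hdY η).2).symm]; exact (hFY η).2
  have hcY := fun η : Y => ZClosLib.isCoh_pullback f (DevK.isCoh_closure η)
  -- the pairwise formula
  have key : ∀ ξ ∈ Sα, ∀ η ∈ Sβ,
      ∑ᶠ x ∈ f ⁻¹' {y}, IntMult.interProd δX n (oneX ξ) (Cyc.pullFun f δX δY e (one η)) x * c x =
        c ξ * IntMult.interProd δY m (one (f ξ)) (one η) y ∧
      (Function.support fun x => (f ⁻¹' {y}).indicator
        (fun x => IntMult.interProd δX n (oneX ξ) (Cyc.pullFun f δX δY e (one η)) x * c x) x).Finite := by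
    intro ξ hξ η hη
    obtain ⟨hξy, hαξ⟩ := (Set.Finite.mem_toFinset _).1 hξ
    obtain ⟨hηy, hβη⟩ := (Set.Finite.mem_toFinset _).1 hη
    have hξr := hαr hαξ
    have hηs := hβs hβη
    simp only [oneX]
    rw [hpb, ← (sheafFun_closure hdX ξ).2]
    have hrs : ∀ w : X, Nontrivial ((Cyc.closureStructureSheaf ξ).presheaf.stalk w) →
        Nontrivial (((Scheme.Modules.pullback f).obj (Cyc.closureStructureSheaf η)).presheaf.stalk w) →
        δX w ≤ δX ξ + (δY η + e) - n := fun w h1 h2 => by
      have := hP hαξ hβη w ((sheafFun_closure hdX ξ).1 w h1).1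
        ((sheafFun_closure hdY η).1 _ (H23.FlatShift.nontrivial_of_pullback f _ w h2)).1
      omega
    have hI := fun x => interProd_eq gX hdX hn (DevK.isCoh_closure ξ) (hcY η) (fun w h => ((sheafFun_closure hdX ξ).1 w h).2)
      (hFY η).1 hrs x
    by_cases hy : δY y = r + s - m
    swap
    · have h0 : ∀ x ∈ f ⁻¹' {y}, IntMult.interProd δX n (Cyc.sheafFun δX (δX ξ) (Cyc.closureStructureSheaf ξ))
          (Cyc.sheafFun δX (δY η + e) ((Scheme.Modules.pullback f).obj (Cyc.closureStructureSheaf η))) x * c x = 0 :=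
        fun x hx => by
          by_contra h
          have h1 := hc (right_ne_zero_of_mul h)
          have h2 := left_ne_zero_of_mul h
          rw [hI x] at h2
          split_ifs at h2 with h3
          · rw [show f x = y from hx] at h1; omega
          · exact h2 rfl
      refine ⟨(finsum_mem_eq_zero_of_forall_eq_zero h0).trans ?_, ?_⟩
      · simp only [one]
        rw [interProd_one]
        split_ifs with h
        · by_cases hcξ : c ξ = 0
          · rw [hcξ, zero_mul]
          · have := hc hcξ; omega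
        · rw [mul_zero]
      · rw [Function.support_eq_empty_iff.2 (funext fun x => Set.indicator_apply_eq_zero.2 (h0 x))]
        exact Set.finite_empty
    -- the closure of `ξ`
    haveI : IsIntegral (IntMult.ptIdeal ξ).subscheme := QCoh.isIntegral_closure_point ξ
    set ι := (IntMult.ptIdeal ξ).subschemeι
    have hr : Set.range ι = closure {ξ} := by
      rw [Scheme.IdealSheafData.range_subschemeι, IntMult.ptIdeal, Scheme.IdealSheafData.coe_support_vanishingIdeal]
      rfl
    have hgen : ι (genericPoint (IntMult.ptIdeal ξ).subscheme) = ξ := by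
      obtain ⟨z, hz⟩ : ξ ∈ Set.range ι := hr ▸ subset_closure rfl
      have h1 : ξ ⤳ ι (genericPoint (IntMult.ptIdeal ξ).subscheme) :=
        specializes_iff_mem_closure.2 (hr ▸ Set.mem_range_self _)
      have h2 := ((genericPoint_spec (IntMult.ptIdeal ξ).subscheme).specializes (Set.mem_univ z)).map ι.continuous
      rw [hz] at h2
      exact (h2.antisymm h1).eq
    have hw : ∀ w, (ι ≫ f) w = y → δX (ι w) = δY y := fun w hw => by
      have h1 : ξ ⤳ ι w := specializes_iff_mem_closure.2 (hr ▸ Set.mem_range_self _)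
      have hfw : f (ι w) = y := hw
      have h2 := hP hαξ hβη (ι w) h1 (hfw.symm ▸ hηy)
      have h3 := hge (ι w)
      rw [hfw] at h3
      omega
    have hfib : ((ι ≫ f) ⁻¹' {y}).Finite := finite_antichain_fibre (ι ≫ f) y fun a b ha hb hab => by
      by_contra hne
      have h := CycLib.delta_lt hdX (hab.map ι.continuous) (ι.isClosedEmbedding.injective.ne hne)
      rw [hw a ha, hw b hb] at h
      omega
    haveI : Finite {w // (ι ≫ f) w = y} := Set.finite_coe_iff.2 hfib
    letI := Fintype.ofFinite {w // (ι ≫ f) w = y}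
    let I : X → ℤ := fun x => IntMult.interProd δX n (Cyc.sheafFun δX (δX ξ) (Cyc.closureStructureSheaf ξ))
      (Cyc.sheafFun δX (δY η + e) ((Scheme.Modules.pullback f).obj (Cyc.closureStructureSheaf η))) x * c x
    have hIsupp : ∀ x, I x ≠ 0 → x ∈ Set.range ι := fun x h => by
      by_contra hx
      have h2 := left_ne_zero_of_mul h
      rw [hI x] at h2
      split_ifs at h2 with h3
      · haveI := GrpSchLib.isRegularLocalRing_stalk_of_smooth gX x
        refine h2 (chi_eq_zero_of_subsingleton _ _ (Or.inl (not_nontrivial_iff_subsingleton.1 fun hn => hx ?_)))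
        rw [hr]
        exact specializes_iff_mem_closure.1 ((sheafFun_closure hdX ξ).1 x hn).1
      · exact h2 rfl
    refine ⟨?_, (hfib.image ι).subset fun x hx => ?_⟩
    swap
    · simp only [Function.mem_support, Set.indicator_apply_ne_zero] at hx
      obtain ⟨w, rfl⟩ := hIsupp x hx.2
      exact ⟨w, hx.1, rfl⟩
    show ∑ᶠ x ∈ f ⁻¹' {y}, I x = _
    rw [← CycLib.finsum_mem_preimage_eq ι ι.isClosedEmbedding.injective I (f ⁻¹' {y}) fun x _ h => hIsupp x h,
      ← finsum_subtype_eq_finsum_cond (f := fun w => I (ι w)) (fun w => w ∈ ι ⁻¹' (f ⁻¹' {y}))]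
    show ∑ᶠ w : {w // (ι ≫ f) w = y}, I (ι w.1) = _
    rw [finsum_eq_sum_of_fintype]
    haveI := GrpSchLib.isRegularLocalRing_stalk_of_smooth gY y
    haveI := finite_stalk (DevK.isCoh_closure (X := Y) η) y
    have hterm : ∀ w : {w // (ι ≫ f) w = y}, I (ι w.1) = (letI := algPt (ι ≫ f) w;
        IntMult.chi (Y.presheaf.stalk y) ((IntMult.ptIdeal ξ).subscheme.presheaf.stalk w.1)
          ((Cyc.closureStructureSheaf η).presheaf.stalk y)) := fun w => by
      have hwy : f (ι w.1) = y := w.2
      have hδw := hw w.1 w.2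
      have hfin : (f.residueFieldMap (ι w.1)).hom.Finite := by
        refine CycLib.finite_residueFieldMap_of_rd_eq_zero f _ ?_
        have h := CycLib.deltaCompat_eq f hδ (ι w.1)
        rw [hwy] at h
        omega
      rw [chi_point f ι w hfin]
      simp only [I, c]
      rw [hI, if_pos (by omega), AlgebraicCycle.mapCoeff,
        if_pos (show δX (ι w.1) = δY (f.base (ι w.1)) from hδw.trans (congrArg δY hwy.symm))]
      rfl
    rw [Finset.sum_congr rfl fun w _ => hterm w]
    have hgy : (ι ≫ f) (genericPoint (IntMult.ptIdeal ξ).subscheme) ⤳ y := by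
      show f (ι _) ⤳ y
      rwa [hgen]
    have hgen' : (ι ≫ f) (genericPoint (IntMult.ptIdeal ξ).subscheme) = f ξ := congrArg f hgen
    have d1 := CycLib.delta_le hdY hξy
    have d2 := CycLib.delta_le hdY hηy
    have d3 := hge ξ
    have d4 : δY y ≤ m := hm ▸ CycLib.delta_le hdY ((genericPoint_spec Y).specializes (Set.mem_univ y))
    rw [chi_push_eq (ι ≫ f) hdY hgy (p := (r - δY y).toNat) (q := (s - δY y).toNat) ?_ ?_ (chi_zero_stalk gY y) _ ?_ ?_]
    rotate_left
    · rw [CycLib.ringKrullDim_stalk_eq hdY y, hm, Nat.cast_inj]; omega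
    · rw [hgen']; omega
    · refine supportDim_stalk_le hdY (DevK.isCoh_closure η) fun q _ hq => ?_
      exact (((sheafFun_closure hdY η).1 q hq).2.trans hηs.le)
    · intro Q hQ
      obtain ⟨z, hz, hzQ⟩ := H23.StalkPrimes.exists_point Q.asIdeal
      have hQz : Q = primeOf hz := PrimeSpectrum.ext hzQ.symm
      subst hQz
      have h1 := hQ.1
      rw [Module.support_eq_zeroLocus, Ideal.annihilator_quotient, PrimeSpectrum.mem_zeroLocus,
        SetLike.coe_subset_coe, primeOf_le_iff] at h1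
      rw [hgen'] at h1
      have h2 := ((sheafFun_closure hdY η).1 z ((mem_support_primeOf (DevK.isCoh_closure η) hz).1 hQ.2)).1
      obtain ⟨w, hw', rfl⟩ := hlift h1
      have := hP hαξ hβη w hw' h2
      have := hge w
      have := CycLib.delta_le hdY hz
      obtain rfl : f w = y := CycLib.eq_of_delta_le hdY hz (by omega) |>.symm |>.symm
      exact primeOf_refl _ _
    simp only [one]
    rw [interProd_one]
    have hdeg : ((ι ≫ f).residueDegree (genericPoint (IntMult.ptIdeal ξ).subscheme)) = f.residueDegree ξ := by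
      rw [CycLib.residueDegree_comp, CycLib.residueDegree_preimmersion ι, mul_one, hgen]
    have hprime : (primeOf hgy).asIdeal = (primeOf hξy).asIdeal := by
      have : ∀ (z z' : Y) (hz : z ⤳ y) (hz' : z' ⤳ y), z = z' → (primeOf hz).asIdeal = (primeOf hz').asIdeal :=
        fun z z' hz hz' h => by subst h; rfl
      exact this _ _ _ _ hgen'
    rw [hdeg, hprime, hgen']
    obtain ⟨eN⟩ := nonempty_stalk_pushO (I := IntMult.ptIdeal η) (x := y) (mem_support_ptIdeal.2 hηy)
    by_cases hdim : δY (f ξ) = r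
    · rw [if_pos (by omega), if_pos ⟨hξy, hηy, by omega⟩]
      refine congrArg₂ (· * ·) ?_ ?_
      · simp only [c, AlgebraicCycle.mapCoeff]
        rw [if_pos (show δX ξ = δY (f.base ξ) from hξr.trans hdim.symm)]
      · rw [IntMult.mult, stalkIdeal_ptIdeal hξy]
        rw [chi_comm]
        exact chi_congr' eN
    · rw [if_neg (by omega), zero_mul, if_neg fun h => hdim (by omega), mul_zero]
  rw [CycLib.map_apply']
  have hmapexp : ∀ p : Y, p ⤳ y → AlgebraicCycle.map f δX δY α p = ∑ ξ ∈ Sα, (α ξ * c ξ) * one (f ξ) p := fun p hp => by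
    rw [CycLib.map_apply', finsum_mem_eq_sum_of_inter_support_eq _ (t := Sα.filter fun ξ => f ξ = p) ?_,
      Finset.sum_filter]
    · refine Finset.sum_congr rfl fun ξ _ => ?_
      simp only [one]
      by_cases h : f ξ = p
      · rw [if_pos h, if_pos h.symm, mul_one]
      · rw [if_neg h, if_neg (Ne.symm h), mul_zero]
    · ext ξ
      simp only [Set.mem_inter_iff, Set.mem_preimage, Set.mem_singleton_iff, Function.mem_support, Finset.coe_filter,
        Set.mem_setOf_eq, Sα, Set.Finite.mem_toFinset]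
      exact ⟨fun h => ⟨⟨⟨h.1 ▸ hp, left_ne_zero_of_mul h.2⟩, h.1⟩, h.2⟩, fun h => ⟨h.1.2, h.2⟩⟩
  have hexpY : ∀ p : Y, p ⤳ y → β p = ∑ η ∈ Sβ, β η * one η p := fun p hp => by
    simp only [one, mul_ite, mul_one, mul_zero, Finset.sum_ite_eq, Sβ, Set.Finite.mem_toFinset]
    split_ifs with h
    · rfl
    · exact not_not.1 fun h' => h ⟨hp, h'⟩
  have hone : ∀ p, {q : Y | q ⤳ y ∧ one p q ≠ 0}.Finite := fun p =>
    (Set.finite_singleton p).subset fun q hq => not_not.1 fun h => hq.2 (if_neg h)
  rw [interProd_sum Sα Sβ (fun ξ => α ξ * c ξ) β (fun ξ => one (f ξ)) one δY m hmapexp hexpY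
    (fun ξ _ => hone _) (fun η _ => hone η)]
  have hγexp : ∀ x ∈ f ⁻¹' {y}, γ x * c x =
      ∑ ξ ∈ Sα, ∑ η ∈ Sβ, α ξ * β η *
        (IntMult.interProd δX n (oneX ξ) (Cyc.pullFun f δX δY e (one η)) x * c x) := fun x hx => by
    have hxy : f x = y := hx
    have e1 : ∀ p : X, p ⤳ x → α p = ∑ ξ ∈ Sα, α ξ * oneX ξ p := fun p hp => by
      simp only [oneX, mul_ite, mul_one, mul_zero, Finset.sum_ite_eq, Sα, Set.Finite.mem_toFinset]
      split_ifs with h
      · rfl
      · exact not_not.1 fun h' => h ⟨hxy ▸ hp.map f.continuous, h'⟩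
    have e2 : ∀ p : X, p ⤳ x → Cyc.pullFun f δX δY e ⇑β p =
        ∑ η ∈ Sβ, β η * Cyc.pullFun f δX δY e (one η) p := fun p hp => by
      simp only [Cyc.pullFun]
      split_ifs
      · rw [hexpY (f p) (hxy ▸ hp.map f.continuous), Finset.sum_mul]
        simp only [mul_assoc]
      · simp
    rw [hγ, interProd_sum Sα Sβ α β oneX (fun η => Cyc.pullFun f δX δY e (one η)) δX n e1 e2
      (fun ξ _ => (Set.finite_singleton ξ).subset fun p hp => not_not.1 fun h => hp.2 (if_neg h))
      (fun η _ => by rw [hpb]; exact finite_gens_sheafFun gX hdX (hcY η) (hFY η).1), Finset.sum_mul]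
    refine Finset.sum_congr rfl fun ξ _ => ?_
    rw [Finset.sum_mul]
    exact Finset.sum_congr rfl fun η _ => by ring
  rw [finsum_mem_congr rfl hγexp, finsum_mem_def]
  have hpull : ∀ (ξ η : _) (x : X), (f ⁻¹' {y}).indicator (fun x => α ξ * β η *
      (IntMult.interProd δX n (oneX ξ) (Cyc.pullFun f δX δY e (one η)) x * c x)) x = α ξ * β η *
      (f ⁻¹' {y}).indicator (fun x => IntMult.interProd δX n (oneX ξ) (Cyc.pullFun f δX δY e (one η)) x * c x) x :=
    fun ξ η x => by by_cases h : x ∈ f ⁻¹' {y} <;> simp [h]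
  rw [finsum_congr fun x => show (f ⁻¹' {y}).indicator (fun x => ∑ ξ ∈ Sα, ∑ η ∈ Sβ, α ξ * β η *
      (IntMult.interProd δX n (oneX ξ) (Cyc.pullFun f δX δY e (one η)) x * c x)) x =
      ∑ P ∈ Sα ×ˢ Sβ, α P.1 * β P.2 * (f ⁻¹' {y}).indicator
        (fun x => IntMult.interProd δX n (oneX P.1) (Cyc.pullFun f δX δY e (one P.2)) x * c x) x by
    rw [Finset.sum_product]
    by_cases h : x ∈ f ⁻¹' {y} <;> simp [h]]
  rw [finsum_sum_comm (s := Sα ×ˢ Sβ) _ fun P hP => ?_]
  · rw [Finset.sum_product]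
    refine Finset.sum_congr rfl fun ξ hξ => Finset.sum_congr rfl fun η hη => ?_
    rw [← mul_finsum, ← finsum_mem_def, (key ξ hξ η hη).1]
    ring
  · obtain ⟨h1, h2⟩ := Finset.mem_product.1 hP
    exact (key P.1 h1 P.2 h2).2.subset fun x hx => right_ne_zero_of_mul hx

end Groth.Agent.IntMult63
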