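import Groth.Agent.IntMult63.LocalSum
import Groth.Agent.IntMult63.Bilin
import Groth.Agent.CycLib.DivPushProper
import Groth.Agent.FibDim.AffineSpaceFibre

/-! `chi` of the push-forward of an integral scheme along a morphism finite near a point. -/

set_option autoImplicit false
set_option linter.style.haveILetI false
set_option linter.unusedSectionVars false
set_option backward.isDefEq.respectTransparency false
set_option backward.isDefEq.respectTransparency.types false

universe u

open CategoryTheory CategoryTheory.Limits AlgebraicGeometry IsLocalRing TopologicalSpace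
open scoped Classical TensorProduct

namespace Groth.Agent.IntMult63

open Groth.Agent CDiv6 H23.StalkPrimes

variable {W Y : Scheme.{u}} (g : W ⟶ Y)

theorem exists_finite_affine_nhd [IsLocallyNoetherian Y] [IsProper g] (y : Y) (h : (g ⁻¹' {y}).Finite) :
    ∃ V : Y.Opens, IsAffineOpen V ∧ y ∈ V ∧ IsFinite (g ∣_ V) := by
  obtain ⟨V, hyV, hVf⟩ := exists_isFinite_morphismRestrict_of_finite_preimage_singleton g y h
  obtain ⟨V', hV', hyV', hle⟩ := exists_isAffineOpen_mem_and_subset (x := y) (U := V) hyV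
  refine ⟨V', hV', hyV', ?_⟩
  have := IsZariskiLocalAtTarget.restrict (P := @IsFinite) hVf (V.ι ⁻¹ᵁ V')
  refine (MorphismProperty.arrow_mk_iso_iff @IsFinite (morphismRestrictEq g ?_)).1
    ((MorphismProperty.arrow_mk_iso_iff @IsFinite (morphismRestrictRestrict g V (V.ι ⁻¹ᵁ V'))).1 this)
  rw [Scheme.Hom.image_preimage_eq_opensRange_inf, Scheme.Opens.opensRange_ι, inf_eq_right.2 (show V' ≤ V from hle)]

/-- The local ring at a point over `y` as an algebra over the local ring at `y`. -/
@[implicit_reducible]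
noncomputable def algPt {y : Y} (w : {w : W // g w = y}) :
    Algebra (Y.presheaf.stalk y) (W.presheaf.stalk w.1) :=
  (Y.presheaf.stalkSpecializes (specializes_of_eq w.2) ≫ g.stalkMap w.1).hom.toAlgebra

theorem algPt_germ {y : Y} (w : {w : W // g w = y}) {V : Y.Opens} (hy : y ∈ V) (a : Γ(Y, V)) :
    @algebraMap _ _ _ _ (algPt g w) (Y.presheaf.germ V y hy a) =
      W.presheaf.germ (g ⁻¹ᵁ V) w.1 (show g w.1 ∈ V from w.2.symm ▸ hy) (g.app V a) := by
  obtain ⟨w, rfl⟩ := w
  show (Y.presheaf.stalkSpecializes _ ≫ g.stalkMap w).hom _ = _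
  rw [TopCat.Presheaf.stalkSpecializes_refl, Category.id_comp]
  exact Scheme.Hom.germ_stalkMap_apply g V w hy a

set_option maxHeartbeats 1600000 in
theorem chi_push_eq [IsIntegral W] [IsLocallyNoetherian Y] [IsProper g] {δ : Y → ℤ} (hd : Cyc.IsDimFun Y δ) {y : Y}
    [IsRegularLocalRing (Y.presheaf.stalk y)] (hgy : g (genericPoint W) ⤳ y) [Finite {w : W // g w = y}]
    [Fintype {w : W // g w = y}] {p q : ℕ} (hpq : ((p + q : ℕ) : WithBot ℕ∞) = ringKrullDim (Y.presheaf.stalk y))
    (hp : δ (g (genericPoint W)) - δ y ≤ p)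
    (hser : ∀ P Q : PrimeSpectrum (Y.presheaf.stalk y),
      MeetPt (A := Y.presheaf.stalk y) (Y.presheaf.stalk y ⧸ P.asIdeal) (Y.presheaf.stalk y ⧸ Q.asIdeal) →
      ringKrullDim (Y.presheaf.stalk y ⧸ P.asIdeal) + ringKrullDim (Y.presheaf.stalk y ⧸ Q.asIdeal) <
        ringKrullDim (Y.presheaf.stalk y) →
      IntMult.chi (Y.presheaf.stalk y) (Y.presheaf.stalk y ⧸ P.asIdeal) (Y.presheaf.stalk y ⧸ Q.asIdeal) = 0)
    (N : Type u) [AddCommGroup N] [Module (Y.presheaf.stalk y) N] [Module.Finite (Y.presheaf.stalk y) N]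
    (hN : Module.supportDim (Y.presheaf.stalk y) N ≤ q)
    (hmeet : MeetPt (A := Y.presheaf.stalk y) (Y.presheaf.stalk y ⧸ (primeOf hgy).asIdeal) N) :
    ∑ w : {w : W // g w = y}, (letI := algPt g w; IntMult.chi (Y.presheaf.stalk y) (W.presheaf.stalk w.1) N) =
      (if δ (g (genericPoint W)) - δ y = p then (g.residueDegree (genericPoint W) : ℤ) else 0) *
        IntMult.chi (Y.presheaf.stalk y) (Y.presheaf.stalk y ⧸ (primeOf hgy).asIdeal) N := by
  haveI := LocallyOfFiniteType.isLocallyNoetherian g
  obtain ⟨V, hV, hyV, hVfin⟩ := exists_finite_affine_nhd g y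
    (Set.finite_coe_iff.1 (inferInstanceAs (Finite {w : W // g w = y})))
  haveI := hVfin
  obtain ⟨hU, hfin⟩ := CycLib.finite_app_of_restrict g hV
  let R := Γ(Y, V)
  let H₀ := Γ(W, g ⁻¹ᵁ V)
  let φ : R →+* H₀ := (g.app V).hom
  let pp := (hV.primeIdealOf ⟨y, hyV⟩).asIdeal
  letI : Algebra R (Y.presheaf.stalk y) := (Y.presheaf.germ V y hyV).hom.toAlgebra
  haveI : IsLocalization.AtPrime (Y.presheaf.stalk y) pp := hV.isLocalization_stalk ⟨y, hyV⟩
  let M := pp.primeCompl.map φ
  let H := Localization M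
  let ψ : (Y.presheaf.stalk y) →+* H := IsLocalization.map H φ (Submonoid.le_comap_map pp.primeCompl)
  letI := ψ.toAlgebra
  haveI : Module.Finite (Y.presheaf.stalk y) H := RingHom.finite_localizationPreserves φ pp.primeCompl (Y.presheaf.stalk y) H hfin
  have hgenU : genericPoint W ∈ g ⁻¹ᵁ V := (hgy.mem_open V.2 hyV)
  haveI : Nonempty ↥(g ⁻¹ᵁ V) := ⟨⟨_, hgenU⟩⟩
  haveI : Nonempty ↥(↑(g ⁻¹ᵁ V) : Scheme.{u}) := ⟨⟨_, hgenU⟩⟩
  let eK : H₀ →+* W.presheaf.stalk (genericPoint W) := (W.presheaf.germ (g ⁻¹ᵁ V) _ hgenU).hom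
  letI : Algebra H₀ (W.presheaf.stalk (genericPoint W)) := eK.toAlgebra
  haveI hfr : IsFractionRing H₀ W.functionField := functionField_isFractionRing_of_isAffineOpen W (g ⁻¹ᵁ V) hU
  have heKinj : Function.Injective eK := by
    intro a b hab
    exact IsFractionRing.injective H₀ W.functionField hab
  -- the points over `y`
  have hmemU : ∀ w : {w : W // g w = y}, w.1 ∈ g ⁻¹ᵁ V := fun w => show g w.1 ∈ V from w.2.symm ▸ hyV
  let eL : ∀ w : {w : W // g w = y}, H₀ →+* W.presheaf.stalk w.1 := fun w =>
    (W.presheaf.germ (g ⁻¹ᵁ V) w.1 (hmemU w)).hom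
  letI aL : ∀ w : {w : W // g w = y}, Algebra H₀ (W.presheaf.stalk w.1) := fun w => (eL w).toAlgebra
  haveI hLloc : ∀ w : {w : W // g w = y},
      IsLocalization.AtPrime (W.presheaf.stalk w.1) (hU.primeIdealOf ⟨w.1, hmemU w⟩).asIdeal :=
    fun w => hU.isLocalization_stalk ⟨w.1, hmemU w⟩
  have hMle : ∀ w : {w : W // g w = y}, M ≤ (hU.primeIdealOf ⟨w.1, hmemU w⟩).asIdeal.primeCompl := by
    rintro w _ ⟨a, ha, rfl⟩ hmem
    have hu : IsUnit (Y.presheaf.germ V y hyV a) := IsLocalization.map_units (Y.presheaf.stalk y) (⟨a, ha⟩ : pp.primeCompl)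
    letI := algPt g w
    have h2 := hu.map (algebraMap (Y.presheaf.stalk y) (W.presheaf.stalk w.1))
    rw [algPt_germ g w hyV a] at h2
    exact (IsLocalization.AtPrime.isUnit_to_map_iff (W.presheaf.stalk w.1) (hU.primeIdealOf ⟨w.1, hmemU w⟩).asIdeal _).1 h2 hmem
  letI aHL : ∀ w : {w : W // g w = y}, Algebra H (W.presheaf.stalk w.1) := fun w =>
    (IsLocalization.lift (M := M) (g := eL w) fun s => IsLocalization.map_units (W.presheaf.stalk w.1)
      (⟨s.1, hMle w s.2⟩ : (hU.primeIdealOf ⟨w.1, hmemU w⟩).asIdeal.primeCompl)).toAlgebra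
  letI aAL : ∀ w : {w : W // g w = y}, Algebra (Y.presheaf.stalk y) (W.presheaf.stalk w.1) := fun w => algPt g w
  haveI : ∀ w : {w : W // g w = y}, IsScalarTower H₀ H (W.presheaf.stalk w.1) := fun w =>
    IsScalarTower.of_algebraMap_eq fun r => (IsLocalization.lift_eq _ r).symm
  haveI : ∀ w : {w : W // g w = y}, IsScalarTower (Y.presheaf.stalk y) H (W.presheaf.stalk w.1) := fun w =>
    IsScalarTower.of_algebraMap_eq' (IsLocalization.ringHom_ext pp.primeCompl (RingHom.ext fun r => by
      show algebraMap (Y.presheaf.stalk y) (W.presheaf.stalk w.1) (Y.presheaf.germ V y hyV r) = algebraMap H _ (ψ (algebraMap R (Y.presheaf.stalk y) r))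
      rw [algPt_germ g w hyV r, IsLocalization.map_eq]
      exact (IsLocalization.lift_eq _ _).symm))
  haveI hHL : ∀ w : {w : W // g w = y}, IsLocalization
      ((hU.primeIdealOf ⟨w.1, hmemU w⟩).asIdeal.primeCompl.map (algebraMap H₀ H)) (W.presheaf.stalk w.1) := fun w =>
    IsLocalization.isLocalization_of_submonoid_le H (W.presheaf.stalk w.1) M _ (hMle w)
  let m : {w : W // g w = y} → Ideal H := fun w => (maximalIdeal (W.presheaf.stalk w.1)).comap (algebraMap H _)
  haveI : Algebra.IsIntegral (Y.presheaf.stalk y) H := Algebra.IsIntegral.of_finite _ _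
  haveI hloc : ∀ w : {w : W // g w = y}, IsLocalHom (algebraMap (Y.presheaf.stalk y) (W.presheaf.stalk w.1)) := fun w => by
    obtain ⟨w, rfl⟩ := w
    refine ⟨fun a ha => ?_⟩
    change IsUnit ((Y.presheaf.stalkSpecializes _ ≫ g.stalkMap w).hom a) at ha
    rw [TopCat.Presheaf.stalkSpecializes_refl, Category.id_comp] at ha
    exact (isUnit_map_iff (g.stalkMap w).hom a).1 ha
  haveI hmmax : ∀ w, (m w).IsMaximal := fun w => by
    haveI : (m w).IsPrime := Ideal.comap_isPrime _ _
    refine Ideal.isMaximal_of_isIntegral_of_isMaximal_comap (R := (Y.presheaf.stalk y)) _ ?_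
    have e : (m w).comap (algebraMap (Y.presheaf.stalk y) H) = maximalIdeal (Y.presheaf.stalk y) := by
      rw [Ideal.comap_comap, ← IsScalarTower.algebraMap_eq, IsLocalRing.maximalIdeal_comap]
    rw [e]
    exact maximalIdeal.isMaximal _
  haveI hmloc : ∀ w, IsLocalization.AtPrime (W.presheaf.stalk w.1) (m w) := fun w => by
    refine IsLocalization.of_le ((hU.primeIdealOf ⟨w.1, hmemU w⟩).asIdeal.primeCompl.map (algebraMap H₀ H)) _
      ?_ fun r hr => ?_
    · intro r hr hmem
      exact hmem (IsLocalization.map_units (W.presheaf.stalk w.1) (⟨r, hr⟩ :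
        (hU.primeIdealOf ⟨w.1, hmemU w⟩).asIdeal.primeCompl.map (algebraMap H₀ H)))
    · by_contra hu
      exact hr hu
  have hmcomap : ∀ w, (m w).comap (algebraMap H₀ H) = (hU.primeIdealOf ⟨w.1, hmemU w⟩).asIdeal := fun w => by
    rw [Ideal.comap_comap, ← IsScalarTower.algebraMap_eq]
    exact IsLocalization.AtPrime.under_maximalIdeal (W.presheaf.stalk w.1) (hU.primeIdealOf ⟨w.1, hmemU w⟩).asIdeal
  have hinj : Function.Injective m := fun w w' h => by
    have h1 : hU.primeIdealOf ⟨w.1, hmemU w⟩ = hU.primeIdealOf ⟨w'.1, hmemU w'⟩ :=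
      PrimeSpectrum.ext (by rw [← hmcomap, ← hmcomap, h])
    exact Subtype.ext ((hU.fromSpec_primeIdealOf ⟨w.1, hmemU w⟩).symm.trans
      ((congrArg hU.fromSpec h1).trans (hU.fromSpec_primeIdealOf ⟨w'.1, hmemU w'⟩)))
  have hall : ∀ P : Ideal H, P.IsMaximal → ∃ w, m w = P := fun P hP => by
    haveI := hP.isPrime
    let qq : PrimeSpectrum H₀ := ⟨P.comap (algebraMap H₀ H), Ideal.comap_isPrime _ _⟩
    obtain ⟨w, hw, hwq⟩ := QCoh.exists_point hU qq
    have hA : P.comap (algebraMap (Y.presheaf.stalk y) H) = maximalIdeal (Y.presheaf.stalk y) :=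
      eq_maximalIdeal (Ideal.isMaximal_comap_of_isIntegral_of_isMaximal P)
    have hcomp : (algebraMap H₀ H).comp φ = (algebraMap (Y.presheaf.stalk y) H).comp (algebraMap R (Y.presheaf.stalk y)) := RingHom.ext fun r => by
      show algebraMap H₀ H (φ r) = ψ (algebraMap R (Y.presheaf.stalk y) r)
      rw [IsLocalization.map_eq]
    have hpw : hV.primeIdealOf ⟨g w, hw⟩ = hV.primeIdealOf ⟨y, hyV⟩ := by
      have h1 := congrArg PrimeSpectrum.asIdeal
        (IsAffineOpen.comap_primeIdealOf_appLE (f := g) V hV (g ⁻¹ᵁ V) hU le_rfl (x := w) hw)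
      rw [← Scheme.Hom.app_eq_appLE] at h1
      change (hU.primeIdealOf ⟨w, hw⟩).asIdeal.comap φ = (hV.primeIdealOf ⟨g w, hw⟩).asIdeal at h1
      refine PrimeSpectrum.ext (h1.symm.trans ?_)
      rw [hwq]
      show (P.comap (algebraMap H₀ H)).comap φ = pp
      rw [Ideal.comap_comap, hcomp, ← Ideal.comap_comap, hA]
      exact IsLocalization.AtPrime.under_maximalIdeal (Y.presheaf.stalk y) pp
    have hwy : g w = y := (hV.fromSpec_primeIdealOf ⟨g w, hw⟩).symm.trans
      ((congrArg hV.fromSpec hpw).trans (hV.fromSpec_primeIdealOf ⟨y, hyV⟩))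
    refine ⟨⟨w, hwy⟩, ?_⟩
    haveI : (m ⟨w, hwy⟩).IsPrime := Ideal.comap_isPrime _ _
    rw [← IsLocalization.map_under M H (m ⟨w, hwy⟩), ← IsLocalization.map_under M H P]
    refine congrArg (Ideal.map _) ((hmcomap ⟨w, hwy⟩).trans ?_)
    show (hU.primeIdealOf ⟨w, _⟩).asIdeal = _
    rw [hwq]
  -- the map to the function field
  have hKunit : ∀ s : M, IsUnit (eK s) := fun s => by
    refine IsUnit.mk0 (G₀ := W.functionField) _ fun h => ?_
    obtain ⟨a, ha, has⟩ := s.2
    have h0 : (s : H₀) = 0 := heKinj (h.trans (map_zero eK).symm)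
    obtain ⟨w0, hw0⟩ : ∃ w : W, g w = y := by
      have hcl : IsClosed (Set.range g) := g.isClosedMap.isClosed_range
      exact hgy.mem_closed hcl ⟨_, rfl⟩
    exact hMle ⟨w0, hw0⟩ s.2 (by rw [h0]; exact zero_mem _)
  let hHK : H →+* W.presheaf.stalk (genericPoint W) := IsLocalization.lift (M := M) hKunit
  have hcomp : ∀ r : R, hHK (algebraMap (Y.presheaf.stalk y) H (Y.presheaf.germ V y hyV r)) = eK (φ r) := fun r => by
    show hHK (ψ (algebraMap R (Y.presheaf.stalk y) r)) = _
    rw [IsLocalization.map_eq, IsLocalization.lift_eq]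
  let σ : (Y.presheaf.stalk y) →+* Y.presheaf.stalk (g (genericPoint W)) := (Y.presheaf.stalkSpecializes hgy).hom
  have hσ : ∀ a : (Y.presheaf.stalk y), hHK (algebraMap (Y.presheaf.stalk y) H a) = (g.stalkMap (genericPoint W)).hom (σ a) := fun a => by
    refine RingHom.congr_fun (IsLocalization.ringHom_ext pp.primeCompl
      (j := hHK.comp (algebraMap (Y.presheaf.stalk y) H)) (k := (g.stalkMap (genericPoint W)).hom.comp σ) (RingHom.ext fun r => ?_)) a
    show hHK (algebraMap (Y.presheaf.stalk y) H (Y.presheaf.germ V y hyV r)) = _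
    rw [hcomp]
    show _ = (g.stalkMap (genericPoint W)) ((Y.presheaf.stalkSpecializes hgy) (Y.presheaf.germ V y hyV r))
    rw [TopCat.Presheaf.germ_stalkSpecializes_apply]
    exact (Scheme.Hom.germ_stalkMap_apply g V _ hgenU r).symm
  have hHKinj : Function.Injective hHK := by
    refine (IsLocalization.lift_injective_iff (M := M) hKunit).2 fun a b => ⟨fun h => ?_, fun h => ?_⟩
    · obtain ⟨c, hc⟩ := (IsLocalization.eq_iff_exists M H).1 h
      exact (hKunit c).mul_left_cancel (by rw [← map_mul, hc, map_mul])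
    · exact congrArg _ (heKinj h)
  have hzero : ∀ a : (Y.presheaf.stalk y), algebraMap (Y.presheaf.stalk y) H a = 0 ↔ a ∈ (primeOf hgy).asIdeal := fun a => by
    rw [← hHKinj.eq_iff, map_zero, hσ, mem_primeOf]
    refine ⟨fun h hu => ?_, fun h => ?_⟩
    · exact (hu.map (g.stalkMap (genericPoint W)).hom).ne_zero h
    · by_contra hne
      exact h ((isUnit_map_iff (g.stalkMap (genericPoint W)).hom _).1 (IsUnit.mk0 (G₀ := W.functionField) _ hne))
  have hsupp : ∀ Q : PrimeSpectrum (Y.presheaf.stalk y), Q ∈ Module.support (Y.presheaf.stalk y) H → (primeOf hgy).asIdeal ≤ Q.asIdeal := fun Q hQ a ha => by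
    rw [Module.support_eq_zeroLocus, PrimeSpectrum.mem_zeroLocus] at hQ
    exact hQ (Module.mem_annihilator.2 fun h => by rw [Algebra.smul_def, (hzero a).2 ha, zero_mul])
  have hmeetH : MeetPt (A := Y.presheaf.stalk y) H N := fun Q hQ => hmeet ⟨by
    rw [Module.support_eq_zeroLocus, Ideal.annihilator_quotient, PrimeSpectrum.mem_zeroLocus]
    exact hsupp Q hQ.1, hQ.2⟩
  have hdim0 : ringKrullDim ((Y.presheaf.stalk y) ⧸ (primeOf hgy).asIdeal) ≤ p := by
    rw [dim_quot_primeOf hd hgy, Nat.cast_le]; omega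
  have hsH : Module.supportDim (Y.presheaf.stalk y) H ≤ p := by
    refine le_trans ?_ hdim0
    rw [← Module.supportDim_quotient_eq_ringKrullDim]
    refine Order.krullDim_le_of_strictMono (fun Q => ⟨Q.1, ?_⟩) fun a b h => h
    rw [Module.support_eq_zeroLocus, Ideal.annihilator_quotient, PrimeSpectrum.mem_zeroLocus]
    exact hsupp Q.1 Q.2
  rw [← chi_eq_sum_local (A := Y.presheaf.stalk y) (H := H) (fun w : {w : W // g w = y} => W.presheaf.stalk w.1) m hinj hall N hmeetH,
    chi_eq_sum_primes hser hpq H N hsH hN hmeetH,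
    chi_eq_sum_primes hser hpq _ N (by rw [Module.supportDim_quotient_eq_ringKrullDim]; exact hdim0) hN hmeet,
    mul_finsum]
  refine finsum_congr fun P => ?_
  rw [← mul_assoc]
  congr 1
  by_cases hPP : (primeOf hgy) = P.1
  swap
  · have h1 : P.1 ∉ Module.support (Y.presheaf.stalk y) H := fun h => by
      refine hPP ?_
      by_contra hne
      obtain ⟨ζ, hζ, he⟩ := H23.StalkPrimes.exists_point P.1.asIdeal
      have hle : (primeOf hgy).asIdeal ≤ (primeOf hζ).asIdeal := he.symm ▸ hsupp _ h
      have hs := (primeOf_le_iff hζ hgy).1 hle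
      have hlt := CycLib.delta_lt hd hs fun e => hne (by
        refine PrimeSpectrum.ext ?_
        rw [← he]
        subst e
        rfl)
      have h2 := P.2
      rw [show P.1.asIdeal = (primeOf hζ).asIdeal from he.symm, dim_quot_primeOf hd hζ, Nat.cast_inj] at h2
      have := CycLib.delta_le hd hgy
      have := CycLib.delta_le hd hζ
      omega
    haveI : Subsingleton (LocalizedModule P.1.asIdeal.primeCompl H) :=
      not_nontrivial_iff_subsingleton.1 fun hnt => h1 (Module.mem_support_iff.2 hnt)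
    have hz : cAt P.1 ((Y.presheaf.stalk y) ⧸ (primeOf hgy).asIdeal) = 0 := by
      rw [cAt, CycLib.length_localized_quot_prime (primeOf hgy) P.1 p hdim0 P.2, if_neg hPP]
      rfl
    rw [hz, mul_zero]
    simp [cAt, Module.length_eq_zero]
  have hδp : δ (g (genericPoint W)) - δ y = p := by
    have h2 := P.2
    rw [← hPP, dim_quot_primeOf hd hgy, Nat.cast_inj] at h2
    have := CycLib.delta_le hd hgy
    omega
  rw [if_pos hδp, show cAt P.1 ((Y.presheaf.stalk y) ⧸ (primeOf hgy).asIdeal) = 1 by
    rw [cAt, CycLib.length_localized_quot_prime (primeOf hgy) P.1 p hdim0 P.2, if_pos hPP]; rfl, mul_one]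
  -- the multiplicity at the generic point is the degree
  rw [← hPP]
  set S := (primeOf hgy).asIdeal.primeCompl
  letI : Algebra H (W.presheaf.stalk (genericPoint W)) := hHK.toAlgebra
  letI : Algebra (Y.presheaf.stalk y) (W.presheaf.stalk (genericPoint W)) := (hHK.comp (algebraMap (Y.presheaf.stalk y) H)).toAlgebra
  haveI : IsScalarTower (Y.presheaf.stalk y) H (W.presheaf.stalk (genericPoint W)) := IsScalarTower.of_algebraMap_eq fun _ => rfl
  haveI : IsLocalization (Algebra.algebraMapSubmonoid H S) (W.presheaf.stalk (genericPoint W)) := by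
    have hu : ∀ s : Algebra.algebraMapSubmonoid H S, IsUnit (hHK s) := by
      rintro ⟨_, a, ha, rfl⟩
      refine IsUnit.mk0 (G₀ := W.functionField) _ fun h => ha ((hzero a).1 (hHKinj (h.trans (map_zero hHK).symm)))
    let D := Localization (Algebra.algebraMapSubmonoid H S)
    haveI : IsDomain H := hHKinj.isDomain hHK
    have hle : Algebra.algebraMapSubmonoid H S ≤ nonZeroDivisors H := by
      rintro _ ⟨a, ha, rfl⟩
      exact mem_nonZeroDivisors_iff_ne_zero.2 fun h => ha ((hzero a).1 h)
    haveI : IsDomain D := IsLocalization.isDomain_localization hle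
    let AP := Localization.AtPrime (primeOf hgy).asIdeal
    haveI : IsLocalization (Submonoid.map (algebraMap (Y.presheaf.stalk y) H) S) D :=
      inferInstanceAs (IsLocalization (Algebra.algebraMapSubmonoid H S) (Localization (Algebra.algebraMapSubmonoid H S)))
    let ψD : AP →+* D := IsLocalization.map D (algebraMap (Y.presheaf.stalk y) H) (Submonoid.le_comap_map S)
    letI := ψD.toAlgebra
    haveI : Module.Finite AP D := RingHom.finite_localizationPreserves (algebraMap (Y.presheaf.stalk y) H) S AP D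
      (RingHom.finite_algebraMap.2 inferInstance)
    haveI : Algebra.IsIntegral AP D := Algebra.IsIntegral.of_finite _ _
    have hbot : (⊥ : Ideal D).IsMaximal := by
      refine Ideal.isMaximal_of_isIntegral_of_isMaximal_comap (R := AP) _ ?_
      have h : maximalIdeal AP ≤ (⊥ : Ideal D).comap (algebraMap AP D) := by
        rw [← Localization.AtPrime.map_eq_maximalIdeal, Ideal.map_le_iff_le_comap]
        intro a ha
        show ψD (algebraMap (Y.presheaf.stalk y) AP a) = 0
        rw [IsLocalization.map_eq, (hzero a).2 ha, map_zero]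
      rw [← (maximalIdeal.isMaximal AP).eq_of_le (Ideal.IsPrime.ne_top inferInstance) h]
      exact maximalIdeal.isMaximal _
    have hfld : IsField D := by
      by_contra hne
      obtain ⟨I, h0, htop⟩ := Ring.not_isField_iff_exists_ideal_bot_lt_and_lt_top.1 hne
      exact htop.ne (hbot.1.2 I h0)
    letI := hfld.toField
    let τ : D →+* W.presheaf.stalk (genericPoint W) := IsLocalization.lift (M := Algebra.algebraMapSubmonoid H S) hu
    have hτ : Function.Bijective τ := by
      refine ⟨τ.injective, fun z => ?_⟩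
      obtain ⟨a, b, hb, hab⟩ := IsFractionRing.div_surjective (A := H₀) (z : W.functionField)
      refine ⟨algebraMap H D (algebraMap H₀ H a) / algebraMap H D (algebraMap H₀ H b), ?_⟩
      rw [map_div₀ (f := (τ : D →+* W.functionField))]
      refine Eq.trans ?_ hab
      congr 1 <;> exact (IsLocalization.lift_eq _ _).trans (IsLocalization.lift_eq _ _)
    exact IsLocalization.isLocalization_of_algEquiv _ (AlgEquiv.ofBijective
      ({ τ with commutes' := fun r => IsLocalization.lift_eq _ r } : D →ₐ[H] W.presheaf.stalk (genericPoint W)) hτ)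
  haveI : IsLocalizedModule S (IsScalarTower.toAlgHom (Y.presheaf.stalk y) H (W.presheaf.stalk (genericPoint W))).toLinearMap :=
    isLocalizedModule_iff_isLocalization.2 inferInstance
  let eP := (IsLocalizedModule.iso S (IsScalarTower.toAlgHom (Y.presheaf.stalk y) H (W.presheaf.stalk (genericPoint W))).toLinearMap)
  let AP := Localization.AtPrime (primeOf hgy).asIdeal
  letI : Algebra (Y.presheaf.stalk y) (Y.presheaf.stalk (g (genericPoint W))) := σ.toAlgebra
  haveI : IsLocalization.AtPrime (Y.presheaf.stalk (g (genericPoint W))) (primeOf hgy).asIdeal := isLocalization_primeOf hgy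
  let ε : AP ≃ₐ[(Y.presheaf.stalk y)] Y.presheaf.stalk (g (genericPoint W)) := IsLocalization.algEquiv S AP _
  letI : Algebra (Y.presheaf.stalk (g (genericPoint W))) (W.presheaf.stalk (genericPoint W)) :=
    (g.stalkMap (genericPoint W)).hom.toAlgebra
  letI : Algebra AP (Y.presheaf.stalk (g (genericPoint W))) := ε.toAlgHom.toRingHom.toAlgebra
  letI : Algebra AP (W.presheaf.stalk (genericPoint W)) :=
    ((g.stalkMap (genericPoint W)).hom.comp ε.toAlgHom.toRingHom).toAlgebra
  haveI : IsScalarTower AP (Y.presheaf.stalk (g (genericPoint W))) (W.presheaf.stalk (genericPoint W)) :=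
    IsScalarTower.of_algebraMap_eq fun _ => rfl
  haveI : IsScalarTower (Y.presheaf.stalk y) AP (W.presheaf.stalk (genericPoint W)) := IsScalarTower.of_algebraMap_eq fun a => by
    show hHK (algebraMap (Y.presheaf.stalk y) H a) = (g.stalkMap (genericPoint W)).hom (ε (algebraMap (Y.presheaf.stalk y) AP a))
    rw [AlgEquiv.commutes, hσ]
    rfl
  rw [cAt, (eP.extendScalarsOfIsLocalization S AP).length_eq,
    Module.length_eq_of_surjective (S := AP) (R := Y.presheaf.stalk (g (genericPoint W)))
      (M := W.presheaf.stalk (genericPoint W)) ε.surjective]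
  letI : Algebra (Y.presheaf.stalk (g (genericPoint W))) (W.residueField (genericPoint W)) :=
    ((W.residue (genericPoint W)).hom.comp (g.stalkMap (genericPoint W)).hom).toAlgebra
  letI ak := (g.residueFieldMap (genericPoint W)).hom.toAlgebra
  letI : Algebra (Y.presheaf.stalk (g (genericPoint W))) (Y.residueField (g (genericPoint W))) :=
    (Y.residue (g (genericPoint W))).hom.toAlgebra
  haveI : IsScalarTower (Y.presheaf.stalk (g (genericPoint W))) (Y.residueField (g (genericPoint W)))
      (W.residueField (genericPoint W)) :=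
    IsScalarTower.of_algebraMap_eq' (congrArg CommRingCat.Hom.hom (Scheme.residue_residueFieldMap g _)).symm
  have hres : Function.Bijective (W.residue (genericPoint W)).hom :=
    ⟨(RingHom.injective ((W.residue (genericPoint W)).hom : W.functionField →+* _)), W.residue_surjective _⟩
  let eR : W.presheaf.stalk (genericPoint W) ≃ₗ[Y.presheaf.stalk (g (genericPoint W))] W.residueField (genericPoint W) :=
    LinearEquiv.ofBijective ({ toFun := (W.residue (genericPoint W)).hom
                               map_add' := map_add _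
                               map_smul' := fun a b => map_mul (W.residue (genericPoint W)).hom _ _ } :
      W.presheaf.stalk (genericPoint W) →ₗ[Y.presheaf.stalk (g (genericPoint W))] W.residueField (genericPoint W)) hres
  rw [eR.length_eq, Module.length_eq_of_surjective (S := Y.presheaf.stalk (g (genericPoint W)))
    (R := Y.residueField (g (genericPoint W))) (M := W.residueField (genericPoint W)) (Y.residue_surjective _)]
  have hfinK : Module.Finite (Y.residueField (g (genericPoint W))) (W.residueField (genericPoint W)) := by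
    haveI : LocallyQuasiFinite (g ∣_ V) := inferInstance
    refine CycLib.finite_residueFieldMap_of_rd_eq_zero g (genericPoint W) ?_
    have h := FibDim.rd_eq_zero_of_quasiFinite (g ∣_ V) ⟨genericPoint W, hgenU⟩
    have e : (g ⁻¹ᵁ V).ι ⟨genericPoint W, hgenU⟩ = genericPoint W := rfl
    rw [← e, ← FibDim.rd_opens g (g ⁻¹ᵁ V) ⟨genericPoint W, hgenU⟩, ← morphismRestrict_ι, CycLib.rd_comp,
      h, FibDim.rd_eq_zero_of_quasiFinite V.ι]
  rw [Module.length_eq_finrank, ENat.toNat_natCast]
  rfl

end Groth.Agent.IntMult63
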